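import Cfsg.Agent.Base
import Cfsg.Agent.S0016
import Cfsg.Agent.Lib.PGroup.Extra
import Cfsg.Agent.Lib.BG5.Rank
import Cfsg.Agent.Lib.Core.HallSZ
import Cfsg.Agent.Lib.Core.CoprimeBasic
import Cfsg.Agent.Lib.FGS.ClassSize

/-!
`p`-groups in which (abelian) subgroups of equal order are isomorphic.
-/

set_option autoImplicit false

namespace H78.ConjSub

open Subgroup
open scoped commutatorElement Pointwise

variable {G : Type*} [Group G] {p : ℕ}

theorem nonempty_equiv_of_conj {P : Subgroup G} {H K : Subgroup P} {g : G}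
    (h : K.map P.subtype = (H.map P.subtype).map (MulAut.conj g).toMonoidHom) :
    Nonempty (H ≃* K) :=
  ⟨((H.equivMapOfInjective _ P.subtype_injective).trans
    ((MulAut.conj g).subgroupMap _)).trans
    ((MulEquiv.subgroupCongr h.symm).trans (K.equivMapOfInjective _ P.subtype_injective).symm)⟩

theorem isMulCommutative_of_equiv {A B : Type*} [Group A] [Group B] (e : A ≃* B)
    (h : IsMulCommutative A) : IsMulCommutative B :=
  ⟨⟨fun a b => e.symm.injective (by rw [map_mul, map_mul, h.is_comm.comm])⟩⟩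

theorem exists_orderOf_eq_sq [Finite G] [hp : Fact p.Prime] (hG : IsPGroup p G) {x : G}
    (hx : x ^ p ≠ 1) : ∃ y : G, orderOf y = p ^ 2 := by
  obtain ⟨k, hk⟩ := IsPGroup.iff_orderOf.mp hG x
  have h2 : 2 ≤ k := by
    by_contra h
    apply hx
    rw [← orderOf_dvd_iff_pow_eq_one, hk]
    simpa using pow_dvd_pow p (show k ≤ 1 by omega)
  refine ⟨x ^ (orderOf x / p ^ 2), orderOf_pow_orderOf_div (orderOf_pos x).ne' ?_⟩
  rw [hk]
  exact pow_dvd_pow p h2

theorem pow_eq_one_or_unique [Finite G] [hp : Fact p.Prime] (hG : IsPGroup p G)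
    (h : ∀ A B : Subgroup G, IsMulCommutative A → IsMulCommutative B → Nat.card A = Nat.card B →
      Nonempty (A ≃* B)) :
    (∀ x : G, x ^ p = 1) ∨ ∀ H K : Subgroup G, Nat.card H = p → Nat.card K = p → H = K := by
  by_contra hn
  push Not at hn
  obtain ⟨⟨x, hx⟩, H, K, hH, hK, hne⟩ := hn
  obtain ⟨y, hy⟩ := exists_orderOf_eq_sq hG hx
  obtain ⟨z, -, hz, hzo⟩ := H5.exists_mem_center_orderOf_eq hG ⊤ (fun e => by
    have : y ∈ (⊥ : Subgroup G) := e ▸ mem_top y
    rw [mem_bot.mp this, orderOf_one] at hy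
    exact (Nat.one_lt_pow two_ne_zero hp.out.one_lt).ne hy)
  obtain ⟨L, hL, hzL⟩ : ∃ L : Subgroup G, Nat.card L = p ∧ z ∉ L := by
    by_contra hc
    push Not at hc
    have aux : ∀ L : Subgroup G, Nat.card L = p → zpowers z = L := fun L hL =>
      eq_of_le_of_card_ge (zpowers_le.mpr (hc L hL)) (by rw [hL, Nat.card_zpowers, hzo])
    exact hne ((aux H hH).symm.trans (aux K hK))
  have hzp : z ^ p = 1 := hzo ▸ pow_orderOf_eq_one z
  have hzc : z ∈ centralizer (L : Set G) := center_le_centralizer _ hz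
  have hzn := centralizer_le_normalizer _ hzc
  haveI := isCyclic_of_prime_card hL
  obtain ⟨e⟩ := h (zpowers y) (L ⊔ zpowers z) inferInstance
    (H5.isMulCommutative_sup_zpowers inferInstance hzc)
    (by rw [H5.card_sup_zpowers hp.out hzn hzL (hzp ▸ one_mem _), hL, Nat.card_zpowers, hy, sq])
  have h1 : (e ⟨y, mem_zpowers y⟩) ^ p = 1 := by
    obtain ⟨k, hk, i, hi⟩ := (H5.mem_sup_zpowers_iff hzn).mp (e ⟨y, mem_zpowers y⟩).2
    apply Subtype.ext
    rw [SubmonoidClass.coe_pow, hi, (Commute.zpow_right (mem_center_iff.mp hz k) i).mul_pow,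
      ← zpow_natCast (z ^ i), ← zpow_mul, mul_comm i, zpow_mul, zpow_natCast, hzp, one_zpow,
      mul_one, ← hL]
    exact congrArg Subtype.val (pow_card_eq_one' (x := (⟨k, hk⟩ : L)))
  have h2 := orderOf_dvd_of_pow_eq_one h1
  rw [e.orderOf_eq, ← orderOf_coe, hy] at h2
  have := Nat.le_of_dvd hp.out.pos h2
  nlinarith [hp.out.two_le]

theorem isMulCommutative_of_sq_eq_one (h : ∀ x : G, x ^ 2 = 1) : IsMulCommutative G :=
  ⟨⟨fun a b => (Commute.of_orderOf_dvd_two (fun g => orderOf_dvd_of_pow_eq_one (h g)) a b).eq⟩⟩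

theorem quaternion_le_one {n : ℕ}
    (h : ∀ A B : Subgroup (QuaternionGroup (2 ^ n)), Nat.card A = Nat.card B → Nonempty (A ≃* B)) :
    n ≤ 1 := by
  by_contra hn
  haveI : NeZero (2 ^ n) := ⟨by positivity⟩
  have hc : Nat.card (QuaternionGroup (2 ^ n)) = 2 ^ (n + 1) * 2 := by
    rw [Nat.card_eq_fintype_card, QuaternionGroup.card]; ring
  have hG : IsPGroup 2 (QuaternionGroup (2 ^ n)) := IsPGroup.of_card (n := n + 2) (by rw [hc]; ring)
  have h4 : 4 < 2 ^ (n + 1) := by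
    calc 4 < 2 ^ 3 := by norm_num
      _ ≤ _ := Nat.pow_le_pow_right two_pos (by omega)
  obtain ⟨M, hM, -, hi, -⟩ := H5.exists_le_normal_index_eq hG
    (K := zpowers (QuaternionGroup.xa 0 : QuaternionGroup (2 ^ n))) (fun e => by
      have := congrArg (fun K : Subgroup (QuaternionGroup (2 ^ n)) => Nat.card K) e
      simp only [Nat.card_zpowers, QuaternionGroup.orderOf_xa, card_top, hc] at this
      omega)
  have hM2 : Nat.card M = 2 ^ (n + 1) := by
    have := M.card_mul_index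
    rw [hi, hc] at this
    omega
  obtain ⟨e⟩ := h (zpowers (QuaternionGroup.a 1)) M
    (by rw [hM2, Nat.card_zpowers, QuaternionGroup.orderOf_a_one]; ring)
  obtain ⟨g, hg⟩ := (Subgroup.isCyclic_iff_exists_zpowers_eq_top M).mp
    (isCyclic_of_surjective e e.surjective)
  rcases g with i | i
  · obtain ⟨k, hk⟩ := mem_powers_iff_mem_zpowers.mpr (hg ▸ hM (mem_zpowers _))
    have : ∀ k : ℕ, ∃ j, (QuaternionGroup.a i : QuaternionGroup (2 ^ n)) ^ k =
        QuaternionGroup.a j := by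
      intro k
      induction k with
      | zero => exact ⟨0, rfl⟩
      | succ k ih =>
        obtain ⟨j, hj⟩ := ih
        exact ⟨j + i, by rw [pow_succ, hj, QuaternionGroup.a_mul_a]⟩
    obtain ⟨j, hj⟩ := this k
    simp only [hj] at hk
    cases hk
  · rw [← hg, Nat.card_zpowers, QuaternionGroup.orderOf_xa] at hM2
    omega

theorem card_eq_cube [Finite G] [hp : Fact p.Prime] (hG : IsPGroup p G) (he : ∀ x : G, x ^ p = 1)
    (hn : ¬ IsMulCommutative G)
    (h : ∀ A B : Subgroup G, Nat.card A = Nat.card B → Nonempty (A ≃* B)) :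
    Nat.card G = p ^ 3 := by
  haveI := hG.isNilpotent
  obtain ⟨x, -, hx, hxc⟩ := H5.exists_central_mod_of_nilpotent (center G) ⊤
    (fun e => hn ⟨⟨fun a b => (mem_center_iff.mp (e (mem_top b)) a)⟩⟩)
  obtain ⟨y, hy⟩ : ∃ y : G, ⁅x, y⁆ ≠ 1 := by
    by_contra hc
    push Not at hc
    exact hx (mem_center_iff.mpr fun g => (commutatorElement_eq_one_iff_mul_comm.mp (hc g)).symm)
  set z := ⁅x, y⁆ with hz
  have hzZ : zpowers z ≤ center G := zpowers_le.mpr (hxc y)
  have hxc1 : x ∈ centralizer (zpowers z : Set G) :=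
    mem_centralizer_iff.mpr fun u hu => (mem_center_iff.mp (hzZ hu) x).symm
  have hK2 : zpowers z ⊔ zpowers x ≤ centralizer {x} :=
    sup_le (hzZ.trans (center_le_centralizer _)) (H80.zpowers_le_Cx x)
  have hy2 : y ∉ zpowers z ⊔ zpowers x := fun e =>
    hy (commutatorElement_eq_one_iff_mul_comm.mpr (H80.mem_Cx'.mp (hK2 e)))
  have hyn : y ∈ normalizer ((zpowers z ⊔ zpowers x : Subgroup G) : Set G) := by
    refine H3.mem_normalizer_of_conj_mem (H3.conj_smul_le_iff.mp ?_)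
    rw [H3.conj_smul_eq_map, Subgroup.map_sup, MonoidHom.map_zpowers, MonoidHom.map_zpowers,
      sup_le_iff, zpowers_le, zpowers_le]
    constructor
    · change y * z * y⁻¹ ∈ _
      rw [mem_center_iff.mp (hxc y) y, mul_inv_cancel_right]
      exact mem_sup_left (mem_zpowers _)
    · change y * x * y⁻¹ ∈ _
      rw [show y * x * y⁻¹ = z⁻¹ * x by simp [hz, commutatorElement_def, mul_assoc]]
      exact mul_mem (mem_sup_left (inv_mem (mem_zpowers _))) (mem_sup_right (mem_zpowers _))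
  have h3 : Nat.card (zpowers z ⊔ zpowers x ⊔ zpowers y : Subgroup G) = p ^ 3 := by
    rw [H5.card_sup_zpowers hp.out hyn hy2 (he y ▸ one_mem _),
      H5.card_sup_zpowers hp.out (centralizer_le_normalizer _ hxc1) (fun e => hx (hzZ e))
        (he x ▸ one_mem _), Nat.card_zpowers, orderOf_eq_prime (he z) hy]
    ring
  have h4 : ∀ A : Subgroup G, Nat.card A = p ^ 3 → ¬ IsMulCommutative A := by
    intro A hA hc
    obtain ⟨e⟩ := h A _ (hA.trans h3.symm)
    have := (isMulCommutative_of_equiv e hc).is_comm.comm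
      ⟨x, mem_sup_left (mem_sup_right (mem_zpowers x))⟩ ⟨y, mem_sup_right (mem_zpowers y)⟩
    exact hy (commutatorElement_eq_one_iff_mul_comm.mpr (congrArg Subtype.val this))
  have h5 : p ^ 3 ∣ Nat.card G := h3 ▸ card_subgroup_dvd_card _
  obtain ⟨A, hAn, -, hA⟩ := H5.exists_normal_le_card_eq hG ⊤ 2
    (by rw [card_top]; exact Nat.le_of_dvd Nat.card_pos ((pow_dvd_pow p (by norm_num)).trans h5))
  have hAc := IsPGroup.isMulCommutative_of_card_eq_prime_sq hA
  have h6 : centralizer (A : Set G) = A := by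
    refine le_antisymm (fun w hw => ?_) (le_centralizer A)
    by_contra hwA
    exact h4 _ (by
      rw [H5.card_sup_zpowers hp.out (centralizer_le_normalizer _ hw) hwA (he w ▸ one_mem _), hA]
      ring) (H5.isMulCommutative_sup_zpowers hAc hw)
  have h7 := H49.relIndex_centralizer_dvd_of_card_sq (W := ⊤) (hG.to_subgroup ⊤) hA
    le_normalizer_of_normal
  rw [h6, relIndex_top_right] at h7
  refine Nat.dvd_antisymm ?_ h5
  rw [← A.card_mul_index, hA, pow_succ p 2]
  exact Nat.mul_dvd_mul_left _ h7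

theorem classify [Finite G] [hp : Fact p.Prime] (hG : IsPGroup p G)
    (h : ∀ A B : Subgroup G, Nat.card A = Nat.card B → Nonempty (A ≃* B)) :
    IsCyclic G ∨ (IsMulCommutative G ∧ ∀ x : G, x ^ p = 1) ∨
      (p = 2 ∧ Nonempty (G ≃* QuaternionGroup 2)) ∨
      (p ≠ 2 ∧ ¬ IsMulCommutative G ∧ Nat.card G = p ^ 3 ∧ ∀ x : G, x ^ p = 1) := by
  rcases pow_eq_one_or_unique hG (fun A B _ _ e => h A B e) with he | hu
  · by_cases hc : IsMulCommutative G
    · exact Or.inr (Or.inl ⟨hc, he⟩)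
    · refine Or.inr (Or.inr (Or.inr ⟨?_, hc, card_eq_cube hG he hc h, he⟩))
      rintro rfl
      exact hc (isMulCommutative_of_sq_eq_one he)
  rcases Cfsg.Agent.S0016.result p hG hu with hc | ⟨h2, n, ⟨e⟩⟩
  · exact Or.inl hc
  have hn : n ≤ 1 := quaternion_le_one fun A B hAB => by
    obtain ⟨f⟩ := h (A.map e.symm.toMonoidHom) (B.map e.symm.toMonoidHom) (by
      rw [card_map_of_injective e.symm.injective, card_map_of_injective e.symm.injective, hAB])
    exact ⟨((e.symm.subgroupMap A).trans f).trans (e.symm.subgroupMap B).symm⟩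
  interval_cases n
  · haveI : IsCyclic (QuaternionGroup (2 ^ 0)) := QuaternionGroup.quaternionGroup_one_isCyclic
    exact Or.inl (isCyclic_of_surjective e.symm e.symm.surjective)
  · exact Or.inr (Or.inr (Or.inl ⟨h2, ⟨e⟩⟩))

theorem homog_of_conj [Finite G] {P : Subgroup G} (hP : IsPGroup p P)
    (hC : ∀ H K : Subgroup G, IsPGroup p H → IsPGroup p K → Nat.card H = Nat.card K →
      ∃ g : G, K = H.map (MulAut.conj g).toMonoidHom) (A B : Subgroup P)
    (hAB : Nat.card A = Nat.card B) : Nonempty (A ≃* B) := by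
  obtain ⟨g, hg⟩ := hC (A.map P.subtype) (B.map P.subtype) (hP.to_le (map_subtype_le _))
    (hP.to_le (map_subtype_le _)) (by rw [card_subtype, card_subtype, hAB])
  exact nonempty_equiv_of_conj hg

theorem homog_of_conj_abelian [Finite G] (P : Subgroup G)
    (hC : ∀ H K : Subgroup G, IsMulCommutative H → IsMulCommutative K → Nat.card H = Nat.card K →
      ∃ g : G, K = H.map (MulAut.conj g).toMonoidHom) (A B : Subgroup P)
    (hA : IsMulCommutative A) (hB : IsMulCommutative B)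
    (hAB : Nat.card A = Nat.card B) : Nonempty (A ≃* B) := by
  obtain ⟨g, hg⟩ := hC (A.map P.subtype) (B.map P.subtype) inferInstance inferInstance
    (by rw [card_subtype, card_subtype, hAB])
  exact nonempty_equiv_of_conj hg

theorem wes_of_card_cube [Finite G] [hp : Fact p.Prime] {Q : Subgroup G} (hc : Nat.card Q = p ^ 3)
    (hn : ¬ IsMulCommutative Q) : ∃ z, H5.WES p Q z := by
  have hQ : IsPGroup p Q := IsPGroup.of_card hc
  haveI : Nontrivial Q := Finite.one_lt_card_iff_nontrivial.mp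
    (hc ▸ Nat.one_lt_pow three_ne_zero hp.out.one_lt)
  obtain ⟨k, hk0, hk⟩ := IsPGroup.card_center_eq_prime_pow hc three_pos
  obtain ⟨l, hl⟩ := (hQ.to_quotient (center Q)).exists_card_eq
  have h1 := (center Q).card_mul_index
  rw [hk, index_eq_card, hl, hc, ← pow_add] at h1
  have hkl : k + l = 3 := Nat.pow_right_injective hp.out.two_le h1
  have hl2 : l = 2 := by
    by_contra hl2
    haveI : IsCyclic (Q ⧸ center Q) := isCyclic_of_card_dvd_prime (p := p) (by
      rw [hl]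
      simpa using pow_dvd_pow p (show l ≤ 1 by omega))
    exact hn (MonoidHom.isMulCommutative_of_isCyclic_of_ker_le_center (QuotientGroup.mk' (center Q))
      (QuotientGroup.ker_mk' _).le)
  obtain rfl : k = 1 := by omega
  rw [pow_one] at hk
  obtain ⟨z, hz⟩ := (Subgroup.isCyclic_iff_exists_zpowers_eq_top (center Q)).mp
    (isCyclic_of_prime_card hk)
  have h2 : _root_.commutator Q ≤ center Q := Normal.quotient_commutative_iff_commutator_le.mp
    (IsPGroup.isMulCommutative_of_card_eq_prime_sq (hl2 ▸ hl))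
  have h3 : ∀ x : Q, x ∈ center Q → (x : G) ∈ zpowers (z : G) := by
    intro x hx
    obtain ⟨i, rfl⟩ := hz ▸ hx
    exact ⟨i, rfl⟩
  refine ⟨z, by rw [orderOf_coe, ← Nat.card_zpowers, hz, hk], le_antisymm ?_ ?_, fun x hx y hy => ?_⟩
  · rintro x ⟨hx, hx'⟩
    exact h3 ⟨x, hx⟩ (mem_center_iff.mpr fun g => Subtype.ext (hx' g g.2))
  · refine zpowers_le.mpr ⟨z.2, fun g hg => ?_⟩
    exact congrArg Subtype.val (mem_center_iff.mp (hz ▸ mem_zpowers z : z ∈ center Q) ⟨g, hg⟩)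
  · exact h3 ⁅(⟨x, hx⟩ : Q), ⟨y, hy⟩⁆ (h2 (commutator_mem_commutator (mem_top _) (mem_top _)))

/-- counting the union of the conjugates of a trivial intersection set -/
theorem ncard_eq_relIndex_mul [Finite G] (N S : Subgroup G) (A Ω : Set G)
    (h1 : ∀ n ∈ N, ∀ a ∈ A, n * a * n⁻¹ ∈ Ω) (h2 : ∀ y ∈ Ω, ∃ n ∈ N, ∃ a ∈ A, y = n * a * n⁻¹)
    (h3 : ∀ n ∈ N, ∀ a ∈ A, n * a * n⁻¹ ∈ A ↔ n ∈ S) : Ω.ncard = S.relIndex N * A.ncard := by
  let f : (N ⧸ S.subgroupOf N) × A → Ω := fun a =>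
    ⟨a.1.out * a.2.1 * (a.1.out : G)⁻¹, h1 _ a.1.out.2 _ a.2.2⟩
  have hf : Function.Bijective f := by
    constructor
    · rintro ⟨q, y, hy⟩ ⟨r, z, hz⟩ e
      have e1 : (q.out : G) * y * (q.out : G)⁻¹ = r.out * z * (r.out : G)⁻¹ :=
        congrArg Subtype.val e
      have e2 : r.out⁻¹ * q.out ∈ S.subgroupOf N := by
        refine (h3 _ (r.out⁻¹ * q.out).2 y hy).mp ?_
        rw [coe_mul, coe_inv, mul_inv_rev, inv_inv, show (r.out : G)⁻¹ * q.out * y *
          ((q.out : G)⁻¹ * r.out) = (r.out : G)⁻¹ * (q.out * y * (q.out : G)⁻¹) * r.out by group, e1]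
        simpa [mul_assoc] using hz
      obtain rfl : r = q := by
        rw [← QuotientGroup.out_eq' r, ← QuotientGroup.out_eq' q]
        exact QuotientGroup.eq.mpr e2
      obtain rfl : y = z := by simpa using e1
      rfl
    · rintro ⟨y, hy⟩
      obtain ⟨n, hn, a, ha, rfl⟩ := h2 y hy
      obtain ⟨k, hk⟩ := QuotientGroup.mk_out_eq_mul (S.subgroupOf N) ⟨n, hn⟩
      refine ⟨⟨(⟨n, hn⟩ : N), ⟨((k : N) : G)⁻¹ * a * ((k : N) : G)⁻¹⁻¹,
        (h3 _ (inv_mem k.1.2) a ha).mpr (inv_mem k.2)⟩⟩, Subtype.ext ?_⟩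
      simp only [f, hk, coe_mul]
      group
  rw [← Nat.card_coe_set_eq, ← Nat.card_eq_of_bijective f hf, Nat.card_prod]
  rfl

theorem exists_conj_eq_mul (hp : p.Prime) {Q : Subgroup G} {u v w : G} (h : H5.WES p Q u)
    (hv : v ∈ Q) (hvu : v ∉ zpowers u) (hw : w ∈ zpowers u) : ∃ a ∈ Q, a * v * a⁻¹ = w * v := by
  obtain ⟨a, ha, hav⟩ : ∃ a ∈ Q, ⁅a, v⁆ ≠ 1 := by
    by_contra hc
    push Not at hc
    exact hvu (h.mem_zpowers_of_commute hv fun y hy =>
      commutatorElement_eq_one_iff_commute.mp (hc y hy))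
  obtain ⟨i, hi⟩ := H5.exists_zpow_eq_of_prime hp h.ord (h.comm a ha v hv) hav hw
  exact ⟨a ^ i, zpow_mem ha i, by
    rw [H5.conj_eq_commutator_mul, H5.commutator_zpow_left (h.commute (h.comm a ha v hv) ha), hi]⟩

theorem inf_centralizer_eq [Finite G] (hp : p.Prime) {Q : Subgroup G} {z x : G} (h : H5.WES p Q z)
    (hc : Nat.card Q = p ^ 3) (hx : x ∈ Q) (hxz : x ∉ zpowers z) :
    Nat.card (zpowers z ⊔ zpowers x : Subgroup G) = p ^ 2 ∧
      Q ⊓ centralizer {x} = zpowers z ⊔ zpowers x := by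
  have hxc : x ∈ centralizer (zpowers z : Set G) :=
    mem_centralizer_iff.mpr fun u hu => (h.commute hu hx).eq.symm
  have h1 : Nat.card (zpowers z ⊔ zpowers x : Subgroup G) = p ^ 2 := by
    rw [H5.card_sup_zpowers hp (centralizer_le_normalizer _ hxc) hxz (h.pow_mem hx), h.card_zpowers,
      sq]
  have h2 : zpowers z ⊔ zpowers x ≤ Q ⊓ centralizer {x} :=
    sup_le (le_inf h.zpowers_le fun u hu => H80.mem_Cx'.mpr (h.commute hu hx).eq)
      (le_inf (zpowers_le.mpr hx) (H80.zpowers_le_Cx x))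
  refine ⟨h1, (eq_of_le_of_card_ge h2 ?_).symm⟩
  obtain ⟨j, hj, e⟩ := (Nat.dvd_prime_pow hp).mp
    (hc ▸ card_dvd_of_le (inf_le_left : Q ⊓ centralizer {x} ≤ Q))
  rw [e, h1]
  refine Nat.pow_le_pow_right hp.pos ?_
  by_contra hj2
  obtain rfl : j = 3 := by omega
  have h3 := inf_eq_left.mp (eq_of_le_of_card_ge
    (inf_le_left : Q ⊓ centralizer {x} ≤ Q) (by rw [e, hc]))
  exact hxz (h.mem_zpowers_of_commute hx fun y hy => H80.mem_Cx.mp (h3 hy))

theorem exists_inverting [Finite G] [hp : Fact p.Prime] (P : Sylow p G) {z x : G}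
    (h : H5.WES p (P : Subgroup G) z) (hc : Nat.card P = p ^ 3) (hx : x ∈ (P : Subgroup G))
    (hxz : x ∉ zpowers z) {g : G} (hg : zpowers x = MulAut.conj g • zpowers z) :
    ∃ s ∈ normalizer ((P : Subgroup G) : Set G),
      ∀ e ∈ (P : Subgroup G) ⊓ centralizer {x}, s * e * s⁻¹ = e⁻¹ := by
  obtain ⟨hE1, hE2⟩ := inf_centralizer_eq hp.out h hc hx hxz
  set E := (P : Subgroup G) ⊓ centralizer {x} with hE
  have hxo : orderOf x = p := by
    rw [← Nat.card_zpowers, hg, H3.card_conj_smul, h.card_zpowers]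
  have hzE : z ∈ E := hE2 ▸ mem_sup_left (mem_zpowers z)
  have hzx : z ∉ zpowers x := fun e => hxz ((eq_of_le_of_card_ge (zpowers_le.mpr e) (by
    rw [Nat.card_zpowers, Nat.card_zpowers, hxo, h.ord])).ge (mem_zpowers x))
  have hP' : MulAut.conj g • (P : Subgroup G) ≤ centralizer {x} := by
    rw [← H80.centralizer_zpowers, hg, H1.centralizer_conj_smul]
    exact pointwise_smul_le_pointwise_smul_iff.mpr (le_centralizer_iff.mp h.zpowers_le_cent)
  obtain ⟨t, ht, ht'⟩ := H3.exists_conj_le_of_isPGroup_of_not_dvd_relIndex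
    (T := centralizer {x}) (K := MulAut.conj g • (P : Subgroup G)) (P := E)
    (P.isPGroup'.to_le inf_le_left) inf_le_right (fun hd => P.not_dvd_index (by
      have := hd.trans (relIndex_dvd_index_of_le hP')
      rwa [H1.index_conj_smul] at this))
  set Q := MulAut.conj t⁻¹ • MulAut.conj g • (P : Subgroup G) with hQ
  have hEQ : E ≤ Q := by
    rw [hQ, ← H1.conj_inv_smul_conj_smul t E]
    exact pointwise_smul_le_pointwise_smul_iff.mpr ht'
  have hQc : Nat.card Q = p ^ 3 := by rw [hQ, H3.card_conj_smul, H3.card_conj_smul, hc]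
  have hQx : Q ≤ centralizer {x} := H3.conj_smul_le_iff.mpr fun y hy =>
    mul_mem (mul_mem (inv_mem ht) (hP' hy)) (inv_mem (inv_mem ht))
  have hxE : x ∈ E := ⟨hx, H80.self_mem_Cx x⟩
  have hQn : ¬ IsMulCommutative Q := by
    intro hcomm
    have := isMulCommutative_of_equiv ((equivSMul (MulAut.conj t⁻¹) _).symm.trans
      (equivSMul (MulAut.conj g) (P : Subgroup G)).symm) hcomm
    exact hxz (h.mem_zpowers_of_commute hx fun y hy =>
      congrArg Subtype.val (this.is_comm.comm ⟨y, hy⟩ ⟨x, hx⟩))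
  obtain ⟨x', hx'⟩ := wes_of_card_cube hQc hQn
  have hxx : zpowers x = zpowers x' := eq_of_le_of_card_ge
    (zpowers_le.mpr (hx'.mem_zpowers_of_commute (hEQ hxE) fun y hy => H80.mem_Cx.mp (hQx hy)))
    (by rw [hx'.card_zpowers, Nat.card_zpowers, hxo])
  obtain ⟨a, ha, hax⟩ := exists_conj_eq_mul hp.out h hx hxz (mem_zpowers z)
  obtain ⟨b, hb, hbz⟩ := exists_conj_eq_mul hp.out hx' (hEQ hzE) (hxx ▸ hzx)
    (hxx ▸ inv_mem (mem_zpowers x))
  have haz : a * z * a⁻¹ = z := mul_inv_eq_iff_eq_mul.mpr (h.commute (mem_zpowers z) ha).eq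
  have hbx : b * x * b⁻¹ = x := mul_inv_eq_iff_eq_mul.mpr (H80.mem_Cx.mp (hQx hb))
  have hxz' : x * z = z * x := (h.commute (mem_zpowers z) hx).eq
  set w := MulAut.conj (a * b * a) with hw
  have h1 : w z = x⁻¹ := by
    rw [hw, map_mul, map_mul, MulAut.mul_apply, MulAut.mul_apply, MulAut.conj_apply a z, haz,
      MulAut.conj_apply b z, hbz, map_mul, map_inv, MulAut.conj_apply, MulAut.conj_apply, hax, haz]
    group
  have h2 : w x = z := by
    rw [hw, map_mul, map_mul, MulAut.mul_apply, MulAut.mul_apply, MulAut.conj_apply a x, hax,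
      map_mul (MulAut.conj b), MulAut.conj_apply b z, MulAut.conj_apply b x, hbz, hbx, mul_assoc,
      ← hxz', inv_mul_cancel_left, MulAut.conj_apply, haz]
  set g₀ := a * b * a * (a * b * a) with hg₀
  have h3 : ∀ e ∈ E, g₀ * e * g₀⁻¹ = e⁻¹ := by
    intro e he
    rw [hE2] at he
    obtain ⟨_, ⟨i, rfl⟩, j, rfl⟩ := (H5.mem_sup_zpowers_iff (centralizer_le_normalizer _
      (mem_centralizer_iff.mpr fun u hu => (h.commute hu hx).eq.symm))).mp he
    rw [← MulAut.conj_apply, hg₀, map_mul MulAut.conj, MulAut.mul_apply, ← hw]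
    simp only [map_mul, map_zpow, map_inv, h1, h2, inv_zpow, mul_inv_rev]
    exact ((show Commute x z from hxz').zpow_zpow j i).inv_inv.eq.symm
  have hPE : (P : Subgroup G) ≤ normalizer (E : Set G) := h.le_normalizer inf_le_left hzE
  have h4 : MulAut.conj g₀ • (P : Subgroup G) ≤ (P : Subgroup G) ⊔ centralizer (E : Set G) := by
    refine H3.conj_smul_le_iff.mpr fun y hy => ?_
    rw [show g₀ * y * g₀⁻¹ = (g₀ * y * g₀⁻¹ * y⁻¹) * y by group]
    refine mul_mem (mem_sup_right (mem_centralizer_iff.mpr fun e he => ?_)) (mem_sup_left hy)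
    have e1 := h3 _ (H3.conj_mem_of_mem_normalizer' (hPE hy) he)
    have e2 := h3 _ (inv_mem he)
    calc e * (g₀ * y * g₀⁻¹ * y⁻¹) = (g₀ * e⁻¹ * g₀⁻¹) * (g₀ * y * g₀⁻¹ * y⁻¹) := by
          rw [e2, inv_inv]
      _ = g₀ * y * (y⁻¹ * e * y)⁻¹ * g₀⁻¹ * y⁻¹ := by group
      _ = g₀ * y * (g₀⁻¹ * (g₀ * (y⁻¹ * e * y) * g₀⁻¹)⁻¹ * g₀) * g₀⁻¹ * y⁻¹ := by group
      _ = _ := by rw [e1]; group
  obtain ⟨m, hm, hm'⟩ := H3.exists_conj_le_of_isPGroup_of_not_dvd_relIndex
    (K := (P : Subgroup G)) (P.isPGroup'.of_equiv (equivSMul (MulAut.conj g₀) _)) h4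
    (fun hd => P.not_dvd_index (hd.trans (relIndex_dvd_index_of_le le_sup_left)))
  obtain ⟨y, hy, c, hc', rfl⟩ := (H3.mem_sup_iff_of_le_normalizer'
    (H2.le_normalizer_centralizer hPE)).mp hm
  refine ⟨c * g₀, H3.mem_normalizer_of_conj_mem fun u hu => ?_, fun e he => ?_⟩
  · have := H3.conj_smul_le_iff.mp hm' _ (H3.conj_mem_conj_smul g₀ hu)
    have := mul_mem (mul_mem (inv_mem hy) this) hy
    simpa [mul_assoc] using this
  · rw [show c * g₀ * e * (c * g₀)⁻¹ = c * (g₀ * e * g₀⁻¹) * c⁻¹ by group, h3 e he,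
      ← mem_centralizer_iff.mp hc' _ (inv_mem he), mul_inv_cancel_right]

theorem conj_inf_centralizer {Q : Subgroup G} {n : G} (hn : n ∈ normalizer (Q : Set G)) (x : G) :
    MulAut.conj n • (Q ⊓ centralizer {x}) = Q ⊓ centralizer {n * x * n⁻¹} := by
  rw [smul_inf, H3.conj_smul_eq_self_iff.mpr hn, H80.Cx_conj]

theorem false_of_cube [Finite G] [hp : Fact p.Prime] (hp2 : p ≠ 2) (P : Sylow p G)
    (hc : Nat.card P = p ^ 3) (hn : ¬ IsMulCommutative P) (he : ∀ x ∈ (P : Subgroup G), x ^ p = 1)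
    (hC : ∀ H K : Subgroup G, H ≤ P → K ≤ P → IsMulCommutative H → IsMulCommutative K →
      Nat.card H = Nat.card K → ∃ g : G, K = MulAut.conj g • H)
    (h2 : ∀ R : Subgroup G, IsPGroup 2 R → ∀ u ∈ R, ∀ s ∈ R, u * s * u⁻¹ = s ∨ u * s * u⁻¹ = s⁻¹) :
    False := by
  obtain ⟨z, h⟩ := wes_of_card_cube (Q := (P : Subgroup G)) hc hn
  have hlt : p < p ^ 2 := by nlinarith [hp.out.two_le]
  have hlt2 : p ^ 2 < p ^ 3 := Nat.pow_lt_pow_right hp.out.one_lt (by norm_num)
  obtain ⟨x, hx, hxz⟩ := SetLike.not_le_iff_exists.mp (fun e : (P : Subgroup G) ≤ zpowers z => by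
    have := card_le_of_le e
    rw [h.card_zpowers] at this
    exact absurd (hc.symm.le.trans this) (by omega))
  obtain ⟨g, hg⟩ := hC (zpowers z) (zpowers x) h.zpowers_le (zpowers_le.mpr hx) inferInstance
    inferInstance (by
      rw [h.card_zpowers, Nat.card_zpowers, orderOf_eq_prime (he x hx)]
      rintro rfl
      exact hxz (one_mem _))
  obtain ⟨s₀, hs₀, hinv₀⟩ := exists_inverting P h hc hx hxz hg
  set N := normalizer ((P : Subgroup G) : Set G) with hN
  set E := (P : Subgroup G) ⊓ centralizer {x} with hE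
  have hEc : ∀ y ∈ (P : Subgroup G), y ∉ zpowers z →
      Nat.card ((P : Subgroup G) ⊓ centralizer {y} : Subgroup G) = p ^ 2 := fun y hy hyz =>
    (inf_centralizer_eq hp.out h hc hy hyz).2 ▸ (inf_centralizer_eq hp.out h hc hy hyz).1
  have hzE : ∀ y ∈ (P : Subgroup G), zpowers z ≤ (P : Subgroup G) ⊓ centralizer {y} :=
    fun y hy => le_inf h.zpowers_le fun u hu => H80.mem_Cx'.mpr (h.commute hu hy).eq
  have hEe : ∀ e ∈ E, e ∉ zpowers z → (P : Subgroup G) ⊓ centralizer {e} = E := by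
    intro e he hez
    refine (eq_of_le_of_card_ge (le_inf inf_le_left fun u hu => H80.mem_Cx.mpr ?_)
      (by rw [hEc e he.1 hez, hEc x hx hxz])).symm
    exact congrArg Subtype.val ((IsPGroup.isMulCommutative_of_card_eq_prime_sq
      (hEc x hx hxz)).is_comm.comm ⟨u, hu⟩ ⟨e, he⟩)
  have hNz : ∀ n ∈ N, ∀ y, n * y * n⁻¹ ∈ zpowers z → y ∈ zpowers z := by
    intro n hn y hy
    have : n ∈ normalizer (zpowers z : Set G) := by
      rw [← h.cent]
      exact H2.le_normalizer_inf le_rfl (H2.le_normalizer_centralizer le_rfl) hn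
    exact (mem_normalizer_iff.mp this y).mpr hy
  obtain ⟨k, o, ho, hko⟩ := Nat.exists_eq_two_pow_mul_odd (orderOf_pos s₀).ne'
  set s := s₀ ^ o with hs
  have hsN : s ∈ N := pow_mem hs₀ o
  have hinv : ∀ e ∈ E, s * e * s⁻¹ = e⁻¹ := by
    intro e he
    obtain ⟨j, rfl⟩ := ho
    have : ∀ j : ℕ, (s₀ ^ 2) ^ j * e * ((s₀ ^ 2) ^ j)⁻¹ = e := fun j => by
      rw [mul_inv_eq_iff_eq_mul]
      refine (Commute.pow_left ?_ j).eq
      refine mul_inv_eq_iff_eq_mul.mp ?_
      rw [show s₀ ^ 2 * e * (s₀ ^ 2)⁻¹ = s₀ * (s₀ * e * s₀⁻¹) * s₀⁻¹ by rw [sq]; group, hinv₀ e he,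
        hinv₀ _ (inv_mem he), inv_inv]
    rw [hs, pow_succ', pow_mul, show s₀ * (s₀ ^ 2) ^ j * e * (s₀ * (s₀ ^ 2) ^ j)⁻¹ =
      s₀ * ((s₀ ^ 2) ^ j * e * ((s₀ ^ 2) ^ j)⁻¹) * s₀⁻¹ by group, this, hinv₀ e he]
  have hI : ∀ y ∈ (P : Subgroup G), s * y * s⁻¹ = y⁻¹ → y ∈ E := by
    intro y hy hy'
    refine ⟨hy, H80.mem_Cx.mpr (commutatorElement_eq_one_iff_mul_comm.mp ?_)⟩
    have hm := h.comm y hy x hx
    have e1 := hinv _ (hzE x hx hm)
    have e2 : s * ⁅y, x⁆ * s⁻¹ = ⁅y, x⁆ := by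
      rw [conjugate_commutatorElement, hy', hinv x ⟨hx, H80.self_mem_Cx x⟩,
        H5.commutator_inv_left_of_commute (h.commute (h.comm y hy _ (inv_mem hx)) hy),
        H5.commutator_inv_right_of_commute (h.commute hm hx), inv_inv]
    rw [e2] at e1
    rw [← orderOf_eq_one_iff]
    refine Nat.eq_one_of_dvd_coprimes ((Nat.coprime_primes hp.out Nat.prime_two).mpr hp2)
      (orderOf_dvd_of_pow_eq_one (h.pow_eq_one hm)) (orderOf_dvd_of_pow_eq_one ?_)
    rw [sq]
    exact mul_eq_one_iff_eq_inv.mpr e1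
  have hs2 : IsPGroup 2 (zpowers (⟨s, hsN⟩ : N)) := IsPGroup.of_card (n := k) (by
    rw [Nat.card_zpowers, ← orderOf_coe]
    change orderOf (s₀ ^ o) = _
    rw [orderOf_pow_of_dvd ho.pos.ne' (hko ▸ dvd_mul_left _ _), hko, Nat.mul_div_cancel _ ho.pos])
  obtain ⟨T, hT⟩ := hs2.exists_le_sylow
  have hTE : (T : Subgroup N) ≤ (normalizer (E : Set G)).subgroupOf N := by
    intro u hu
    have h3 := h2 _ (T.isPGroup'.map N.subtype) u⁻¹ ⟨u⁻¹, inv_mem hu, rfl⟩ s
      ⟨_, hT (mem_zpowers _), rfl⟩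
    refine H3.mem_normalizer_of_conj_mem fun e he =>
      hI _ (H3.conj_mem_of_mem_normalizer u.2 he.1) ?_
    rw [coe_subtype, show s * ((u : G) * e * (u : G)⁻¹) * s⁻¹ = u * (((u : G)⁻¹ * s * (u : G)⁻¹⁻¹) * e *
      ((u : G)⁻¹ * s * (u : G)⁻¹⁻¹)⁻¹) * (u : G)⁻¹ by group]
    rcases h3 with e1 | e1 <;> rw [e1]
    · rw [hinv e he]; group
    · have := hinv _ (inv_mem he)
      rw [inv_inv] at this
      rw [show s⁻¹ * e * s⁻¹⁻¹ = s⁻¹ * (s * e⁻¹ * s⁻¹) * s⁻¹⁻¹ by rw [this]]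
      group
  have hodd := H80.not_dvd_index_of_sylow_le T hTE
  have hcount := ncard_eq_relIndex_mul N (normalizer (E : Set G)) ((E : Set G) \ zpowers z)
    (((P : Subgroup G) : Set G) \ zpowers z)
    (fun n hn a ha => ⟨H3.conj_mem_of_mem_normalizer hn ha.1.1, fun e => ha.2 (hNz n hn a e)⟩)
    (fun y hy => by
      obtain ⟨g, hg⟩ := hC E ((P : Subgroup G) ⊓ centralizer {y}) inf_le_left inf_le_left
        (IsPGroup.isMulCommutative_of_card_eq_prime_sq (hEc x hx hxz))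
        (IsPGroup.isMulCommutative_of_card_eq_prime_sq (hEc y hy.1 hy.2))
        (by rw [hEc x hx hxz, hEc y hy.1 hy.2])
      have h3 := h.le_normalizer inf_le_left (hzE y hy.1 (mem_zpowers z))
      obtain ⟨t, ht, ht'⟩ := H3.exists_conj_le_of_isPGroup_of_not_dvd_relIndex
        (T := normalizer (((P : Subgroup G) ⊓ centralizer {y} : Subgroup G) : Set G))
        (K := (P : Subgroup G)) (P.isPGroup'.of_equiv (equivSMul (MulAut.conj g) _))
        (by
          rw [hg, H1.normalizer_conj_smul]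
          exact pointwise_smul_le_pointwise_smul_iff.mpr
            (h.le_normalizer inf_le_left (hzE x hx (mem_zpowers z))))
        (fun hd => P.not_dvd_index (hd.trans (relIndex_dvd_index_of_le h3)))
      rw [H3.conj_smul_conj_smul] at ht'
      have h4 : t * g ∈ N := H3.mem_normalizer_of_conj_mem (H3.conj_smul_le_iff.mp ht')
      have h5 : y ∈ MulAut.conj (t * g) • E := by
        rw [← H3.conj_smul_conj_smul, ← hg, H3.conj_smul_eq_self_iff.mpr ht]
        exact ⟨hy.1, H80.self_mem_Cx y⟩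
      refine ⟨t * g, h4, (t * g)⁻¹ * y * (t * g), ⟨H3.mem_conj_smul_iff.mp h5, fun e => hy.2 ?_⟩,
        by group⟩
      exact hNz _ (inv_mem h4) y (by rwa [inv_inv]))
    (fun n hn a ha => ⟨fun e => by
      rw [← H3.conj_smul_eq_self_iff, ← hEe a ha.1 ha.2, conj_inf_centralizer hn, hEe a ha.1 ha.2,
        hEe _ e.1 e.2], fun e =>
      ⟨H3.conj_mem_of_mem_normalizer e ha.1, fun e' => ha.2 (hNz n hn a e')⟩⟩)
  rw [Set.ncard_diff h.zpowers_le, Set.ncard_diff (hzE x hx), ← Nat.card_coe_set_eq,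
    ← Nat.card_coe_set_eq, ← Nat.card_coe_set_eq] at hcount
  simp only [SetLike.coe_sort_coe] at hcount
  rw [h.card_zpowers, hc, hEc x hx hxz] at hcount
  apply hodd
  change 2 ∣ (normalizer (E : Set G)).relIndex N
  have h6 : p ^ 3 - p = (p + 1) * (p ^ 2 - p) := by
    zify [hlt.le, (hlt.trans hlt2).le]
    ring
  rw [← Nat.eq_of_mul_eq_mul_right (by omega) (h6.symm.trans hcount)]
  exact (hp.out.odd_of_ne_two hp2).add_one.two_dvd

theorem conj_eq_or_of_cases
    (h : IsMulCommutative G ∨ Nonempty (G ≃* QuaternionGroup 2)) (u s : G) :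
    u * s * u⁻¹ = s ∨ u * s * u⁻¹ = s⁻¹ := by
  rcases h with h | ⟨⟨e⟩⟩
  · exact Or.inl (by rw [h.is_comm.comm u s, mul_inv_cancel_right])
  · have : ∀ a b : QuaternionGroup 2, a * b * a⁻¹ = b ∨ a * b * a⁻¹ = b⁻¹ := by decide
    simpa only [← map_inv, ← map_mul, EmbeddingLike.apply_eq_iff_eq] using this (e u) (e s)

end H78.ConjSub
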