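import Mathlib
import Cfsg.Agent.Lib.FGS.ClassSize
import Cfsg.Agent.Lib.Core.Coprime
import Cfsg.Agent.Lib.Core.HallSZ
import Cfsg.Agent.Lib.PGroup.Basic

/-!
Camina pairs, equal order pairs, minimal supplements.
-/

set_option autoImplicit false

namespace H80

open Subgroup Cfsg
open scoped Pointwise

variable {G : Type*} [Group G]

theorem mem_comap_Cx_mk {N : Subgroup G} [N.Normal] {g x : G} :
    x ∈ (Cx⟦(g : G ⧸ N)⟧).comap (QuotientGroup.mk' N) ↔ g⁻¹ * (x * g * x⁻¹) ∈ N := by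
  rw [mem_comap, mem_Cx_iff_conj, ← QuotientGroup.eq, eq_comm]
  simp

/-- The conjugates of `g` inside the coset `gN`. -/
theorem card_Cx_mk_mul (N : Subgroup G) [N.Normal] (g : G) :
    Nat.card Cx⟦(g : G ⧸ N)⟧ * Nat.card N =
      Nat.card Cx⟦g⟧ * {n : G | n ∈ N ∧ ∃ x : G, x * g * x⁻¹ = g * n}.ncard := by
  have h1 := H1.card_comap_mk' N Cx⟦(g : G ⧸ N)⟧
  have h2 := H1.card_mul_relIndex_of_le (Cx_le_comap (QuotientGroup.mk' N) g)
  rw [← ncard_image_conj] at h2
  rw [← h1]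
  refine h2.symm.trans ?_
  congr 1
  rw [← Set.ncard_image_of_injective _ (mul_right_injective g⁻¹)]
  congr 1
  ext n
  constructor
  · rintro ⟨_, ⟨x, hx, rfl⟩, rfl⟩
    exact ⟨mem_comap_Cx_mk.1 hx, x, by simp⟩
  · rintro ⟨hn, x, hx⟩
    refine ⟨_, ⟨x, mem_comap_Cx_mk.2 ?_, rfl⟩, ?_⟩
    · rw [hx]; simpa using hn
    · show g⁻¹ * (x * g * x⁻¹) = n
      rw [hx]; simp

theorem card_Cx_mk_le [Finite G] (N : Subgroup G) [N.Normal] (g : G) :
    Nat.card Cx⟦(g : G ⧸ N)⟧ ≤ Nat.card Cx⟦g⟧ := by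
  have h := card_Cx_mk_mul N g
  have h2 : {n : G | n ∈ N ∧ ∃ x : G, x * g * x⁻¹ = g * n}.ncard ≤ Nat.card N :=
    Set.ncard_le_ncard (t := (N : Set G)) (fun _ h => h.1)
  refine Nat.le_of_mul_le_mul_right ?_ (Nat.card_pos (α := N))
  rw [h]
  exact Nat.mul_le_mul_left _ h2

theorem camina_iff [Finite G] (N : Subgroup G) [N.Normal] (g : G) :
    (∀ n ∈ N, ∃ x : G, x * g * x⁻¹ = g * n) ↔ Nat.card Cx⟦g⟧ = Nat.card Cx⟦(g : G ⧸ N)⟧ := by
  have h := card_Cx_mk_mul N g
  constructor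
  · intro hc
    have : {n : G | n ∈ N ∧ ∃ x : G, x * g * x⁻¹ = g * n} = (N : Set G) := by
      ext n
      exact ⟨fun h => h.1, fun h => ⟨h, hc n h⟩⟩
    rw [this] at h
    exact (Nat.eq_of_mul_eq_mul_right (Nat.card_pos (α := N)) h).symm
  · intro hc
    rw [hc] at h
    have h2 := Nat.eq_of_mul_eq_mul_left Nat.card_pos h
    have : {n : G | n ∈ N ∧ ∃ x : G, x * g * x⁻¹ = g * n} = (N : Set G) :=
      Set.eq_of_subset_of_ncard_le (fun _ h => h.1) (le_of_eq h2)
    intro n hn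
    have hn' : n ∈ {n : G | n ∈ N ∧ ∃ x : G, x * g * x⁻¹ = g * n} := this ▸ hn
    exact hn'.2

/-- An element outside a normal subgroup has a prime power part outside it, for a prime dividing
the index. -/
theorem exists_isPElt_zpowers_not_mem [Finite G] {N : Subgroup G} [N.Normal] {g : G} (hg : g ∉ N) :
    ∃ (r : ℕ) (u : G), r.Prime ∧ r ∣ N.index ∧ r ∣ orderOf g ∧ H35.IsPElt r u ∧ u ∈ zpowers g ∧
      u ∉ N := by
  by_contra hn
  refine hg (mem_of_forall_isPElt_zpowers fun q x hq hqg hx hxg => ?_)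
  have := Fact.mk hq
  by_contra hxN
  exact hn ⟨q, x, hq, by_contra fun h => hxN (hx.mem_of_index h), hqg, hx, hxg, hxN⟩

theorem eq_one_of_orderOf_mul_eq {u x : G} (hu : IsOfFinOrder u) (hc : Commute u x)
    (hcop : (orderOf u).Coprime (orderOf x)) (h : orderOf (u * x) = orderOf u) : x = 1 := by
  rw [hc.orderOf_mul_eq_mul_orderOf_of_coprime hcop] at h
  exact orderOf_eq_one_iff.1 ((Nat.mul_eq_left hu.orderOf_pos.ne').1 h)

/-- A minimal supplement to a normal subgroup only involves primes dividing the index. -/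
theorem exists_supplement [Finite G] (N : Subgroup G) [N.Normal] :
    ∃ H : Subgroup G, H ⊔ N = ⊤ ∧ ∀ r : ℕ, r.Prime → r ∣ Nat.card H → r ∣ N.index := by
  obtain ⟨H, hH, hmin⟩ := exists_minimal_of_wellFoundedLT (fun H : Subgroup G => H ⊔ N = ⊤)
    ⟨⊤, top_sup_eq N⟩
  refine ⟨H, hH, fun r hr hrH => ?_⟩
  by_contra hrN
  have := Fact.mk hr
  obtain ⟨R⟩ : Nonempty (Sylow r H) := inferInstance
  have hidx : (N.subgroupOf H).index = N.index := by
    show N.relIndex H = N.index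
    rw [← relIndex_sup_right, hH, relIndex_top_right]
  have hRN : (R : Subgroup H) ≤ N.subgroupOf H := by
    refine H1.le_of_coprime_index ?_
    obtain ⟨k, hk⟩ := IsPGroup.iff_card.1 R.isPGroup'
    rw [hk, hidx]
    exact ((Nat.Prime.coprime_iff_not_dvd hr).2 hrN).pow_left k
  have key : ∀ K : Subgroup H, K ⊔ N.subgroupOf H = ⊤ → K = ⊤ := by
    intro K hK
    have h1 : K.map H.subtype ⊔ N = ⊤ := by
      have h2 := congrArg (Subgroup.map H.subtype) hK
      rw [Subgroup.map_sup, subgroupOf_map_subtype, ← MonoidHom.range_eq_map, range_subtype] at h2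
      rw [eq_top_iff, ← hH]
      exact sup_le (h2.symm.le.trans (sup_le le_sup_left (inf_le_left.trans le_sup_right)))
        le_sup_right
    have h3 := hmin h1 (map_subtype_le K)
    rw [eq_top_iff]
    intro x _
    obtain ⟨y, hy, e⟩ := h3 x.2
    rwa [← Subtype.ext e]
  have hn : (R : Subgroup H).Normal :=
    normalizer_eq_top_iff.1 (key _ (Sylow.normalizer_sup_eq_top' R hRN))
  obtain ⟨K, hK⟩ := exists_right_complement'_of_coprime R.card_coprime_index
  have hKt : K = ⊤ := key K (by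
    rw [eq_top_iff, ← hK.sup_eq_top, sup_comm]
    exact sup_le_sup_left hRN K)
  have hR : (R : Subgroup H) = ⊥ := by
    have := hK.disjoint
    rwa [hKt, disjoint_top] at this
  exact R.ne_bot_of_dvd_card hrH hR

end H80
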