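import Mathlib
import Cfsg.Agent.Lib.FGS.Camina
import Cfsg.Agent.Lib.FGS.CyclicAux
import Cfsg.Agent.Lib.Core.Frobenius
import Cfsg.Agent.Lib.Core.CoprimeSylow
import Cfsg.Agent.Lib.Core.HallSZ
import Cfsg.Agent.Lib.PGroup.Frattini

/-! Equal order pairs and Camina pairs: Camina's trichotomy. -/

set_option autoImplicit false

namespace H80

open Subgroup Cfsg H68
open scoped IsMulCommutative commutatorElement

variable {G : Type*} [Group G]

theorem exists_prime_ne_of_not_isPrimePow {n p : ℕ} (hp : p.Prime) (hd : p ∣ n)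
    (h : ¬ IsPrimePow n) : ∃ q, q.Prime ∧ q ∣ n ∧ q ≠ p := by
  by_contra hc
  push Not at hc
  exact h (isPrimePow_iff_unique_prime_dvd.2 ⟨p, ⟨hp, hd⟩, fun q hq => hc q hq.1 hq.2⟩)

theorem exists_prime_ne_of_not_isPrimePow' {n : ℕ} (p : ℕ) (hn : n ≠ 1)
    (h : ¬ IsPrimePow n) : ∃ q, q.Prime ∧ q ∣ n ∧ q ≠ p := by
  obtain ⟨r, hr, hrn⟩ := Nat.exists_prime_and_dvd hn
  by_cases hrp : r = p
  · subst hrp
    exact exists_prime_ne_of_not_isPrimePow hr hrn h
  · exact ⟨r, hr, hrn, hrp⟩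

theorem isPrimePow_card_of_isPGroup [Finite G] {p : ℕ} [hp : Fact p.Prime] {H : Subgroup G}
    (h : IsPGroup p H) (hne : H ≠ ⊥) : IsPrimePow (Nat.card H) := by
  obtain ⟨k, hk⟩ := IsPGroup.iff_card.1 h
  refine (isPrimePow_nat_iff _).2 ⟨p, k, hp.out, Nat.pos_of_ne_zero ?_, hk.symm⟩
  rintro rfl
  exact hne (card_eq_one.1 hk)

theorem map_mk'_eq_top {N H : Subgroup G} [N.Normal] (h : N ⊔ H = ⊤) :
    H.map (QuotientGroup.mk' N) = ⊤ := by
  have := congrArg (Subgroup.map (QuotientGroup.mk' N)) h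
  rwa [Subgroup.map_sup, QuotientGroup.map_mk'_self, bot_sup_eq,
    map_top_of_surjective _ (QuotientGroup.mk'_surjective N)] at this

theorem exists_mul_of_mem_map_mk' {N H : Subgroup G} [N.Normal] {x : G}
    (h : (x : G ⧸ N) ∈ H.map (QuotientGroup.mk' N)) : ∃ y ∈ H, y⁻¹ * x ∈ N := by
  obtain ⟨y, hy, h⟩ := h
  exact ⟨y, hy, QuotientGroup.eq.1 h⟩

section EqO

variable {N : Subgroup G}

theorem eqo_isPElt_of_commute (heq : ∀ x : G, x ∉ N → ∀ n ∈ N, orderOf (x * n) = orderOf x)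
    {p : ℕ} [Fact p.Prime] {g x : G} (hg : H35.IsPElt p g) (hgN : g ∉ N) (hx : x ∈ N)
    (hc : Commute g x) : H35.IsPElt p x := by
  have h1 : H35.IsPElt p (g * x) := by
    obtain ⟨k, hk⟩ := hg
    exact ⟨k, by rw [heq g hgN x hx, hk]⟩
  have := hg.inv.mul h1 ((Commute.refl g).mul_right hc).inv_left
  simpa using this

theorem eqo_le_pCore [Finite G] [N.Normal]
    (heq : ∀ x : G, x ∉ N → ∀ n ∈ N, orderOf (x * n) = orderOf x)
    {p : ℕ} [Fact p.Prime] {x : G} (hx : x ∈ pCore p G) (hxN : x ∉ N) : N ≤ pCore p G := by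
  apply H1.le_pCore
  rw [H35.isPGroup_iff_isPElt]
  intro n hn
  have h1 : H35.IsPElt p (x * n) := by
    obtain ⟨k, hk⟩ := H35.isPElt_of_mem H1.isPGroup_pCore hx
    exact ⟨k, by rw [heq x hxN n hn, hk]⟩
  obtain ⟨P, hP⟩ := h1.exists_sylow
  have h2 : n ∈ (P : Subgroup G) := by
    have := (P : Subgroup G).mul_mem ((P : Subgroup G).inv_mem (H1.pCore_le_sylow P hx)) hP
    simpa using this
  exact H35.isPElt_of_mem P.2 h2

theorem eqo_fpf (heq : ∀ x : G, x ∉ N → ∀ n ∈ N, orderOf (x * n) = orderOf x)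
    {q r : ℕ} [hq : Fact q.Prime] [hr : Fact r.Prime] (hqr : q ≠ r) {g : G} (hg : H35.IsPElt q g)
    (hgN : g ∉ N) {R : Subgroup G} (hR : IsPGroup r R) (hRN : R ≤ N) :
    R ⊓ centralizer {g} = ⊥ := by
  rw [eq_bot_iff]
  rintro x ⟨hxR, hxg⟩
  have h1 := eqo_isPElt_of_commute heq hg hgN (hRN hxR) (mem_Cx_iff_commute.1 hxg)
  apply h1.eq_one_of_not_dvd
  obtain ⟨k, hk⟩ := H35.isPElt_of_mem hR hxR
  rw [hk]
  intro h
  exact hqr ((Nat.prime_dvd_prime_iff_eq hq.out hr.out).1 (hq.out.dvd_of_dvd_pow h))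

theorem eqo_fpf' [Finite G] [N.Normal]
    (heq : ∀ x : G, x ∉ N → ∀ n ∈ N, orderOf (x * n) = orderOf x)
    {q r : ℕ} [hq : Fact q.Prime] [hr : Fact r.Prime] (hqr : q ≠ r) {g : G}
    (hg : H35.IsPElt q (g : G ⧸ N))
    (hgN : g ∉ N) {R : Subgroup G} (hR : IsPGroup r R) (hRN : R ≤ N) :
    R ⊓ centralizer {g} = ⊥ := by
  have h1 : H35.pPart q g ∉ N := by
    rw [← QuotientGroup.eq_one_iff, ← H35.pPart_mk, H35.pPart_eq_self hg, QuotientGroup.eq_one_iff]
    exact hgN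
  rw [eq_bot_iff, ← eqo_fpf heq hqr (H35.isPElt_pPart q g) h1 hR hRN]
  exact inf_le_inf_left _ (H35.centralizer_le_pPart q g)

end EqO

/-- A section `EN/N` acting semiregularly on an abelian group has cyclic abelian subgroups. -/
theorem isCyclic_of_section_fpf [Finite G] {E V N : Subgroup G} [N.Normal]
    (hV : IsMulCommutative V) (hne : V ≠ ⊥) (hEV : E ≤ normalizer (V : Set G))
    (hEN : E ⊓ N ≤ centralizer (V : Set G))
    (hf : ∀ e ∈ E, e ∉ N → V ⊓ centralizer {e} = ⊥)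
    (A : Subgroup (G ⧸ N)) (hA : A ≤ E.map (QuotientGroup.mk' N)) (hAc : IsMulCommutative A) :
    IsCyclic A := by
  have : Nontrivial V := (nontrivial_iff_ne_bot V).2 hne
  let f : E →* E.map (QuotientGroup.mk' N) := (QuotientGroup.mk' N).subgroupMap E
  have hfs : Function.Surjective f := MonoidHom.subgroupMap_surjective _ _
  have hker : f.ker ≤ (H2.conjAut hEV).ker := by
    intro e he
    have h1 : (e : G) ∈ N := by
      rw [← QuotientGroup.eq_one_iff]
      exact congrArg Subtype.val he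
    rw [MonoidHom.mem_ker]
    ext v
    rw [H2.coe_conjAut_apply, ← hEN ⟨e.2, h1⟩ v v.2]
    simp
  let ψ : E.map (QuotientGroup.mk' N) →* MulAut V :=
    f.liftOfRightInverse (Function.surjInv hfs) (Function.rightInverse_surjInv hfs) ⟨_, hker⟩
  have hψ : ∀ e, ψ (f e) = H2.conjAut hEV e := fun e =>
    f.liftOfRightInverse_comp_apply _ _ ⟨_, hker⟩ e
  refine H2.isCyclic_of_fpf_of_comm (ψ.comp (inclusion hA)) ?_
  intro a ha v hv
  obtain ⟨e, he⟩ := hfs (inclusion hA a)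
  rw [MonoidHom.comp_apply, ← he, hψ] at hv
  have h1 : (e : G) ∉ N := by
    intro h
    apply ha
    apply Subtype.ext
    have h2 : ((e : G) : G ⧸ N) = a := congrArg Subtype.val he
    rw [← h2]
    exact (QuotientGroup.eq_one_iff _).2 h
  have h2 : (v : G) ∈ V ⊓ centralizer {(e : G)} := by
    refine ⟨v.2, mem_Cx'.2 ?_⟩
    have := congrArg Subtype.val hv
    rw [H2.coe_conjAut_apply] at this
    rw [← mul_inv_eq_iff_eq_mul, this]
  rw [hf e e.2 h1] at h2
  exact Subtype.ext h2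

theorem eq_of_forall_comm_isCyclic [Finite G] {p : ℕ} [hp : Fact p.Prime] (hG : IsPGroup p G)
    (h : ∀ A : Subgroup G, IsMulCommutative A → IsCyclic A) (H K : Subgroup G)
    (hH : Nat.card H = p) (hK : Nat.card K = p) : H = K := by
  have hne : (⊤ : Subgroup G) ≠ ⊥ := by
    intro ht
    have : H = ⊥ := eq_bot_iff.2 (ht ▸ le_top)
    rw [this, card_bot] at hH
    exact hp.out.one_lt.ne hH
  obtain ⟨z, -, hz, hzp⟩ := H5.exists_mem_center_orderOf_eq hG ⊤ hne
  have key : ∀ L : Subgroup G, Nat.card L = p → L = zpowers z := by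
    intro L hL
    have := isCyclic_of_prime_card hL
    refine eq_of_card_eq_of_le_isCyclic (C := L ⊔ zpowers z)
      (h _ (H5.isMulCommutative_sup_zpowers IsCyclic.isMulCommutative
        (center_le_centralizer _ hz))) le_sup_left le_sup_right ?_
    rw [hL, Nat.card_zpowers, hzp]
  rw [key H hH, key K hK]

section Camina

variable [Finite G] {N : Subgroup G} [N.Normal]

omit [Finite G] [N.Normal] in
theorem camina_eqo (hcam : ∀ g : G, g ∉ N → ∀ n ∈ N, ∃ x : G, x * g * x⁻¹ = g * n) :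
    ∀ x : G, x ∉ N → ∀ n ∈ N, orderOf (x * n) = orderOf x := by
  intro x hx n hn
  obtain ⟨y, hy⟩ := hcam x hx n hn
  rw [← hy]
  exact (MulAut.conj y).orderOf_eq x

theorem camina_exists_central (hcam : ∀ g : G, g ∉ N → ∀ n ∈ N, ∃ x : G, x * g * x⁻¹ = g * n)
    {q : ℕ} [hq : Fact q.Prime] (Q : Sylow q G) (hd : q ∣ N.index) :
    ∃ g ∈ (Q : Subgroup G), g ∉ N ∧ g ^ q ∈ N ∧ (∀ x ∈ (Q : Subgroup G), ⁅g, x⁆ ∈ N) ∧
      ∀ n ∈ (Q : Subgroup G) ⊓ N, ∃ x ∈ (Q : Subgroup G), x * g * x⁻¹ = g * n := by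
  have hS : SylowIn q ((Q : Subgroup G).map (QuotientGroup.mk' N)) ⊤ := by
    have := (sylowIn_top Q).map (QuotientGroup.mk' N)
    rwa [map_top_of_surjective _ (QuotientGroup.mk'_surjective N)] at this
  have hQN : ¬ (Q : Subgroup G) ≤ N := by
    intro h
    apply hS.ne_bot (by rwa [card_top])
    rwa [Subgroup.map_eq_bot_iff, QuotientGroup.ker_mk']
  obtain ⟨g, hgQ, hgN, hgq, hgc⟩ := H5.exists_step_of_le Q.2 N le_rfl le_normalizer hQN
  refine ⟨g, hgQ, hgN, hgq, hgc, ?_⟩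
  let g' : (Q : Subgroup G) := ⟨g, hgQ⟩
  have h1 : Nat.card Cx⟦g'⟧ = Nat.card Cx⟦(g' : (Q : Subgroup G) ⧸ N.subgroupOf Q)⟧ := by
    refine le_antisymm ?_ (card_Cx_mk_le _ _)
    have h2 : Cx⟦(g' : (Q : Subgroup G) ⧸ N.subgroupOf Q)⟧ = ⊤ := by
      rw [eq_top_iff]
      intro y _
      obtain ⟨y, rfl⟩ := QuotientGroup.mk_surjective y
      rw [mem_Cx', ← commutatorElement_eq_one_iff_mul_comm]
      exact (QuotientGroup.eq_one_iff (⁅g', y⁆ : (Q : Subgroup G))).2 (hgc y y.2)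
    rw [h2, card_top]
    have h3 : Nat.card ((Q : Subgroup G) ⧸ N.subgroupOf Q) =
        Nat.card ((Q : Subgroup G).map (QuotientGroup.mk' N)) := by
      rw [H1.card_map_mk'_eq_relIndex]; rfl
    rw [h3, hS.card_eq, card_top]
    obtain ⟨k, hk⟩ := IsPGroup.iff_card.1 (Q.2.to_subgroup Cx⟦g'⟧)
    have h4 : q ^ k ∣ Nat.card (G ⧸ N) := by
      refine dvd_trans ?_ (card_subgroup_dvd_card Cx⟦(g : G ⧸ N)⟧)
      rw [← (camina_iff N g).1 (hcam g hgN), ← hk, card_Cx_subtype]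
      exact card_dvd_of_le inf_le_left
    rw [hk]
    exact Nat.pow_le_pow_right hq.out.pos ((hq.out.pow_dvd_iff_le_factorization
      Nat.card_pos.ne').1 h4)
  intro n hn
  obtain ⟨x, hx⟩ := (camina_iff (N.subgroupOf Q) g').2 h1 ⟨n, hn.1⟩ hn.2
  exact ⟨x, x.2, congrArg Subtype.val hx⟩

theorem camina_inf_le_commutator
    (hcam : ∀ g : G, g ∉ N → ∀ n ∈ N, ∃ x : G, x * g * x⁻¹ = g * n)
    {q : ℕ} [hq : Fact q.Prime] (Q : Sylow q G) (hd : q ∣ N.index) :
    (Q : Subgroup G) ⊓ N ≤ ⁅(Q : Subgroup G), (Q : Subgroup G)⁆ := by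
  obtain ⟨g, hgQ, -, -, -, h⟩ := camina_exists_central hcam Q hd
  intro n hn
  obtain ⟨x, hx, h⟩ := h n hn
  have : n = ⁅g⁻¹, x⁆ := by
    rw [commutatorElement_def, inv_inv, mul_assoc, mul_assoc, ← mul_assoc x, h]; simp
  rw [this]
  exact commutator_mem_commutator (inv_mem hgQ) hx

theorem camina_exists_noncyclic
    (hcam : ∀ g : G, g ∉ N → ∀ n ∈ N, ∃ x : G, x * g * x⁻¹ = g * n)
    {q : ℕ} [hq : Fact q.Prime] (Q : Sylow q G) (hd : q ∣ N.index) (hdN : q ∣ Nat.card N) :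
    ∃ A ≤ (Q : Subgroup G).map (QuotientGroup.mk' N), IsMulCommutative A ∧ ¬ IsCyclic A := by
  by_contra hc
  push Not at hc
  obtain ⟨g, hgQ, hgN, hgq, hgc, h⟩ := camina_exists_central hcam Q hd
  have hS : SylowIn q ((Q : Subgroup G) ⊓ N) N :=
    (sylowIn_top Q).inf_of_normal_le (by rw [normalizer_eq_top]) le_top
  have hne := hS.ne_bot hdN
  have hlt : ¬ (Q : Subgroup G) ⊓ N ≤ ⁅(Q : Subgroup G) ⊓ N, (Q : Subgroup G)⁆ := by
    intro hle
    have : Group.IsNilpotent (Q : Subgroup G) := Q.2.isNilpotent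
    have h1 := H5.commutator_top_lt_of_nilpotent (N.subgroupOf Q) (by
      intro h
      rw [subgroupOf_eq_bot] at h
      exact hne (by rw [inf_comm]; exact h.eq_bot))
    have h2 := (map_lt_map_iff_of_injective (Q : Subgroup G).subtype_injective).2 h1
    rw [map_commutator, subgroupOf_map_subtype, ← MonoidHom.range_eq_map, range_subtype,
      inf_comm] at h2
    exact absurd hle h2.not_ge
  apply hlt
  intro n hn
  obtain ⟨x, hx, hxn⟩ := h n hn
  have hn' : n = g⁻¹ * x * g * x⁻¹ := by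
    rw [mul_assoc, mul_assoc, ← mul_assoc x, hxn]; simp
  by_cases hxN : x ∈ N
  · have : n = ⁅x, g⁻¹⁆⁻¹ := by rw [hn', commutatorElement_def]; group
    rw [this]
    exact inv_mem (commutator_mem_commutator (mem_inf.2 ⟨hx, hxN⟩) (inv_mem hgQ))
  · have hcyc := hc (zpowers (g : G ⧸ N) ⊔ zpowers (x : G ⧸ N))
      (sup_le (by rw [zpowers_le]; exact ⟨g, hgQ, rfl⟩) (by rw [zpowers_le]; exact ⟨x, hx, rfl⟩))
      (H5.isMulCommutative_sup_zpowers inferInstance (by
        rw [centralizer_zpowers, mem_Cx', ← commutatorElement_eq_one_iff_mul_comm]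
        exact (QuotientGroup.eq_one_iff ⁅g, x⁆).2 (hgc x hx)))
    have hog : orderOf (g : G ⧸ N) = q :=
      orderOf_eq_prime ((QuotientGroup.eq_one_iff (g ^ q)).2 hgq)
        (mt (QuotientGroup.eq_one_iff g).1 hgN)
    have hox : q ∣ orderOf (x : G ⧸ N) :=
      ((H35.isPElt_of_mem Q.2 hx).map (QuotientGroup.mk' N)).dvd_orderOf
        (mt (QuotientGroup.eq_one_iff x).1 hxN)
    obtain ⟨k, hk⟩ := mem_zpowers_of_orderOf_dvd hcyc (mem_sup_left (mem_zpowers _))
      (mem_sup_right (mem_zpowers _)) (hog ▸ hox)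
    have h1 : (x ^ k)⁻¹ * g ∈ N := QuotientGroup.eq.1 hk
    set m := (x ^ k)⁻¹ * g with hm
    have h2 : g = x ^ k * m := by simp [hm]
    have : n = ⁅m⁻¹, x⁆ := by
      rw [hn', h2, commutatorElement_def]; group
    rw [this]
    exact commutator_mem_commutator
      (inv_mem (mem_inf.2 ⟨mul_mem (inv_mem (zpow_mem hx k)) hgQ, h1⟩)) hx

theorem camina_aux (hcam : ∀ g : G, g ∉ N → ∀ n ∈ N, ∃ x : G, x * g * x⁻¹ = g * n)
    {q r : ℕ} [hq : Fact q.Prime] [hr : Fact r.Prime] (hqr : q ≠ r) (hd : q ∣ N.index)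
    (hdN : q ∣ Nat.card N) (hrN : r ∣ Nat.card N) {R S : Subgroup G} (hR : SylowIn r R N)
    (hS : SylowIn q S (normalizer (R : Set G)))
    (hc : S ⊓ N ≤ centralizer ((R ⊓ centralizer (R : Set G) : Subgroup G) : Set G)) : False := by
  obtain ⟨Q, hQ⟩ := hS.isPGroup.exists_le_sylow
  have h1 : (normalizer (R : Set G)).map (QuotientGroup.mk' N) = ⊤ := by
    apply map_mk'_eq_top
    have := hR.frattini_sup (H := ⊤) le_top (by rw [normalizer_eq_top])
    rwa [top_inf_eq] at this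
  have h2 : (Q : Subgroup G).map (QuotientGroup.mk' N) = S.map (QuotientGroup.mk' N) :=
    (hS.map _).eq_of_le (Q.2.map _) (map_mono hQ) (h1 ▸ le_top)
  obtain ⟨A, hA, hAc, hnc⟩ := camina_exists_noncyclic hcam Q hd hdN
  apply hnc
  refine isCyclic_of_section_fpf (V := R ⊓ centralizer (R : Set G)) ?_ ?_ ?_ hc ?_ A (h2 ▸ hA) hAc
  · exact ⟨⟨fun a b => Subtype.ext (b.2.2 a a.2.1)⟩⟩
  · obtain ⟨z, hz, hz', hzo⟩ := H5.exists_mem_centralizer_orderOf_eq hR.isPGroup le_rfl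
      le_normalizer (hR.ne_bot hrN)
    intro h
    have : z ∈ R ⊓ centralizer (R : Set G) := ⟨hz, hz'⟩
    rw [h, mem_bot] at this
    rw [this, orderOf_one] at hzo
    exact hr.out.one_lt.ne hzo
  · exact H2.le_normalizer_inf hS.le (H2.le_normalizer_centralizer hS.le)
  · intro e he heN
    exact eqo_fpf (camina_eqo hcam) hqr (H35.isPElt_of_mem hS.isPGroup he) heN
      (hR.isPGroup.to_le inf_le_left) (inf_le_left.trans hR.le)

theorem camina_not_dvd (hcam : ∀ g : G, g ∉ N → ∀ n ∈ N, ∃ x : G, x * g * x⁻¹ = g * n)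
    {p q : ℕ} [hp : Fact p.Prime] [hq : Fact q.Prime] (hqp : q ≠ p) (hpd : p ∣ N.index)
    (hpN : p ∣ Nat.card N) (hqd : q ∣ N.index) : ¬ q ∣ Nat.card N := by
  intro hqN
  obtain ⟨R, hR⟩ := exists_sylowIn p N
  obtain ⟨S, hS⟩ := exists_sylowIn q (normalizer (R : Set G))
  refine camina_aux hcam hqp hqd hqN hpN hR hS ?_
  set T := normalizer (R : Set G) with hT
  have hS1 : SylowIn q (S ⊓ N) (T ⊓ N) :=
    hS.inf_of_le_normalizer (by rw [normalizer_eq_top]; exact le_top)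
  have h1 : N ⊔ T = ⊤ := by
    have := hR.frattini_sup (H := ⊤) le_top (by rw [normalizer_eq_top])
    rwa [top_inf_eq] at this
  have h2 := hS1.frattini_sup (H := T) inf_le_left
    (H2.le_normalizer_inf le_normalizer (by rw [normalizer_eq_top]; exact le_top))
  set U := T ⊓ normalizer ((S ⊓ N : Subgroup G) : Set G) with hU
  have h3 : N ⊔ U = ⊤ := by
    rw [eq_top_iff, ← h1, ← h2]
    exact sup_le le_sup_left (sup_le_sup_right inf_le_right _)
  obtain ⟨P', hP'⟩ := exists_sylowIn p U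
  have h4 : IsPGroup p (P' ⊔ R : Subgroup G) :=
    hP'.isPGroup.to_sup_of_normal_right' hR.isPGroup (hP'.le.trans inf_le_left)
  obtain ⟨P, hP⟩ := h4.exists_le_sylow
  have h5 : (P : Subgroup G).map (QuotientGroup.mk' N) = P'.map (QuotientGroup.mk' N) :=
    (hP'.map _).eq_of_le (P.2.map _) (map_mono (le_sup_left.trans hP))
      (map_mk'_eq_top h3 ▸ le_top)
  have h6 : P' = P := by
    apply H2.eq_of_sup_frattini (le_sup_left.trans hP)
    intro x hx
    obtain ⟨y, hy, hyx⟩ := exists_mul_of_mem_map_mk' (h5 ▸ mem_map_of_mem _ hx :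
      (x : G ⧸ N) ∈ P'.map (QuotientGroup.mk' N))
    have : x = y * (y⁻¹ * x) := by simp
    rw [this]
    refine mul_mem (mem_sup_right hy) (mem_sup_left ?_)
    exact H5.commutator_le_map_frattini P.2 (camina_inf_le_commutator hcam P hpd
      (mem_inf.2 ⟨mul_mem (inv_mem (hP (mem_sup_left hy))) hx, hyx⟩))
  have h7 : R ≤ normalizer ((S ⊓ N : Subgroup G) : Set G) :=
    ((le_sup_right.trans hP).trans (h6 ▸ hP'.le)).trans inf_le_right
  refine le_trans ?_ (centralizer_le (show ((R ⊓ centralizer (R : Set G) : Subgroup G) : Set G) ⊆ R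
    from fun x hx => hx.1))
  rw [← commutator_eq_bot_iff_le_centralizer, eq_bot_iff,
    ← (IsPGroup.disjoint_of_ne q p hqp _ _ hS1.isPGroup hR.isPGroup).eq_bot]
  refine le_inf (H2.commutator_le_of_le_normalizer h7) ?_
  rw [commutator_comm]
  exact H2.commutator_le_of_le_normalizer (hS1.le.trans inf_le_left)

/-- Camina's theorem. -/
theorem camina_trichotomy (hcam : ∀ g : G, g ∉ N → ∀ n ∈ N, ∃ x : G, x * g * x⁻¹ = g * n) :
    (∀ x ∈ N, x ≠ 1 → centralizer ({x} : Set G) ≤ N) ∨ IsPrimePow (Nat.card N) ∨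
      IsPrimePow N.index := by
  by_contra hc
  push Not at hc
  obtain ⟨⟨x, hxN, hx1, hx⟩, hN1, hN2⟩ := hc
  obtain ⟨g, hg, hgN⟩ := SetLike.not_le_iff_exists.1 hx
  obtain ⟨p, u, hp, hpd, -, hu, hug, huN⟩ := exists_isPElt_zpowers_not_mem hgN
  have := Fact.mk hp
  have hux : Commute u x := mem_Cx_iff_commute'.1 ((zpowers_le.2 hg) hug)
  have hpN : p ∣ Nat.card N :=
    ((eqo_isPElt_of_commute (camina_eqo hcam) hu huN hxN hux).dvd_orderOf hx1).trans
      (H1.orderOf_dvd_card_of_mem hxN)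
  obtain ⟨q, hq, hqd, hqp⟩ := exists_prime_ne_of_not_isPrimePow hp hpd hN2
  obtain ⟨r, hr, hrN, hrp⟩ := exists_prime_ne_of_not_isPrimePow hp hpN hN1
  have := Fact.mk hq
  have := Fact.mk hr
  have hqN := camina_not_dvd hcam hqp hpd hpN hqd
  have hqr : q ≠ r := by rintro rfl; exact hqN hrN
  obtain ⟨R, hR⟩ := exists_sylowIn r N
  obtain ⟨S, hS⟩ := exists_sylowIn p (normalizer (R : Set G))
  refine camina_aux hcam hrp.symm hpd hpN hrN hR hS ?_
  set T := normalizer (R : Set G) with hT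
  have hS1 : SylowIn p (S ⊓ N) (T ⊓ N) :=
    hS.inf_of_le_normalizer (by rw [normalizer_eq_top]; exact le_top)
  have h1 : N ⊔ T = ⊤ := by
    have := hR.frattini_sup (H := ⊤) le_top (by rw [normalizer_eq_top])
    rwa [top_inf_eq] at this
  have h2 := hS1.frattini_sup (H := T) inf_le_left
    (H2.le_normalizer_inf le_normalizer (by rw [normalizer_eq_top]; exact le_top))
  set U := T ⊓ normalizer ((S ⊓ N : Subgroup G) : Set G) with hU
  have h3 : N ⊔ U = ⊤ := by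
    rw [eq_top_iff, ← h1, ← h2]
    exact sup_le le_sup_left (sup_le_sup_right inf_le_right _)
  have h4 : q ∣ Nat.card U := by
    refine dvd_trans ?_ (card_map_dvd U (QuotientGroup.mk' N))
    rwa [map_mk'_eq_top h3, card_top]
  obtain ⟨y, hyU, hyq⟩ := H1.exists_mem_orderOf_eq_prime hq h4
  have hy : ∀ z ∈ zpowers y, z ≠ 1 → H35.IsPElt q z ∧ z ∉ N := by
    intro z hz hz1
    have h5 : H35.IsPElt q z := H35.IsPElt.of_mem_zpowers ⟨1, by simp [hyq]⟩ hz
    exact ⟨h5, fun h => hqN ((h5.dvd_orderOf hz1).trans (H1.orderOf_dvd_card_of_mem h))⟩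
  have hVR : IsPGroup r (R ⊓ centralizer (R : Set G) : Subgroup G) := hR.isPGroup.to_le inf_le_left
  have hTV : T ≤ normalizer ((R ⊓ centralizer (R : Set G) : Subgroup G) : Set G) :=
    H2.le_normalizer_inf le_rfl (H2.le_normalizer_centralizer le_rfl)
  refine H2.le_centralizer_of_frobenius_action_comm (R := zpowers y)
    ((zpowers_le.2 hyU).trans inf_le_right) (fun z hz hz1 => ?_)
    ⟨⟨fun a b => Subtype.ext (b.2.2 a a.2.1)⟩⟩ ((hS1.le.trans inf_le_left).trans hTV)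
    (((zpowers_le.2 hyU).trans inf_le_left).trans hTV)
    (IsPGroup.coprime_card_of_ne p r hrp.symm _ _ hS1.isPGroup hVR) ?_
  · exact eqo_fpf (camina_eqo hcam) hqp (hy z hz hz1).1 (hy z hz hz1).2 hS1.isPGroup inf_le_right
  · have hy1 : y ≠ 1 := by
      rintro rfl
      rw [orderOf_one] at hyq
      exact hq.one_lt.ne hyq
    rw [centralizer_zpowers]
    exact eqo_fpf (camina_eqo hcam) hqr (hy y (mem_zpowers y) hy1).1 (hy y (mem_zpowers y) hy1).2
      hVR (inf_le_left.trans hR.le)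

end Camina

end H80
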