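import Mathlib
import Cfsg.Agent.S0205
import Cfsg.Agent.S1230
import Cfsg.Agent.S2475
import Cfsg.Agent.S0252

/-!
A non-solvable finite group all of whose non-identity elements have prime order is `A₅`;
solvability from a cyclic or normal Sylow `2`-subgroup (helper78).
-/

set_option autoImplicit false

namespace H78.PrimeOrd

open Subgroup

variable {G : Type*} [Group G] [Finite G]

theorem isSolvable_of_normal_sylow (T : Sylow 2 G) (hT : (T : Subgroup G).Normal) :
    Group.IsSolvable G := by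
  haveI : Fact (Nat.Prime 2) := ⟨Nat.prime_two⟩
  haveI : Group.IsNilpotent T := T.isPGroup'.isNilpotent
  haveI : Group.IsSolvable (G ⧸ (T : Subgroup G)) := Cfsg.Agent.S0205.result
    (Nat.odd_iff.mpr (Nat.two_dvd_ne_zero.mp T.not_dvd_index))
  exact Group.isSolvable_of_ker_le_range (T : Subgroup G).subtype (QuotientGroup.mk' (T : Subgroup G))
    (by simp)

theorem isSolvable_of_cyclic_sylow (T : Sylow 2 G) (hT : IsCyclic T) : Group.IsSolvable G := by
  haveI : Fact (Nat.Prime 2) := ⟨Nat.prime_two⟩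
  rcases Nat.even_or_odd (Nat.card G) with he | ho
  swap
  · exact Cfsg.Agent.S0205.result ho
  have hm : (Nat.card G).minFac = 2 := (Nat.minFac_eq_two_iff _).mpr he.two_dvd
  set f := MonoidHom.transferSylow T (hT.normalizer_le_centralizer hm)
  haveI : Group.IsSolvable f.ker := Cfsg.Agent.S0205.result
    (Nat.odd_iff.mpr (Nat.two_dvd_ne_zero.mp (MonoidHom.not_dvd_card_ker_transferSylow T _)))
  haveI : Group.IsNilpotent T := T.isPGroup'.isNilpotent
  exact Group.isSolvable_of_ker_le_range f.ker.subtype f (by simp)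

/-- involution centralizers elementary abelian and non-solvable: `PSL₂(2ⁿ)`, `n ≥ 2`. -/
theorem exists_psl (hns : ¬ Group.IsSolvable G)
    (hC : ∀ t c : G, orderOf t = 2 → c * t = t * c → c ^ 2 = 1) :
    ∃ (F : Type) (_ : Field F) (_ : Fintype F) (n : ℕ), 2 ≤ n ∧ Fintype.card F = 2 ^ n ∧
      Nonempty (G ≃* Matrix.ProjectiveSpecialLinearGroup (Fin 2) F) := by
  haveI : Fact (Nat.Prime 2) := ⟨Nat.prime_two⟩
  obtain ⟨T⟩ : Nonempty (Sylow 2 G) := inferInstance
  have hc : ¬ IsCyclic T := fun h => hns (isSolvable_of_cyclic_sylow T h)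
  obtain ⟨F, _, _, hF, e⟩ := Cfsg.Agent.S1230.result T hc
    (fun h => hns (isSolvable_of_normal_sylow T h)) fun t ht => by
      have h2 : ∀ c ∈ centralizer ({t} : Set G), c ^ 2 = 1 := fun c hc =>
        hC t c ht (mem_centralizer_singleton_iff.mp hc)
      refine ⟨⟨⟨fun a b => Subtype.ext ?_⟩⟩, h2⟩
      have ha := h2 a a.2
      have hb := h2 b b.2
      have hab := h2 _ (a * b).2
      rw [sq, mul_eq_one_iff_eq_inv] at ha hb hab
      push_cast at hab ⊢
      rw [hab, mul_inv_rev, ← ha, ← hb]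
  obtain ⟨n, hn⟩ := T.isPGroup'.exists_card_eq
  refine ⟨F, inferInstance, inferInstance, n, ?_, hF.trans hn, e⟩
  by_contra hlt
  apply hc
  interval_cases n
  · exact isCyclic_of_card_dvd_prime (p := 2) (by rw [hn]; norm_num)
  · exact isCyclic_of_card_dvd_prime (p := 2) (by rw [hn]; norm_num)

theorem exists_orderOf_psl {F : Type*} [Field F] [Fintype F] {n : ℕ} (hn : 2 ≤ n)
    (hF : Fintype.card F = 2 ^ n) {m : ℕ} (hm : m ∣ 2 ∨ m ∣ 2 ^ n - 1 ∨ m ∣ 2 ^ n + 1) :
    ∃ g : Matrix.ProjectiveSpecialLinearGroup (Fin 2) F, orderOf g = m := by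
  haveI : Fact (Nat.Prime 2) := ⟨Nat.prime_two⟩
  haveI : CharP F 2 := charP_of_card_eq_prime_pow hF
  have h4 : 4 ≤ 2 ^ n := Nat.pow_le_pow_right (by norm_num : 0 < 2) hn
  have hg : Nat.gcd 2 (2 ^ n - 1) = 1 := by
    obtain ⟨k, rfl⟩ : ∃ k, n = k + 1 := ⟨n - 1, by omega⟩
    rw [← Nat.coprime_iff_gcd_eq_one, Nat.coprime_two_left, Nat.odd_iff]
    have := pow_succ 2 k
    omega
  have := Cfsg.Agent.S2475.result (F := F) 2 (by omega)
  rw [hF, hg, Nat.div_one, Nat.div_one] at this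
  exact (this.ge hm :)

/-- A non-solvable group all of whose non-identity elements have prime order is `A₅`. -/
theorem equiv_A5 (hns : ¬ Group.IsSolvable G) (h : ∀ g : G, g ≠ 1 → (orderOf g).Prime) :
    Nonempty (G ≃* alternatingGroup (Fin 5)) := by
  obtain ⟨F, _, _, n, hn, hF, ⟨e⟩⟩ := exists_psl hns fun t c ht hct => by
    by_contra hc
    have hc1 : c ≠ 1 := by rintro rfl; exact hc (one_pow 2)
    have hc2 : orderOf c ≠ 2 := fun e => hc (e ▸ pow_orderOf_eq_one c)
    have hcop : (orderOf c).Coprime (orderOf t) :=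
      ht ▸ (Nat.coprime_primes (h c hc1) Nat.prime_two).mpr hc2
    have h1 := Commute.orderOf_mul_eq_mul_orderOf_of_coprime hct hcop
    have h2 := h (c * t) (fun e => by
      rw [e, orderOf_one, ht] at h1
      omega)
    rw [h1, ht] at h2
    exact Nat.not_prime_mul (h c hc1).one_lt.ne' (by norm_num) h2
  have h4 : 4 ≤ 2 ^ n := Nat.pow_le_pow_right (by norm_num : 0 < 2) hn
  have key : ∀ m, 1 < m → (m ∣ 2 ^ n - 1 ∨ m ∣ 2 ^ n + 1) → m.Prime := by
    intro m hm hd
    obtain ⟨g, hg⟩ := exists_orderOf_psl hn hF (Or.inr hd)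
    have := e.symm.orderOf_eq g
    rw [← hg, ← this]
    refine h _ fun e1 => ?_
    rw [e1, orderOf_one] at this
    omega
  have h1 := key (2 ^ n - 1) (by omega) (Or.inl dvd_rfl)
  have h2 := key (2 ^ n + 1) (by omega) (Or.inr dvd_rfl)
  have h3 : ¬ 3 ∣ 2 ^ n := fun hd => by
    have := Nat.prime_three.dvd_of_dvd_pow hd
    omega
  have h5 : 2 ^ n = 4 := by
    by_cases h6 : 3 ∣ 2 ^ n - 1
    · have := (Nat.prime_dvd_prime_iff_eq Nat.prime_three h1).mp h6
      omega
    · have := (Nat.prime_dvd_prime_iff_eq Nat.prime_three h2).mp (by omega)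
      omega
  obtain ⟨e'⟩ := Cfsg.Agent.S0252.result (F := F) (hF.trans h5)
  exact ⟨e.trans e'⟩

end H78.PrimeOrd
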