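import Mathlib
import Cfsg.Agent.Base
import Cfsg.Agent.Lib.TwoGrp.Sympl
import Cfsg.Agent.Lib.PGroup.Extra
import Cfsg.Agent.Lib.PGroup.MaxClass2
import Cfsg.Agent.Lib.Core.Fitting
import Cfsg.Agent.Lib.FGS.Ito
import Cfsg.Agent.S0112
import Cfsg.Agent.S4189

/-! Two-groups with and without non-cyclic abelian subgroups of order 8. -/

set_option autoImplicit false
set_option linter.unusedSectionVars false
set_option linter.style.haveILetI false

namespace H76.Ab8

open Subgroup Cfsg H13.TG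
open scoped Pointwise commutatorElement

variable {G : Type*} [Group G] [Finite G]

def Has (Y : Subgroup G) : Prop :=
  ∃ A : Subgroup G, A ≤ Y ∧ IsMulCommutative A ∧ ¬ IsCyclic A ∧ Nat.card A = 8

theorem Has.mono {Y Y' : Subgroup G} (h : Has Y) (e : Y ≤ Y') : Has Y' := by
  obtain ⟨A, h1, h2⟩ := h
  exact ⟨A, h1.trans e, h2⟩

theorem comm_of {A : Subgroup G} (hA : IsMulCommutative A) {x y : G} (hx : x ∈ A) (hy : y ∈ A) :
    Commute x y := congrArg Subtype.val (hA.1.1 ⟨x, hx⟩ ⟨y, hy⟩)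

theorem isComm {A : Subgroup G} (h : ∀ x ∈ A, ∀ y ∈ A, Commute x y) : IsMulCommutative A :=
  ⟨⟨fun x y => Subtype.ext (h x x.2 y y.2)⟩⟩

theorem ord2 {a : G} (ha : a * a = 1) (h1 : a ≠ 1) : orderOf a = 2 :=
  orderOf_eq_prime (by rw [pow_two, ha]) h1

theorem mem_zp2 {a x : G} (ha : a * a = 1) : x ∈ zpowers a ↔ x = 1 ∨ x = a := by
  refine ⟨?_, by rintro (rfl | rfl); exacts [one_mem _, mem_zpowers _]⟩
  rintro ⟨i, rfl⟩
  have h2 : a ^ (2 : ℤ) = 1 := by rw [zpow_two, ha]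
  rcases Int.even_or_odd' i with ⟨k, rfl | rfl⟩
  · left; simp only; rw [zpow_mul, h2, one_zpow]
  · right; simp only; rw [zpow_add, zpow_mul, h2, one_zpow, one_mul, zpow_one]

theorem norm_of_comm {a b : G} (c : Commute a b) : b ∈ normalizer (zpowers a : Set G) :=
  centralizer_le_normalizer _ (by
    rintro _ ⟨i, rfl⟩
    exact (c.zpow_left i).eq)

theorem mem_four {a b x : G} (ha : a * a = 1) (hb : b * b = 1) (c : Commute a b) :
    x ∈ zpowers a ⊔ zpowers b ↔ x = 1 ∨ x = a ∨ x = b ∨ x = a * b := by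
  refine ⟨fun h => ?_, ?_⟩
  · obtain ⟨k, hk, i, rfl⟩ := (H5.mem_sup_zpowers_iff (norm_of_comm c)).1 h
    rcases (mem_zp2 ha).1 hk with rfl | rfl <;>
      rcases (mem_zp2 hb).1 (zpow_mem_zpowers b i) with e | e <;> simp [e]
  · rintro (rfl | rfl | rfl | rfl)
    · exact one_mem _
    · exact mem_sup_left (mem_zpowers _)
    · exact mem_sup_right (mem_zpowers _)
    · exact mul_mem (mem_sup_left (mem_zpowers _)) (mem_sup_right (mem_zpowers _))

theorem sq_four {a b x : G} (ha : a * a = 1) (hb : b * b = 1) (c : Commute a b)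
    (hx : x ∈ zpowers a ⊔ zpowers b) : x * x = 1 := by
  rcases (mem_four ha hb c).1 hx with rfl | rfl | rfl | rfl
  · exact one_mul 1
  · exact ha
  · exact hb
  · rw [mul_assoc, ← mul_assoc b, ← c.eq, mul_assoc, hb, mul_one, ha]

theorem card_sup2 {z i : G} (hz : z * z = 1) (z1 : z ≠ 1) (hi : i * i ∈ zpowers z)
    (h : i ∉ zpowers z) (c : Commute z i) : Nat.card (zpowers z ⊔ zpowers i : Subgroup G) = 4 := by
  rw [H5.card_sup_zpowers Nat.prime_two (norm_of_comm c) h (by rwa [pow_two]), Nat.card_zpowers,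
    ord2 hz z1]

theorem card_four {a b : G} (ha : a * a = 1) (hb : b * b = 1) (a1 : a ≠ 1) (b1 : b ≠ 1)
    (ba : b ≠ a) (c : Commute a b) : Nat.card (zpowers a ⊔ zpowers b : Subgroup G) = 4 :=
  card_sup2 ha a1 (hb ▸ one_mem _) (fun h => ((mem_zp2 ha).1 h).elim b1 ba) c

theorem has_of {Y : Subgroup G} (hY : IsPGroup 2 Y) {a b c : G} (aY : a ∈ Y) (bY : b ∈ Y)
    (cY : c ∈ Y) (ha : a * a = 1) (hb : b * b = 1) (a1 : a ≠ 1) (b1 : b ≠ 1) (ba : b ≠ a)
    (ab : Commute a b) (ac : Commute a c) (bc : Commute b c)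
    (h : c ∉ zpowers a ⊔ zpowers b) : Has Y := by
  obtain ⟨k, hk⟩ := hY ⟨c, cY⟩
  obtain ⟨j, h1, h2⟩ := H5.exists_pow_not_mem_pow_mem (p := 2) h (k := k)
    (by rw [show c ^ 2 ^ k = 1 from congrArg Subtype.val hk]; exact one_mem _)
  have hc : c ^ 2 ^ j ∈ centralizer ((zpowers a ⊔ zpowers b : Subgroup G) : Set G) := by
    intro x hx
    rcases (mem_four ha hb ab).1 hx with rfl | rfl | rfl | rfl
    · simp
    · exact (ac.pow_right _).eq
    · exact (bc.pow_right _).eq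
    · exact ((ac.mul_left bc).pow_right _).eq
  have hV : IsMulCommutative (zpowers a ⊔ zpowers b : Subgroup G) :=
    H5.isMulCommutative_sup_zpowers inferInstance (by
      rintro _ ⟨i, rfl⟩
      exact (ab.zpow_left i).eq)
  refine ⟨(zpowers a ⊔ zpowers b) ⊔ zpowers (c ^ 2 ^ j), sup_le (sup_le (zpowers_le.2 aY)
    (zpowers_le.2 bY)) (zpowers_le.2 (pow_mem cY _)), H5.isMulCommutative_sup_zpowers hV hc,
    H5.not_isCyclic_of_two_invol (mem_sup_left (mem_sup_left (mem_zpowers a)))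
      (mem_sup_left (mem_sup_right (mem_zpowers b))) a1 b1 ba ha hb, ?_⟩
  rw [H5.card_sup_zpowers Nat.prime_two (centralizer_le_normalizer _ hc) h1 h2,
    card_four ha hb a1 b1 ba ab]

theorem exists_invol {A : Subgroup G} (hA : IsPGroup 2 A) (hc : IsMulCommutative A)
    (hn : ¬ IsCyclic A) (z : G) : ∃ t ∈ A, t * t = 1 ∧ t ≠ 1 ∧ t ≠ z := by
  by_contra h
  push Not at h
  refine hn (UI.isCyclic_of_comm (fun x y hx hy x1 y1 => Subtype.ext ?_) hA hc)
  rw [h x x.2 (congrArg Subtype.val hx) (fun e => x1 (Subtype.ext e)),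
    h y y.2 (congrArg Subtype.val hy) (fun e => y1 (Subtype.ext e))]

section
variable {Y : Subgroup G} (hY : IsPGroup 2 Y) (hn : ¬ Has Y) {z w : G} (hz : z * z = 1)
  (z1 : z ≠ 1) (wY : w ∈ Y) (hw : w * w = z)
include hY hn hz z1 wY hw

theorem inv_cases {t : G} (tY : t ∈ Y) (ht : t * t = 1) (c : Commute t w) : t = 1 ∨ t = z := by
  by_contra h
  push Not at h
  have cz : Commute z t := hw ▸ (c.mul_right c).symm
  exact hn (has_of hY (hw ▸ mul_mem wY wY) tY wY hz ht z1 h.1 h.2 cz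
    (hw ▸ ((Commute.refl w).mul_left (Commute.refl w))) c fun e => z1 (hw ▸ sq_four hz ht cz e))

theorem eq_or_inv {u : G} (uY : u ∈ Y) (hu : u * u = z) (c : Commute u w) : u = w ∨ u = w⁻¹ := by
  have h1 : u * w * (u * w) = 1 := by
    rw [mul_assoc, ← mul_assoc w, ← c.eq, mul_assoc, hw, ← mul_assoc, hu, hz]
  rcases inv_cases hY hn hz z1 wY hw (mul_mem uY wY) h1 (c.mul_left (Commute.refl w)) with e | e
  · exact .inr (eq_inv_of_mul_eq_one_left e)
  · exact .inl (mul_right_cancel (e.trans hw.symm))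

theorem mem_zpowers_of {u : G} (uY : u ∈ Y) (hu : u * u ≠ 1) (c : Commute u w) :
    w ∈ zpowers u := by
  obtain ⟨k, hk⟩ := hY ⟨u * u, mul_mem uY uY⟩
  obtain ⟨j, h1, h2⟩ := H5.exists_pow_not_mem_pow_mem (p := 2) (K := ⊥) hu (k := k)
    (congrArg Subtype.val hk)
  have e : (u * u) ^ 2 ^ j = u ^ 2 ^ j * u ^ 2 ^ j := (Commute.refl u).mul_pow _
  rw [e] at h1 h2
  have h3 := (inv_cases hY hn hz z1 wY hw (mul_mem (pow_mem uY _) (pow_mem uY _))
    (by rw [← pow_two]; exact h2) ((c.pow_left _).mul_left (c.pow_left _))).resolve_left h1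
  rcases eq_or_inv hY hn hz z1 wY hw (pow_mem uY _) h3 (c.pow_left _) with e | e
  · exact e ▸ pow_mem (mem_zpowers u) _
  · exact inv_mem_iff.1 (e ▸ pow_mem (mem_zpowers u) _)

end

theorem card_le_eight {X V : Subgroup G} (hX : IsPGroup 2 X) (hVX : V ≤ X)
    (hn : X ≤ normalizer (V : Set G)) (h4 : Nat.card V = 4) (hC : X ⊓ centralizer (V : Set G) ≤ V) :
    Nat.card X ≤ 8 := by
  haveI : (V.subgroupOf X).Normal := (normal_subgroupOf_iff_le_normalizer hVX).2 hn
  exact H5.card_le_of_centralizer_le hX 2 (V.subgroupOf X)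
    (by rw [Nat.card_congr (subgroupOfEquivOfLe hVX).toEquiv, h4]; rfl) fun x hx =>
      hC ⟨x.2, fun v hv => congrArg Subtype.val (hx ⟨v, hVX hv⟩ hv)⟩

theorem pgroup_of_card {A : Subgroup G} (h : Nat.card A = 8) : IsPGroup 2 A :=
  IsPGroup.of_card (n := 3) h

theorem normal_zp {z : G} (h : z ∈ center G) : (zpowers z).Normal :=
  ⟨fun n hn g => by
    rwa [mem_center_iff.1 (zpowers_le.2 h hn) g, mul_inv_cancel_right]⟩

theorem central_of_unique {N : Subgroup G} [hN : N.Normal] {z : G} (zN : z ∈ N) (z2 : z * z = 1)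
    (z1 : z ≠ 1) (U : ∀ x ∈ N, x * x = 1 → x ≠ 1 → x = z) : z ∈ center G :=
  mem_center_iff.2 fun g => mul_inv_eq_iff_eq_mul.1 (U (g * z * g⁻¹) (hN.conj_mem z zN g)
    (by rw [show g * z * g⁻¹ * (g * z * g⁻¹) = g * (z * z) * g⁻¹ by group, z2]; simp)
    (by simpa using z1))

theorem exists_central_invol {N : Subgroup G} (hN : IsPGroup 2 N) (h : N ≠ ⊥) :
    ∃ z ∈ N, z ∈ centralizer (N : Set G) ∧ z * z = 1 ∧ z ≠ 1 := by
  obtain ⟨z, h1, h2, hz⟩ := H5.exists_mem_centralizer_orderOf_eq hN le_rfl le_normalizer h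
  exact ⟨z, h1, h2, by rw [← pow_two, ← hz, pow_orderOf_eq_one],
    fun e => by rw [e, orderOf_one] at hz; omega⟩

theorem has_q8 (hC : centralizer (pCore 2 G : Set G) ≤ pCore 2 G)
    (e : pCore 2 G ≃* QuaternionGroup 2) (h : Has (⊤ : Subgroup G)) : False := by
  obtain ⟨A, -, hA, hA', h8⟩ := h
  set O := pCore 2 G
  have hO : IsPGroup 2 O := H1.isPGroup_pCore
  have hU : UI O := (ui_quat 2).of_injective e.toMonoidHom e.injective
  have cO : Nat.card O = 8 := by rw [Nat.card_congr e.toEquiv, card_quat]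
  have hP : IsPGroup 2 (A ⊔ O : Subgroup G) := (pgroup_of_card h8).to_sup_of_normal_right hO
  obtain ⟨k, hk⟩ := IsPGroup.iff_card.1 hP
  have h16 : Nat.card (A ⊔ O : Subgroup G) ∣ 16 := by
    have := (card_subgroup_dvd_card (A ⊔ O)).trans (card_dvd_48 e hC)
    rw [hk] at this ⊢
    exact Nat.Coprime.dvd_of_dvd_mul_right (n := 3) (m := 16) (Nat.Coprime.pow_left k (by norm_num))
      this
  obtain ⟨z, zO, -, z2, z1⟩ := exists_central_invol hO (by
    intro e; rw [e, card_bot] at cO; omega)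
  have U : ∀ x ∈ O, x * x = 1 → x ≠ 1 → x = z :=
    fun x hx a c => congrArg Subtype.val (hU ⟨x, hx⟩ ⟨z, zO⟩ (Subtype.ext a) (Subtype.ext z2)
      (fun e => c (congrArg Subtype.val e)) (fun e => z1 (congrArg Subtype.val e)))
  have zc := central_of_unique zO z2 z1 U
  obtain ⟨t, tA, t2, t1, tz⟩ := exists_invol (pgroup_of_card h8) hA hA' z
  have tO : t ∉ O := fun h => tz (U t h t2 t1)
  have i1 : A.relIndex O = 2 := by
    have h1 := H1.card_sup_mul_card_inf_of_normal A O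
    have h2 := Nat.le_of_dvd (by norm_num) h16
    have h3 : Nat.card (A ⊓ O : Subgroup G) * A.relIndex O = 8 := by
      rw [← cO, ← inf_relIndex_right, ← Nat.card_congr
        (subgroupOfEquivOfLe (inf_le_right : A ⊓ O ≤ O)).toEquiv]
      exact card_mul_index _
    have h4 : A.relIndex O ≠ 1 := fun e => tO (by
      rwa [eq_of_le_of_card_ge (relIndex_eq_one.1 e) (by rw [cO, h8])])
    rw [h8, cO] at h1
    generalize Nat.card (A ⊓ O : Subgroup G) = a at *
    generalize Nat.card (A ⊔ O : Subgroup G) = b at *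
    generalize A.relIndex O = c at *
    have : 4 ≤ a := by nlinarith
    have : c ≤ 2 := by nlinarith
    interval_cases c <;> omega
  haveI := normal_zp zc
  set π := QuotientGroup.mk' (zpowers z)
  haveI : (O.map π).Normal := Normal.map inferInstance _ (QuotientGroup.mk'_surjective _)
  have hK : IsPGroup 2 ((centralizer (O.map π : Set (G ⧸ zpowers z))).comap π) := by
    refine H35.isPGroup_iff_isPElt.2 fun g hg => (H35.pReg_eq_one_iff 2).1 ?_
    refine (H35.isPElt_of_mem hO (hC fun o ho => ?_)).eq_one_of_not_dvd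
      (H35.not_dvd_orderOf_pReg 2 g)
    refine H80.commute_of_commutator_mem_center (zpowers_le.2 zc
      (H80.commutator_mem_of_commute_mk.1 (H35.pReg_mem 2 hg _ (mem_map_of_mem π ho))))
      (H35.coprime_orderOf (H35.isPElt_of_mem hO ho) (H35.not_dvd_orderOf_pReg 2 g))
  refine tO (H1.le_pCore hK ?_)
  rintro _ ⟨j, hj, rfl⟩
  have hj' : t * j * t⁻¹ ∈ O := Normal.conj_mem inferInstance j hj t
  have hc : j⁻¹ * (t * j * t⁻¹) ∈ A := by
    have := mul_mem_iff_of_index_two (H := A.subgroupOf O) i1 (a := ⟨j⁻¹, inv_mem hj⟩)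
      (b := ⟨_, hj'⟩)
    refine this.2 ?_
    simp only [mem_subgroupOf, inv_mem_iff]
    exact ⟨fun h => mul_mem (mul_mem tA h) (inv_mem tA), fun h => by
      simpa [mul_assoc] using mul_mem (mul_mem (inv_mem tA) h) tA⟩
  have c2 : j⁻¹ * (t * j * t⁻¹) * (j⁻¹ * (t * j * t⁻¹)) = 1 := by
    have h1 := (comm_of hA tA hc).eq
    have ti : t⁻¹ = t := inv_eq_of_mul_eq_one_right t2
    rw [ti] at h1 ⊢
    calc _ = j⁻¹ * t * j * (t * (j⁻¹ * (t * j * t))) := by group
      _ = j⁻¹ * t * (t * j) * (t * t) := by rw [h1]; group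
      _ = 1 := by rw [t2, mul_assoc j⁻¹, ← mul_assoc t, t2]; group
  have hz : j⁻¹ * (t * j * t⁻¹) ∈ zpowers z := by
    by_cases e : j⁻¹ * (t * j * t⁻¹) = 1
    · rw [e]; exact one_mem _
    · rw [U _ (mul_mem (inv_mem hj) hj') c2 e]; exact mem_zpowers z
  have := QuotientGroup.eq.2 hz
  change π j = π (t * j * t⁻¹) at this
  rw [map_mul, map_mul, map_inv, eq_mul_inv_iff_mul_eq] at this
  exact this

theorem has_core (hC : centralizer (pCore 2 G : Set G) ≤ pCore 2 G)
    (h : Has (⊤ : Subgroup G)) : Has (pCore 2 G) := by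
  by_contra hn
  have hO : IsPGroup 2 (pCore 2 G) := H1.isPGroup_pCore
  have hA : ¬ IsPGroup 2 (MulAut (pCore 2 G)) := fun e => hn (h.mono
    (H1.le_pCore ((isPGroup_of_aut hO hC e).to_subgroup ⊤)))
  by_cases hU : UI (pCore 2 G)
  · obtain ⟨e⟩ := (hU.aut_cases hO).resolve_left hA
    exact has_q8 hC e h
  obtain ⟨z, zO, zc, z2, z1⟩ := exists_central_invol hO fun e => hU fun x y _ _ x1 _ =>
    (x1 (Subtype.ext (by simpa [e] using (e ▸ x.2 : (x : G) ∈ (⊥ : Subgroup G))))).elim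
  obtain ⟨t, tO, t2, t1, tz⟩ : ∃ t ∈ pCore 2 G, t * t = 1 ∧ t ≠ 1 ∧ t ≠ z := by
    by_contra h
    push Not at h
    refine hU fun x y hx hy x1 y1 => Subtype.ext ?_
    rw [h x x.2 (congrArg Subtype.val hx) (fun e => x1 (Subtype.ext e)),
      h y y.2 (congrArg Subtype.val hy) (fun e => y1 (Subtype.ext e))]
  have zt : Commute z t := (zc t tO).symm
  have hV : zpowers z ⊔ zpowers t ≤ pCore 2 G := sup_le (zpowers_le.2 zO) (zpowers_le.2 tO)
  have h4 := card_four z2 t2 z1 t1 tz zt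
  have hVC : pCore 2 G ⊓ centralizer ((zpowers z ⊔ zpowers t : Subgroup G) : Set G) ≤
      zpowers z ⊔ zpowers t := fun c hc => by_contra fun e => hn (has_of hO zO tO hc.1 z2 t2 z1 t1 tz zt
        (hc.2 z (mem_sup_left (mem_zpowers z))) (hc.2 t (mem_sup_right (mem_zpowers t))) e)
  have hVc : ∀ x ∈ zpowers z ⊔ zpowers t, ∀ y ∈ zpowers z ⊔ zpowers t, Commute x y :=
    fun x hx y hy => comm_of (H5.isMulCommutative_sup_zpowers inferInstance (by
      rintro _ ⟨i, rfl⟩
      exact (zt.zpow_left i).eq)) hx hy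
  by_cases hO4 : pCore 2 G ≤ zpowers z ⊔ zpowers t
  · obtain ⟨A, -, a1, -, h8⟩ := h
    have c4 : Nat.card (pCore 2 G) = 4 := by rw [le_antisymm hO4 hV, h4]
    have h1 := card_le_eight ((pgroup_of_card h8).to_sup_of_normal_right hO) le_sup_right
      (le_top.trans (normalizer_eq_top _).ge) c4 (inf_le_right.trans hC)
    have h2 : A = A ⊔ pCore 2 G := eq_of_le_of_card_ge le_sup_left (by rw [h8]; exact h1)
    have h3 : A ≤ pCore 2 G := fun a ha => hC fun o ho => comm_of a1 (h2 ▸ mem_sup_right ho) ha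
    have := card_le_of_le h3
    omega
  obtain ⟨n, hn'⟩ := IsPGroup.iff_card.1 hO
  have hcl := Cfsg.Agent.S0112.result n hn' ((zpowers z ⊔ zpowers t).subgroupOf (pCore 2 G))
    (by rw [Nat.card_congr (subgroupOfEquivOfLe hV).toEquiv, h4]; rfl)
    (le_antisymm (fun x hx => hVC ⟨x.2, fun v hv => congrArg Subtype.val (hx ⟨v, hV hv⟩ hv)⟩)
      fun x hx y hy => Subtype.ext (hVc y hy x hx))
  have h3 : 3 ≤ n := by
    by_contra e
    refine hO4 (eq_of_le_of_card_ge hV ?_).ge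
    rw [h4, hn']
    exact Nat.pow_le_pow_right (n := 2) (i := n) (j := 2) (by norm_num) (by omega)
  obtain ⟨m, rfl⟩ : ∃ m, n = m + 3 := ⟨n - 3, by omega⟩
  have hi := (H5.index_commutator_of_maxClass hn' hcl).1
  obtain ⟨e⟩ := Cfsg.Agent.S4189.result hO (fun e => hO4 fun x hx => hVC ⟨hx, fun v hv =>
    comm_of e (hV hv) hx⟩) hi hA
  exact hU ((ui_quat 2).of_injective e.toMonoidHom e.injective)

end H76.Ab8
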