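import Mathlib
import Cfsg.Agent.Base
import Cfsg.Agent.Lib.FGS.Ab8A
import Cfsg.Agent.Lib.BG4.MetaAct

/-! Normal 2-subgroups minimal with a non-cyclic abelian subgroup of order 8. -/

set_option autoImplicit false
set_option linter.unusedSectionVars false
set_option linter.style.haveILetI false

namespace H76.Ab8

open Subgroup Cfsg H13.TG
open scoped Pointwise commutatorElement

variable {G : Type*} [Group G] [Finite G]

structure St (X : Subgroup G) : Prop where
  nX : X.Normal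
  pX : IsPGroup 2 X
  has : Has X
  min : ∀ Y : Subgroup G, Y.Normal → Y ≤ X → Has Y → Y = X
  nab : ¬ IsMulCommutative X
  hall : ∃ H : Subgroup G, (Nat.card H).Coprime 2 ∧ H ⊔ X = ⊤

def Concl (X : Subgroup G) : Prop :=
  (IsExtraspecial 2 X ∧ 32 ≤ Nat.card X) ∨
    (∃ (X₀ : Subgroup G) (k : ℕ), X₀ ≤ X ∧ X₀.relIndex X = 2 ∧
      Nonempty (X₀ ≃* QuaternionGroup (2 ^ (k + 1))) ∧ X₀ ⊔ (X ⊓ centralizer (X₀ : Set G)) = X) ∨
    (IsSpecial 2 X ∧ Nat.card (center X) = 4)

theorem comm_of_sup {A B : Subgroup G} (hA : ∀ x ∈ A, ∀ y ∈ A, Commute x y)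
    (hB : ∀ x ∈ B, ∀ y ∈ A ⊔ B, Commute x y) : IsMulCommutative (A ⊔ B : Subgroup G) := by
  have h1 : ∀ x ∈ A, A ⊔ B ≤ centralizer {x} := fun x hx => sup_le
    (fun y hy => mem_centralizer_singleton_iff.2 (hA y hy x hx))
    fun y hy => mem_centralizer_singleton_iff.2 (hB y hy x (mem_sup_left hx))
  refine isComm fun x hx y hy => ?_
  have h2 : A ⊔ B ≤ centralizer {y} := sup_le
    (fun a ha => mem_centralizer_singleton_iff.2
      (mem_centralizer_singleton_iff.1 (h1 a ha hy)).symm)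
    fun b hb => mem_centralizer_singleton_iff.2 (hB b hb y hy)
  exact mem_centralizer_singleton_iff.1 (h2 hx)

namespace St

variable {X : Subgroup G} (h : St X)
include h

theorem not_has {Y : Subgroup G} (hY : Y.Normal) (hle : Y ≤ X) (hc : IsMulCommutative Y) :
    ¬ Has Y := fun e => h.nab (h.min Y hY hle e ▸ hc)

theorem nine_le : 8 < Nat.card X := by
  obtain ⟨A, a1, a2, -, a4⟩ := h.has
  by_contra e
  exact h.nab (eq_of_le_of_card_ge a1 (by omega) ▸ a2)

theorem nZ : (X ⊓ centralizer (X : Set G)).Normal := by haveI := h.nX; infer_instance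

theorem cZ : IsMulCommutative (X ⊓ centralizer (X : Set G) : Subgroup G) :=
  isComm fun x hx _ hy => hy.2 x hx.1

theorem split {z : G} (zX : z ∈ X) (zc : z ∈ center G)
    (sq : ∀ x ∈ X, x * x ∈ zpowers z) (cm : ∀ x ∈ X, ∀ y ∈ X, ⁅x, y⁆ ∈ zpowers z) :
    ∃ W : Subgroup G, W.Normal ∧ W ≤ X ∧ z ∈ W ∧ W ⊓ centralizer (X : Set G) ≤ zpowers z ∧
      W ⊔ (X ⊓ centralizer (X : Set G)) = X := by
  haveI := normal_zp zc
  haveI := h.nX
  haveI := h.nZ
  obtain ⟨H, h1, h2⟩ := h.hall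
  set π := QuotientGroup.mk' (zpowers z)
  have hs : Function.Surjective π := QuotientGroup.mk'_surjective _
  haveI : (X.map π).Normal := Normal.map inferInstance _ hs
  haveI : ((X ⊓ centralizer (X : Set G)).map π).Normal := Normal.map inferInstance _ hs
  obtain ⟨W, w1, w2, w3, w4⟩ := H48.exists_invariant_compl (p := 2) (V := X.map π)
    (U := (X ⊓ centralizer (X : Set G)).map π) (A := H.map π)
    ⟨isComm (by
      rintro _ ⟨x, hx, rfl⟩ _ ⟨y, hy, rfl⟩
      exact H80.commutator_mem_of_commute_mk.2 (cm x hx y hy)), by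
      rintro _ ⟨x, hx, rfl⟩
      rw [← map_pow, pow_two]
      exact (QuotientGroup.eq_one_iff _).2 (sq x hx)⟩
    (map_mono inf_le_left) le_normalizer_of_normal le_normalizer_of_normal
    (h1.coprime_dvd_left (card_map_dvd _ _))
  have hc : ∀ Y : Subgroup G, z ∈ Y → (Y.map π).comap π = Y := fun Y e =>
    comap_map_eq_self (by rw [QuotientGroup.ker_mk']; exact zpowers_le.2 e)
  have zZ : z ∈ X ⊓ centralizer (X : Set G) := ⟨zX, fun g _ => mem_center_iff.1 zc g⟩
  have zW : z ∈ W.comap π := by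
    rw [mem_comap, show π z = 1 from (QuotientGroup.eq_one_iff _).2 (mem_zpowers z)]
    exact one_mem _
  have hWX : W.comap π ≤ X := hc X zX ▸ comap_mono w1
  refine ⟨W.comap π, normalizer_eq_top_iff.1 (top_le_iff.1 (h2 ▸ sup_le ?_ ?_)), hWX, zW, ?_, ?_⟩
  · exact (le_comap_map π H).trans ((comap_mono w2).trans (le_normalizer_comap π))
  · refine fun x hx => mem_normalizer_fintype fun w hw => ?_
    have := mul_mem (zpowers_le.2 zW (cm x hx w (hWX hw))) hw
    simpa [commutatorElement_def] using this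
  · intro x hx
    have : π x ∈ (X ⊓ centralizer (X : Set G)).map π ⊓ W :=
      ⟨mem_map_of_mem π ⟨hWX hx.1, hx.2⟩, hx.1⟩
    rw [w3] at this
    exact (QuotientGroup.eq_one_iff _).1 this
  · rw [← hc _ zZ, comap_sup_eq _ _ _ hs, sup_comm, w4, hc X zX]

theorem ui {z : G} (z2 : z * z = 1) (z1 : z ≠ 1) (zc : z ∈ center G)
    (sq : ∀ x ∈ X, x * x ∈ zpowers z) (cm : ∀ x ∈ X, ∀ y ∈ X, ⁅x, y⁆ ∈ zpowers z)
    {W : Subgroup G} (nW : W.Normal) (WX : W ≤ X) (zW : z ∈ W)
    (hW : W ⊓ centralizer (X : Set G) ≤ zpowers z) (hs : W ⊔ (X ⊓ centralizer (X : Set G)) = X)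
    {i : G} (iX : i ∈ X) (iC : i ∈ centralizer (X : Set G)) (iz : i ∉ zpowers z)
    {t : G} (tW : t ∈ W) (t2 : t * t = 1) (t1 : t ≠ 1) : t = z := by
  by_contra tz
  have zcm : ∀ g, Commute z g := fun g => (mem_center_iff.1 zc g).symm
  have hn : ¬ Has W := fun e => iz (hW ⟨h.min W nW WX e ▸ iX, iC⟩)
  have pW := h.pX.to_le WX
  have hC : ∀ c ∈ W, Commute t c → c ∈ zpowers z ⊔ zpowers t := fun c hc e => by_contra fun e' =>
    hn (has_of pW zW tW hc z2 t2 z1 t1 tz (zcm t) (zcm c) e e')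
  have hx : ∀ x ∈ W, x * x = z → x * t = z * t * x := fun x hx e => by
    rcases (mem_zp2 z2).1 (cm x (WX hx) t (WX tW)) with e1 | e1
    · exact (z1 (e ▸ sq_four z2 t2 (zcm t)
        (hC x hx (commutatorElement_eq_one_iff_commute.1 e1).symm))).elim
    · rw [H5.mul_eq_commutator_mul, e1]
  have key : ∀ x ∈ W, ∀ y ∈ W, x * x = z → y * y = z → x⁻¹ * y ∈ zpowers z := by
    intro x xW y yW ex ey
    have c : Commute t (x⁻¹ * y) := by
      have h1 := hx x xW ex
      have h2 := hx y yW ey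
      change t * (x⁻¹ * y) = x⁻¹ * y * t
      rw [mul_assoc, h2, ← mul_assoc, ← mul_assoc x⁻¹, mul_left_inj, eq_inv_mul_iff_mul_eq,
        ← mul_assoc, h1, mul_inv_cancel_right]
    have aux : ∀ s, s * s = 1 → x * s = z * s * x → x⁻¹ * y ≠ s := fun s s2 e1 e2 => z1 (by
      have e3 : y = x * s := by rw [← e2]; group
      rw [← ey, e3]
      calc x * s * (x * s) = z * s * x * (x * s) := by rw [← e1]
        _ = z * s * (x * x) * s := by group
        _ = (z * z) * (s * s) := by rw [ex, mul_assoc z s z, ← (zcm s).eq]; group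
        _ = 1 := by rw [z2, s2, one_mul])
    rcases (mem_four z2 t2 (zcm t)).1 (hC _ (mul_mem (inv_mem xW) yW) c) with e | e | e | e
    · rw [e]; exact one_mem _
    · rw [e]; exact mem_zpowers z
    · exact (aux t t2 (hx x xW ex) e).elim
    · refine (aux (z * t) (sq_four z2 t2 (zcm t) ((mem_four z2 t2 (zcm t)).2 (by simp))) ?_ e).elim
      rw [← mul_assoc, ← (zcm x).eq, mul_assoc, hx x xW ex]; group
  obtain ⟨x, xW, ex⟩ : ∃ x ∈ W, x * x = z := by
    by_contra e
    push Not at e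
    have h1 : ∀ x ∈ W, x⁻¹ = x := fun x hx => inv_eq_of_mul_eq_one_right
      (((mem_zp2 z2).1 (sq x (WX hx))).resolve_right (e x hx))
    refine h.nab (hs ▸ comm_of_sup (fun a ha b hb => ?_) fun a ha b hb => (ha.2 b (hs ▸ hb)).symm)
    change a * b = b * a
    rw [← h1 _ (mul_mem ha hb), mul_inv_rev, h1 a ha, h1 b hb]
  haveI := h.nZ
  set Z := X ⊓ centralizer (X : Set G)
  have zZ : z ∈ Z := ⟨WX zW, fun g _ => mem_center_iff.1 zc g⟩
  have hBX : Z ⊔ zpowers x ≤ X := sup_le inf_le_left (zpowers_le.2 (WX xW))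
  have nB : (Z ⊔ zpowers x).Normal := H5.normal_sup_zpowers fun g => by
    have h1 := key x xW (g * x * g⁻¹) (nW.conj_mem x xW g) ex (by
      rw [show g * x * g⁻¹ * (g * x * g⁻¹) = g * (x * x) * g⁻¹ by group, ex, ← (zcm g).eq]; group)
    have h2 : ⁅x, g⁆ = x * (x⁻¹ * (g * x * g⁻¹))⁻¹ * x⁻¹ := by
      have c : Commute x (g * x * g⁻¹) := by
        have := (mem_center_iff.1 (zpowers_le.2 zc h1) x)
        rw [← mul_assoc, mul_inv_cancel, one_mul] at this
        change x * _ = _ * x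
        conv_lhs => rw [this]
        group
      rw [commutatorElement_def, mul_inv_rev, inv_inv, mul_assoc, mul_assoc x, mul_assoc x]
      simp [mul_assoc]
    rw [h2]
    exact Normal.conj_mem inferInstance _ (inv_mem (zpowers_le.2 zZ h1)) x
  have xz : x ∉ centralizer (X : Set G) := fun e => by
    rcases (mem_zp2 z2).1 (hW ⟨xW, e⟩) with e | e
    · exact z1 (by rw [← ex, e, one_mul])
    · exact z1 (by rw [← ex, e, z2])
  refine h.not_has nB hBX (H5.isMulCommutative_sup_zpowers h.cZ fun a ha => (ha.2 x (WX xW)).symm) ?_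
  have pB := h.pX.to_le hBX
  have xB : x ∈ Z ⊔ zpowers x := mem_sup_right (mem_zpowers x)
  have iB : i ∈ Z ⊔ zpowers x := mem_sup_left ⟨iX, iC⟩
  have xi : Commute x i := iC x (WX xW)
  rcases (mem_zp2 z2).1 (sq i iX) with e | e
  · exact has_of pB (mem_sup_left zZ) iB xB z2 e z1 (fun e => iz (e ▸ one_mem _))
      (fun e => iz (e ▸ mem_zpowers _)) (zcm i) (zcm x) xi.symm
      fun e' => z1 (ex ▸ sq_four z2 e (zcm i) e')
  · have e2 : x * i * (x * i) = 1 := by
      rw [mul_assoc, ← mul_assoc i, ← xi.eq, mul_assoc, e, ← mul_assoc, ex, z2]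
    refine has_of pB (mem_sup_left zZ) (mul_mem xB iB) iB z2 e2 z1 (fun e => xz ?_) (fun e => xz ?_)
      (zcm _) (zcm i) (xi.mul_left (Commute.refl i)) fun e' => z1 (e ▸ sq_four z2 e2 (zcm _) e')
    · rw [eq_inv_of_mul_eq_one_left e]; exact inv_mem iC
    · rw [eq_mul_inv_of_mul_eq e]; exact mul_mem zZ.2 (inv_mem iC)

theorem ea {z : G} (zX : z ∈ X) (z2 : z * z = 1) (z1 : z ≠ 1) (zc : z ∈ center G)
    (sq : ∀ x ∈ X, x * x ∈ zpowers z) (cm : ∀ x ∈ X, ∀ y ∈ X, ⁅x, y⁆ ∈ zpowers z) : Concl X := by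
  have zcm : ∀ g, Commute z g := fun g => (mem_center_iff.1 zc g).symm
  have zZ : z ∈ X ⊓ centralizer (X : Set G) := ⟨zX, fun g _ => mem_center_iff.1 zc g⟩
  by_cases hZ : X ⊓ centralizer (X : Set G) ≤ zpowers z
  · have W : H5.WES 2 X z := ⟨ord2 z2 z1, le_antisymm hZ (zpowers_le.2 zZ), cm⟩
    obtain ⟨n, hn⟩ := W.exists_card Nat.prime_two
    refine .inl ⟨W.isExtraspecial fun e => h.nab (e ▸ inferInstance), ?_⟩
    have := h.nine_le
    rw [hn] at this ⊢
    have h2 : 3 < 2 * n + 1 := (Nat.pow_lt_pow_iff_right (a := 2) (by norm_num)).1 this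
    exact Nat.pow_le_pow_right (n := 2) (i := 5) (by norm_num) (by omega)
  obtain ⟨i, iZ, iz⟩ := SetLike.not_le_iff_exists.1 hZ
  have hnZ := h.not_has h.nZ inf_le_left h.cZ
  have pZ := h.pX.to_le (inf_le_left : X ⊓ centralizer (X : Set G) ≤ X)
  have hZi : X ⊓ centralizer (X : Set G) ≤ zpowers z ⊔ zpowers i := fun c hc => by
    have ci : Commute c i := iZ.2 c hc.1
    rcases (mem_zp2 z2).1 (sq i iZ.1) with e | e
    · exact by_contra fun e' => hnZ (has_of pZ zZ iZ hc z2 e z1 (fun e => iz (e ▸ one_mem _))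
        (fun e => iz (e ▸ mem_zpowers _)) (zcm i) (zcm c) ci.symm e')
    rcases (mem_zp2 z2).1 (sq c hc.1) with e' | e'
    · exact mem_sup_left ((mem_zp2 z2).2 (inv_cases pZ hnZ z2 z1 iZ e hc e' ci))
    · rcases eq_or_inv pZ hnZ z2 z1 iZ e hc e' ci with rfl | rfl
      · exact mem_sup_right (mem_zpowers _)
      · exact mem_sup_right (inv_mem (mem_zpowers _))
  obtain ⟨W, nW, WX, zW, hW, hs⟩ := h.split zX zc sq cm
  have hU : UI W := fun x y hx hy x1 y1 => Subtype.ext (by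
    rw [h.ui z2 z1 zc sq cm nW WX zW hW hs iZ.1 iZ.2 iz x.2 (congrArg Subtype.val hx)
      (fun e => x1 (Subtype.ext e)), h.ui z2 z1 zc sq cm nW WX zW hW hs iZ.1 iZ.2 iz y.2
      (congrArg Subtype.val hy) (fun e => y1 (Subtype.ext e))])
  rcases hU.cases (h.pX.to_le WX) with hc | ⟨k, e⟩
  · exact (h.nab (hs ▸ comm_of_sup (fun a ha b hb => comm_of inferInstance ha hb)
      fun a ha b hb => (ha.2 b (hs ▸ hb)).symm)).elim
  refine .inr (.inl ⟨W, k, WX, ?_, e, le_antisymm (sup_le WX inf_le_left)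
    (hs.ge.trans (sup_le_sup_left (inf_le_inf_left _ (centralizer_le WX)) _))⟩)
  have : W ⊔ zpowers i = X := le_antisymm (sup_le WX (zpowers_le.2 iZ.1))
    (hs.ge.trans (sup_le le_sup_left (hZi.trans (sup_le_sup_right (zpowers_le.2 zW) _))))
  conv_lhs => rw [← this]
  exact H5.relIndex_sup_zpowers Nat.prime_two (le_normalizer_of_normal (mem_top i))
    (fun e => iz (hW ⟨e, iZ.2⟩)) (by rw [pow_two]; exact zpowers_le.2 zW (sq i iZ.1))

end St

end H76.Ab8
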