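import Mathlib
import Cfsg.Agent.Base
import Cfsg.Agent.Lib.FGS.Ab8B

/-! The case analysis. -/

set_option autoImplicit false
set_option linter.unusedSectionVars false
set_option linter.style.haveILetI false

namespace H76.Ab8

open Subgroup Cfsg H13.TG
open scoped Pointwise commutatorElement

variable {G : Type*} [Group G] [Finite G]

theorem map_center (X : Subgroup G) :
    (center X).map X.subtype = X ⊓ centralizer (X : Set G) := by
  ext x
  refine ⟨?_, fun hx => ⟨⟨x, hx.1⟩, mem_center_iff.2 fun g => Subtype.ext (hx.2 g g.2), rfl⟩⟩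
  rintro ⟨y, hy, rfl⟩
  exact ⟨y.2, fun g hg => congrArg Subtype.val (mem_center_iff.1 hy ⟨g, hg⟩)⟩

/-- Elements with square and commutators in `⟨z⟩`. -/
def Wz (X : Subgroup G) (z : G) (zc : z ∈ center G) : Subgroup G where
  carrier := {x | x ∈ X ∧ x * x ∈ zpowers z ∧ ∀ g ∈ X, ⁅x, g⁆ ∈ zpowers z}
  one_mem' := ⟨one_mem _, by simp, fun g _ => by simp⟩
  mul_mem' := by
    rintro a b ⟨a1, a2, a3⟩ ⟨b1, b2, b3⟩
    haveI := normal_zp zc
    refine ⟨mul_mem a1 b1, ?_, fun g hg => ?_⟩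
    · have : a * b * (a * b) = a * (⁅b, a⁆ * (a * (b * b) * a⁻¹)) * a⁻¹ * (a * a) := by
        simp only [commutatorElement_def]; group
      rw [this]
      exact mul_mem (Normal.conj_mem inferInstance _ (mul_mem (b3 a a1)
        (Normal.conj_mem inferInstance _ b2 a)) a) a2
    · have : ⁅a * b, g⁆ = a * ⁅b, g⁆ * a⁻¹ * ⁅a, g⁆ := by
        simp only [commutatorElement_def]; group
      rw [this]
      exact mul_mem (Normal.conj_mem inferInstance _ (b3 g hg) a) (a3 g hg)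
  inv_mem' := by
    rintro a ⟨a1, a2, a3⟩
    haveI := normal_zp zc
    refine ⟨inv_mem a1, by simpa using inv_mem a2, fun g hg => ?_⟩
    have : ⁅a⁻¹, g⁆ = a⁻¹ * ⁅a, g⁆⁻¹ * a⁻¹⁻¹ := by
      simp only [commutatorElement_def]; group
    rw [this]
    exact Normal.conj_mem inferInstance _ (inv_mem (a3 g hg)) _

theorem Wz_normal {X : Subgroup G} (hX : X.Normal) {z : G} (zc : z ∈ center G) :
    (Wz X z zc).Normal := ⟨by
  rintro a ⟨a1, a2, a3⟩ g
  haveI := normal_zp zc
  refine ⟨hX.conj_mem a a1 g, ?_, fun k hk => ?_⟩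
  · rw [show g * a * g⁻¹ * (g * a * g⁻¹) = g * (a * a) * g⁻¹ by group]
    exact Normal.conj_mem inferInstance _ a2 g
  · have : ⁅g * a * g⁻¹, k⁆ = g * ⁅a, g⁻¹ * k * g⁻¹⁻¹⁆ * g⁻¹ := by
      simp only [commutatorElement_def]; group
    rw [this]
    exact Normal.conj_mem inferInstance _ (a3 _ (hX.conj_mem k hk _)) g⟩

namespace St

variable {X : Subgroup G} (h : St X)
include h

theorem nPhi : ((frattini X).map X.subtype).Normal := by
  haveI := h.nX; infer_instance

theorem sup_phi : (X ⊓ centralizer (X : Set G)) ⊔ (frattini X).map X.subtype ≠ X := fun e => by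
  rw [← map_center, ← Subgroup.map_sup] at e
  have h1 : center X ⊔ frattini X = ⊤ := map_injective X.subtype_injective
    (by rw [e, ← MonoidHom.range_eq_map, range_subtype])
  have h2 := frattini_nongenerating h1
  exact h.nab ⟨⟨fun a b => mem_center_iff.1 (h2 ▸ mem_top b) a⟩⟩

theorem case2 {a b : G} (aX : a ∈ X) (bX : b ∈ X) (a2 : a * a = 1) (b2 : b * b = 1) (a1 : a ≠ 1)
    (b1 : b ≠ 1) (ba : b ≠ a) (ab : Commute a b) (nV : (zpowers a ⊔ zpowers b).Normal) :
    Concl X := by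
  haveI := h.nX
  set V := zpowers a ⊔ zpowers b with hVd
  have aV : a ∈ V := mem_sup_left (mem_zpowers a)
  have bV : b ∈ V := mem_sup_right (mem_zpowers b)
  have VX : V ≤ X := sup_le (zpowers_le.2 aX) (zpowers_le.2 bX)
  have h4 : Nat.card V = 4 := card_four a2 b2 a1 b1 ba ab
  have key : ∀ Y : Subgroup G, Y.Normal → V ≤ Y → Y ≤ X ⊓ centralizer (V : Set G) → Y ≠ X →
      Y ≤ V := fun Y nY h1 h2 h3 c hc => by_contra fun e => h3 (h.min Y nY (h2.trans inf_le_left)
        (has_of (h.pX.to_le (h2.trans inf_le_left)) (h1 aV) (h1 bV) hc a2 b2 a1 b1 ba ab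
          ((h2 hc).2 a aV) ((h2 hc).2 b bV) e))
  have hVc : V ≤ centralizer (V : Set G) := fun x hx y hy => comm_of
    (H5.isMulCommutative_sup_zpowers inferInstance (by
      rintro _ ⟨i, rfl⟩
      exact (ab.zpow_left i).eq)) hy hx
  have hC : X ⊓ centralizer (V : Set G) = X := by_contra fun e => by
    have := card_le_eight h.pX VX le_normalizer_of_normal h4
      (key _ inferInstance (le_inf VX hVc) le_rfl e)
    have := h.nine_le
    omega
  rw [hC] at key
  have hVZ : V ≤ X ⊓ centralizer (X : Set G) := le_inf VX (le_centralizer_iff.1 (hC ▸ inf_le_right))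
  have hZ : X ⊓ centralizer (X : Set G) = V :=
    le_antisymm (key _ h.nZ hVZ inf_le_left fun e => h.nab (e ▸ h.cZ)) hVZ
  haveI := h.nPhi
  have hP : (frattini X).map X.subtype ≤ V := le_sup_right.trans (key (V ⊔ _) inferInstance
    le_sup_left (sup_le VX (map_subtype_le _)) (hZ ▸ h.sup_phi))
  have hD := H5.commutator_le_map_frattini h.pX
  by_cases hVD : V ≤ ⁅X, X⁆
  · refine .inr (.inr ⟨⟨h.pX, map_injective X.subtype_injective ?_,
      map_injective X.subtype_injective ?_⟩, ?_⟩)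
    · rw [map_center, hZ]; exact le_antisymm hP (hVD.trans hD)
    · rw [map_center, hZ, map_subtype_commutator]; exact le_antisymm (hD.trans hP) hVD
    · rw [← card_map_of_injective X.subtype_injective, map_center, hZ, h4]
  have hD1 : ⁅X, X⁆ ≠ ⊥ := fun e => h.nab (isComm fun x hx y hy =>
    H5.commute_of_commutator_eq_bot e hx hy)
  have hD2 : Nat.card (⁅X, X⁆ : Subgroup G) = 2 := by
    have h1 : Nat.card (⁅X, X⁆ : Subgroup G) ∣ 2 ^ 2 :=
      (card_dvd_of_le (hD.trans hP)).trans h4.dvd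
    obtain ⟨i, hi, e⟩ := (Nat.dvd_prime_pow Nat.prime_two).1 h1
    interval_cases i
    · exact (hD1 (card_eq_one.1 e)).elim
    · exact e
    · exact (hVD (eq_of_le_of_card_ge (hD.trans hP) (by rw [h4, e]; rfl)).ge).elim
  obtain ⟨z, zD, -, z2, z1⟩ := exists_central_invol (h.pX.to_le ((hD.trans hP).trans VX)) hD1
  have hz : zpowers z = ⁅X, X⁆ := eq_of_le_of_card_ge (zpowers_le.2 zD)
    (by rw [hD2, Nat.card_zpowers, ord2 z2 z1])
  have zc := central_of_unique zD z2 z1 fun x hx _ x1 =>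
    ((mem_zp2 z2).1 (hz ▸ hx)).resolve_left x1
  have cm : ∀ x ∈ X, ∀ y ∈ X, ⁅x, y⁆ ∈ zpowers z := fun x hx y hy =>
    hz ▸ commutator_mem_commutator hx hy
  have zV : z ∈ V := hP (hD zD)
  by_cases hW : Wz X z zc = X
  · exact h.ea (VX zV) z2 z1 zc (fun x hx => (hW.ge hx).2.1) cm
  have hWV := key _ (Wz_normal h.nX zc) (fun v hv => ⟨VX hv, by
    rw [sq_four a2 b2 ab hv]; exact one_mem _, cm v (VX hv)⟩) (fun _ hx => hx.1) hW
  have hi : (zpowers z).relIndex V = 2 := by
    have := H1.card_mul_relIndex_of_le (zpowers_le.2 zV)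
    rw [h4, Nat.card_zpowers, ord2 z2 z1] at this
    omega
  refine (h.nab (isComm fun x hx y hy => ?_)).elim
  by_cases xV : x ∈ V
  · exact ((hVZ xV).2 y hy).symm
  by_cases yV : y ∈ V
  · exact (hVZ yV).2 x hx
  have sq : ∀ u ∈ X, u * u ∈ V := fun u hu => hP (pow_two u ▸ H5.pow_mem_map_frattini h.pX hu)
  have h1 : x * x * (y * y) ∈ zpowers z :=
    (mul_mem_iff_of_index_two (H := (zpowers z).subgroupOf V) hi (a := ⟨_, sq x hx⟩)
      (b := ⟨_, sq y hy⟩)).2 (iff_of_false (fun e => xV (hWV ⟨hx, e, cm x hx⟩))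
        fun e => yV (hWV ⟨hy, e, cm y hy⟩))
  have h2 : x * y ∈ V := hWV ⟨mul_mem hx hy, by
    haveI := normal_zp zc
    have : x * y * (x * y) = x * ⁅y, x⁆ * x⁻¹ * (x * x * (y * y)) := by
      simp only [commutatorElement_def]; group
    rw [this]
    exact mul_mem (Normal.conj_mem inferInstance _ (cm y hy x hx) x) h1, cm _ (mul_mem hx hy)⟩
  have h3 : Commute x (x * y) := (hVZ h2).2 x hx
  simpa using (Commute.refl x).inv_right.mul_right h3

section
variable (U : ∀ B : Subgroup G, B.Normal → B ≤ X → IsMulCommutative B → ∀ a ∈ B, ∀ b ∈ B,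
    a * a = 1 → b * b = 1 → a ≠ 1 → b ≠ 1 → b = a)
  {z : G} (zX : z ∈ X) (z2 : z * z = 1) (z1 : z ≠ 1) (zc : z ∈ center G) (hW : Wz X z zc ≠ X)
include U zX z2 z1 hW

theorem W_comm : IsMulCommutative (Wz X z zc) := by
  haveI := h.nX
  haveI nW := Wz_normal h.nX zc
  set W := Wz X z zc
  have WX : W ≤ X := fun _ hx => hx.1
  have hn : ¬ Has W := fun e => hW (h.min W nW WX e)
  have pW := h.pX.to_le WX
  have zW : z ∈ W := ⟨zX, by rw [z2]; exact one_mem _, fun g _ => by
    rw [commutatorElement_eq_one_iff_commute.2 (mem_center_iff.1 zc g).symm]; exact one_mem _⟩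
  have zZ : z ∈ W ⊓ centralizer (W : Set G) := ⟨zW, fun g _ => mem_center_iff.1 zc g⟩
  by_cases hZ : W ⊓ centralizer (W : Set G) ≤ zpowers z
  · exfalso
    have E : H5.WES 2 W z := ⟨ord2 z2 z1, le_antisymm hZ (zpowers_le.2 zZ),
      fun x hx y hy => hx.2.2 y hy.1⟩
    have hC : ¬ X ⊓ centralizer (W : Set G) ≤ zpowers z := fun e => hW (le_antisymm WX fun g hg => by
      obtain ⟨w, w1, w2⟩ := E.exists_mul_centralizer Nat.prime_two W g (fun x hx => by
        rw [← commutatorElement_inv]; exact inv_mem (hx.2.2 g hg)) (mem_center_iff.1 zc g)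
      simpa using mul_mem w1 (zpowers_le.2 zW (e (mem_inf.2 ⟨mul_mem (inv_mem (WX w1)) hg, w2⟩))))
    obtain ⟨c, c1, c2, c3, c4⟩ := H5.exists_step_of_le h.pX (zpowers z)
      (inf_le_left : X ⊓ centralizer (W : Set G) ≤ X) le_normalizer_of_normal hC
    exact c2 (hZ ⟨⟨c1.1, pow_two c ▸ c3, c4⟩, c1.2⟩)
  obtain ⟨c, cZ, cz⟩ := SetLike.not_le_iff_exists.1 hZ
  have c2 : c * c = z := ((mem_zp2 z2).1 cZ.1.2.1).resolve_left fun e => cz (by
    rw [U (W ⊓ centralizer (W : Set G)) inferInstance (inf_le_left.trans WX)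
      (isComm fun x hx _ hy => hy.2 x hx.1) z zZ c cZ z2 e z1 fun e => cz (e ▸ one_mem _)]
    exact mem_zpowers z)
  have : W ≤ zpowers c := fun x hx => by
    by_cases e : x * x = 1
    · rcases inv_cases pW hn z2 z1 cZ.1 c2 hx e (cZ.2 x hx) with rfl | rfl
      · exact one_mem _
      · exact c2 ▸ mul_mem (mem_zpowers c) (mem_zpowers c)
    rcases eq_or_inv pW hn z2 z1 cZ.1 c2 hx (((mem_zp2 z2).1 hx.2.1).resolve_left e) (cZ.2 x hx)
      with rfl | rfl
    · exact mem_zpowers _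
    · exact inv_mem (mem_zpowers _)
  exact isComm fun x hx y hy => comm_of inferInstance (this hx) (this hy)

theorem case1W : False := by
  haveI := h.nX
  haveI nW := Wz_normal h.nX zc
  have cW := h.W_comm U zX z2 z1 zc hW
  set W := Wz X z zc
  have WX : W ≤ X := fun _ hx => hx.1
  have hn : ¬ Has W := fun e => hW (h.min W nW WX e)
  have pW := h.pX.to_le WX
  have zW : z ∈ W := ⟨zX, by rw [z2]; exact one_mem _, fun g _ => by
    rw [commutatorElement_eq_one_iff_commute.2 (mem_center_iff.1 zc g).symm]; exact one_mem _⟩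
  obtain ⟨w, w1, wz, w3, w4⟩ := H5.exists_step_of_le h.pX (zpowers z) le_rfl le_normalizer
    fun e => h.nab (isComm fun x hx y hy => comm_of inferInstance (e hx) (e hy))
  have wW : w ∈ W := ⟨w1, pow_two w ▸ w3, w4⟩
  have w2 : w * w = z := ((mem_zp2 z2).1 wW.2.1).resolve_left fun e => wz (by
    rw [U W nW WX cW z zW w wW z2 e z1 fun e => wz (e ▸ one_mem _)]; exact mem_zpowers z)
  have hg : ∀ g : G, g * w * g⁻¹ = w ∨ g * w * g⁻¹ = w⁻¹ := fun g =>
    eq_or_inv pW hn z2 z1 wW w2 (nW.conj_mem w wW g) (by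
      rw [show g * w * g⁻¹ * (g * w * g⁻¹) = g * (w * w) * g⁻¹ by group, w2,
        mem_center_iff.1 zc g, mul_inv_cancel_right]) (comm_of cW (nW.conj_mem w wW g) wW)
  obtain ⟨A, AX, cA, ncA, h8⟩ := h.has
  obtain ⟨t, tA, t2, t1, tz⟩ := exists_invol (pgroup_of_card h8) cA ncA z
  haveI nw : (zpowers w).Normal := ⟨by
    rintro _ ⟨i, rfl⟩ g
    simp only [← conj_zpow]
    rcases hg g with e | e <;> rw [e]
    · exact zpow_mem (mem_zpowers w) i
    · exact zpow_mem (inv_mem (mem_zpowers w)) i⟩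
  have mC : ∀ x, x ∈ centralizer (zpowers w : Set G) ↔ Commute x w := fun x => by
    rw [H80.centralizer_zpowers]; exact H80.mem_Cx_iff_commute'
  by_cases hC : X ⊓ centralizer (zpowers w : Set G) = X
  · haveI := h.nZ
    haveI := h.nPhi
    have MX : (X ⊓ centralizer (X : Set G)) ⊔ (frattini X).map X.subtype ≤ X :=
      sup_le inf_le_left (map_subtype_le _)
    have hM := fun e => h.sup_phi (h.min _ inferInstance MX e)
    have wc : ∀ x ∈ X, Commute x w := fun x hx => (mC x).1 (hC.ge hx).2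
    have wM : w ∈ (X ⊓ centralizer (X : Set G)) ⊔ (frattini X).map X.subtype :=
      mem_sup_left ⟨w1, wc⟩
    have tW : t ∈ W := ⟨AX tA, by rw [t2]; exact one_mem _, fun g hg => by
      have cM : ⁅t, g⁆ ∈ (X ⊓ centralizer (X : Set G)) ⊔ (frattini X).map X.subtype :=
        mem_sup_right (H5.commutator_le_map_frattini h.pX (commutator_mem_commutator (AX tA) hg))
      refine (mem_zp2 z2).2 (inv_cases (h.pX.to_le MX) hM z2 z1 wM w2 cM (by_contra fun e => ?_)
        (wc _ (MX cM)))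
      obtain ⟨i, hi⟩ := mem_zpowers_of (h.pX.to_le MX) hM z2 z1 wM w2 cM e (wc _ (MX cM))
      have ti : t⁻¹ = t := inv_eq_of_mul_eq_one_right t2
      have e1 : t * ⁅t, g⁆ * t⁻¹ = ⁅t, g⁆⁻¹ := by
        rw [commutatorElement_inv, commutatorElement_def, commutatorElement_def, ti]
        simp only [← mul_assoc, t2, one_mul]
      have e2 : t * w * t⁻¹ = w⁻¹ := by
        rw [← hi]; simp only [← conj_zpow, e1, inv_zpow]
      rw [(wc t (AX tA)).eq, mul_inv_cancel_right] at e2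
      exact z1 (by rw [← w2]; nth_rewrite 1 [e2]; exact inv_mul_cancel w)⟩
    exact tz (U W nW WX cW z zW t tW z2 t2 z1 t1)
  have hnC := fun e => hC (h.min _ inferInstance inf_le_left e)
  have pC := h.pX.to_le (inf_le_left : X ⊓ centralizer (zpowers w : Set G) ≤ X)
  have wC : w ∈ X ⊓ centralizer (zpowers w : Set G) := ⟨w1, (mC w).2 (Commute.refl w)⟩
  have tw : ¬ Commute t w := fun e =>
    (inv_cases pC hnC z2 z1 wC w2 ⟨AX tA, (mC t).2 e⟩ t2 e).elim t1 tz
  have hA : ∀ u ∈ A, Commute u w → u ∈ zpowers z := fun u hu c => by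
    refine (mem_zp2 z2).2 (inv_cases pC hnC z2 z1 wC w2 ⟨AX hu, (mC u).2 c⟩
      (by_contra fun e => tw ?_) c)
    obtain ⟨i, hi⟩ := mem_zpowers_of pC hnC z2 z1 wC w2 ⟨AX hu, (mC u).2 c⟩ e c
    exact hi ▸ (comm_of cA tA hu).zpow_right i
  have hle : A ≤ zpowers z ⊔ zpowers t := fun u hu => by
    by_cases c : Commute u w
    · exact mem_sup_left (hA u hu c)
    have e1 := (hg u).resolve_left fun e => c (mul_inv_eq_iff_eq_mul.1 e)
    have e2 := (hg t).resolve_left fun e => tw (mul_inv_eq_iff_eq_mul.1 e)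
    have e3 : u * t ∈ zpowers z := hA _ (mul_mem hu tA) (mul_inv_eq_iff_eq_mul.1 (by
      rw [show u * t * w * (u * t)⁻¹ = u * (t * w * t⁻¹) * u⁻¹ by group, e2,
        show u * w⁻¹ * u⁻¹ = (u * w * u⁻¹)⁻¹ by group, e1, inv_inv]))
    simpa using mul_mem (mem_sup_left e3 : _ ∈ zpowers z ⊔ zpowers t)
      (mem_sup_right (inv_mem (mem_zpowers t)))
  have := card_le_of_le hle
  rw [h8, card_four z2 t2 z1 t1 tz (mem_center_iff.1 zc t).symm] at this
  omega

end

theorem concl : Concl X := by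
  by_cases hV : ∃ a ∈ X, ∃ b ∈ X, a * a = 1 ∧ b * b = 1 ∧ a ≠ 1 ∧ b ≠ 1 ∧ b ≠ a ∧ Commute a b ∧
      (zpowers a ⊔ zpowers b).Normal
  · obtain ⟨a, aX, b, bX, h1, h2, h3, h4, h5, h6, h7⟩ := hV
    exact h.case2 aX bX h1 h2 h3 h4 h5 h6 h7
  have U : ∀ B : Subgroup G, B.Normal → B ≤ X → IsMulCommutative B → ∀ a ∈ B, ∀ b ∈ B,
      a * a = 1 → b * b = 1 → a ≠ 1 → b ≠ 1 → b = a := fun B nB BX cB a ha b hb a2 b2 a1 b1 => by
    by_contra ba
    refine hV ⟨a, BX ha, b, BX hb, a2, b2, a1, b1, ba, comm_of cB ha hb, ?_⟩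
    rwa [le_antisymm (sup_le (zpowers_le.2 ha) (zpowers_le.2 hb)) fun c hc => by_contra fun e =>
      h.not_has nB BX cB (has_of (h.pX.to_le BX) ha hb hc a2 b2 a1 b1 ba (comm_of cB ha hb)
        (comm_of cB ha hc) (comm_of cB hb hc) e)]
  obtain ⟨z, zX, zC, z2, z1⟩ := exists_central_invol h.pX fun e => h.nab (e ▸ inferInstance)
  haveI := h.nZ
  have zc := central_of_unique (N := X ⊓ centralizer (X : Set G)) ⟨zX, zC⟩ z2 z1
    fun x hx x2 x1 => U _ h.nZ inf_le_left h.cZ z ⟨zX, zC⟩ x hx z2 x2 z1 x1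
  by_cases hW : Wz X z zc = X
  · exact h.ea zX z2 z1 zc (fun x hx => (hW.ge hx).2.1) fun x hx => (hW.ge hx).2.2
  · exact (h.case1W U zX z2 z1 zc hW).elim

end St

end H76.Ab8
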