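import Cfsg.Agent.Base
import Cfsg.Agent.Lib.BG4.MetaAct
import Cfsg.Agent.Lib.Core.CoprimeExt
import Cfsg.Agent.Lib.Core.CoprimeNorm

/-!
# Coprime operator groups on abelian `p`-groups
-/

set_option autoImplicit false

namespace H77

open Subgroup Cfsg
open scoped Pointwise commutatorElement

variable {X : Type*} [Group X] [Finite X] {p : ℕ} [hp : Fact p.Prime]

/-- `B` is invariant under the action `φ`. -/
def OpInv {H : Type*} [Group H] (φ : X →* MulAut H) (B : Subgroup H) : Prop :=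
  ∀ x, ∀ b ∈ B, φ x b ∈ B

theorem ext_maschke {H : Type*} [Group H] [Finite H] (φ : X →* MulAut H)
    (hcop : (Nat.card X).Coprime p) {U V : Subgroup H} (hV : IsElementaryAbelian p V)
    (hUV : U ≤ V) (iV : OpInv φ V) (iU : OpInv φ U) :
    ∃ W ≤ V, OpInv φ W ∧ U ⊓ W = ⊥ ∧ U ⊔ W = V := by
  obtain ⟨W, h1, h2, h3, h4⟩ := H48.exists_invariant_compl (A := H2.sdR φ ⊤)
    (H24.EA.map hV SemidirectProduct.inl) (H2.sdL_le_sdL.mpr hUV)
    (H2.sdR_le_normalizer_iff.mpr fun b _ => iV b) (H2.sdR_le_normalizer_iff.mpr fun b _ => iU b)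
    (by rwa [H2.card_sdR, card_top])
  obtain ⟨W, hW, rfl⟩ := H2.exists_sdL_eq h1
  refine ⟨W, hW, fun x => H2.sdR_le_normalizer_iff.mp h2 x trivial, H2.sdL_injective (φ := φ) ?_,
    H2.sdL_injective (φ := φ) ?_⟩
  · rw [H2.sdL_inf, h3, H2.sdL, Subgroup.map_bot]
  · rw [H2.sdL_sup, h4]

variable {A : Type*} [CommGroup A] [Finite A] (φ : X →* MulAut A)

theorem rel_maschke (hcop : (Nat.card X).Coprime p) {D K B : Subgroup A} (hDK : D ≤ K)
    (hKB : K ≤ B) (hB : ∀ b ∈ B, b ^ p ∈ D) (iD : OpInv φ D) (iK : OpInv φ K) (iB : OpInv φ B) :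
    ∃ L, D ≤ L ∧ L ≤ B ∧ OpInv φ L ∧ L ⊓ K ≤ D ∧ L ⊔ K = B := by
  let π := QuotientGroup.mk' D
  have hm : ∀ Y, OpInv φ Y → OpInv (H2.quotAut φ D iD) (Y.map π) := by
    rintro Y h x _ ⟨b, hb, rfl⟩
    exact ⟨_, h x b hb, rfl⟩
  have hc : ∀ Y, D ≤ Y → (Y.map π).comap π = Y := fun Y h =>
    comap_map_eq_self (by rwa [QuotientGroup.ker_mk'])
  obtain ⟨W, h1, h2, h3, h4⟩ := ext_maschke (H2.quotAut φ D iD) hcop (V := B.map π)
    ⟨inferInstance, by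
      rintro _ ⟨b, hb, rfl⟩
      rw [← map_pow]; exact (QuotientGroup.eq_one_iff _).mpr (hB b hb)⟩
    (map_mono hKB) (hm B iB) (hm K iK)
  refine ⟨W.comap π, ?_, ?_, fun x b hb => h2 x _ hb, ?_, ?_⟩
  · exact (QuotientGroup.ker_mk' D).ge.trans (ker_le_comap _ _)
  · rw [← hc B (hDK.trans hKB)]; exact comap_mono h1
  · rw [← hc K hDK, ← comap_inf, inf_comm, h3, MonoidHom.comap_bot, QuotientGroup.ker_mk']
  · rw [← hc K hDK, comap_sup_eq _ _ _ (QuotientGroup.mk'_surjective D), sup_comm, h4,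
      hc B (hDK.trans hKB)]

omit [Finite X] hp [Finite A] in
theorem OpInv.comap_pow {C : Subgroup A} (h : OpInv φ C) (n : ℕ) :
    OpInv φ (C.comap (powMonoidHom n)) := fun x b hb => by
  rw [mem_comap, powMonoidHom_apply, ← map_pow]; exact h x _ hb

omit [Finite X] hp [Finite A] in
theorem OpInv.map_pow {C : Subgroup A} (h : OpInv φ C) (n : ℕ) :
    OpInv φ (C.map (powMonoidHom n)) := by
  rintro x _ ⟨b, hb, rfl⟩
  exact ⟨_, h x b hb, (_root_.map_pow _ _ _).symm⟩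

omit [Finite X] hp [Finite A] in
theorem OpInv.inf {B C : Subgroup A} (h : OpInv φ B) (h' : OpInv φ C) : OpInv φ (B ⊓ C) :=
  fun x b hb => ⟨h x b hb.1, h' x b hb.2⟩

omit [Finite X] hp [Finite A] in
theorem OpInv.sup {B C : Subgroup A} (h : OpInv φ B) (h' : OpInv φ C) : OpInv φ (B ⊔ C) := by
  intro x y hy
  obtain ⟨b, hb, c, hc, rfl⟩ := mem_sup.mp hy
  rw [map_mul]
  exact mul_mem_sup (h x b hb) (h' x c hc)

omit [Finite X] hp [Finite A] in
theorem opInv_bot : OpInv φ ⊥ := fun x b hb => by rw [mem_bot.mp hb, map_one]; exact one_mem _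

/-- A nontrivial abelian `p`-group with coprime operators has an invariant direct factor whose
socle is irreducible. -/
theorem exists_homocyclic_factor (hA : IsPGroup p A) [Nontrivial A]
    (hcop : (Nat.card X).Coprime p) :
    ∃ B C : Subgroup A, B ≠ ⊥ ∧ OpInv φ B ∧ OpInv φ C ∧ B ⊓ C = ⊥ ∧ B ⊔ C = ⊤ ∧
      ∀ W ≤ B, OpInv φ W → (∀ w ∈ W, w ^ p = 1) → W ≠ ⊥ → ∀ b ∈ B, b ^ p = 1 → b ∈ W := by
  classical
  have hex : ∃ e, ∀ a : A, a ^ p ^ e = 1 := by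
    obtain ⟨k, hk⟩ := IsPGroup.iff_card.mp hA
    exact ⟨k, fun a => hk ▸ pow_card_eq_one'⟩
  obtain ⟨f, hf⟩ : ∃ f, Nat.find hex = f + 1 := Nat.exists_eq_succ_of_ne_zero fun h => by
    obtain ⟨a, ha⟩ := exists_ne (1 : A)
    have := Nat.find_spec hex a
    rw [h, pow_zero, pow_one] at this
    exact ha this
  have h1 : ∀ a : A, a ^ p ^ (f + 1) = 1 := hf ▸ Nat.find_spec hex
  have h2 : ∃ a : A, a ^ p ^ f ≠ 1 := not_forall.mp (Nat.find_min hex (by omega))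
  obtain ⟨B, ⟨iB, b₀, hb₀, hb₀'⟩, hmin⟩ := (wellFounded_lt (α := Subgroup A)).has_min
    {B | OpInv φ B ∧ ∃ b ∈ B, b ^ p ^ f ≠ 1}
    ⟨⊤, fun _ _ _ => trivial, let ⟨a, ha⟩ := h2; ⟨a, trivial, ha⟩⟩
  have hmin' : ∀ L ≤ B, OpInv φ L → (∃ b ∈ L, b ^ p ^ f ≠ 1) → L = B := fun L h a b =>
    h.eq_or_lt.resolve_right (hmin L ⟨a, b⟩)
  have hK : ∀ b ∈ B, b ^ p ^ f = 1 → ∃ c ∈ B, c ^ p = b := by
    obtain ⟨L, -, a2, a3, a4, a5⟩ := rel_maschke φ hcop (D := B.map (powMonoidHom p))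
      (K := B ⊓ (⊥ : Subgroup A).comap (powMonoidHom (p ^ f))) (B := B) (by
        rintro _ ⟨b, hb, rfl⟩
        exact ⟨B.pow_mem hb p, by
          change (b ^ p) ^ p ^ f = 1
          rw [← pow_mul, ← pow_succ', h1]⟩) inf_le_left (fun b hb => ⟨b, hb, rfl⟩)
      (iB.map_pow φ p) (iB.inf φ ((opInv_bot φ).comap_pow φ _)) iB
    have a6 : L = B := hmin' L a2 a3 (by
      by_contra h
      push Not at h
      have : B ≤ (⊥ : Subgroup A).comap (powMonoidHom (p ^ f)) :=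
        a5.ge.trans (sup_le (fun b hb => h b hb) inf_le_right)
      exact hb₀' (this hb₀))
    exact fun b hb hb' => a4 ⟨a6 ▸ hb, hb, hb'⟩
  have hK' : ∀ i j, i + j = f + 1 → 0 < j → ∀ b ∈ B, b ^ p ^ j = 1 → ∃ c ∈ B, c ^ p ^ i = b := by
    intro i
    induction i with
    | zero => exact fun _ _ _ b hb _ => ⟨b, hb, by simp⟩
    | succ i ih =>
      intro j hj hj0 b hb hbj
      obtain ⟨c, hc, rfl⟩ := hK b hb (by
        rw [show f = j + i by omega, pow_add, pow_mul, hbj, one_pow])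
      obtain ⟨d, hd, rfl⟩ := ih (j + 1) (by omega) (by omega) c hc (by
        rw [pow_succ', pow_mul, hbj])
      exact ⟨d, hd, by rw [pow_succ, pow_mul]⟩
  obtain ⟨C, -, ⟨iC, hBC⟩, hmax⟩ := Finite.exists_le_maximal
    (p := fun C : Subgroup A => OpInv φ C ∧ B ⊓ C = ⊥) (a := ⊥) ⟨opInv_bot φ, inf_bot_eq _⟩
  have s1 : ∀ a : A, a ^ p ∈ C → a ∈ B ⊔ C := by
    have hC : C ≤ C.comap (powMonoidHom p) := fun c hc => C.pow_mem hc p
    obtain ⟨L, a1, a2, a3, a4, a5⟩ := rel_maschke φ hcop (D := C)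
      (K := C.comap (powMonoidHom p) ⊓ (B ⊔ C)) (B := C.comap (powMonoidHom p))
      (le_inf hC le_sup_right) inf_le_left (fun b hb => hb) iC
      ((iC.comap_pow φ p).inf φ (iB.sup φ iC)) (iC.comap_pow φ p)
    have a6 : L ≤ C := hmax ⟨a3, eq_bot_iff.mpr fun x hx => hBC ▸
      ⟨hx.1, a4 ⟨hx.2, a2 hx.2, mem_sup_left hx.1⟩⟩⟩ a1
    exact fun a ha => (a5.ge.trans (sup_le (a6.trans le_sup_right) inf_le_right)) ha
  have s2 : ∀ i ≤ f + 1, ∀ a : A, a ^ p ^ i ∈ C → a ∈ B ⊔ C := by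
    intro i
    induction i with
    | zero => exact fun _ a ha => mem_sup_right (by simpa using ha)
    | succ i ih =>
      intro hi a ha
      rw [pow_succ', pow_mul] at ha
      obtain ⟨b, hb, c, hc, e⟩ := mem_sup.mp (ih (by omega) _ ha)
      rw [← e, mul_pow, C.mul_mem_cancel_right (C.pow_mem hc _)] at ha
      have h3 : b ^ p ^ i = 1 := mem_bot.mp (hBC ▸ ⟨B.pow_mem hb _, ha⟩)
      obtain ⟨d, hd, rfl⟩ := hK b hb (by
        rw [show f = i + (f - i) by omega, pow_add, pow_mul, h3, one_pow])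
      have h4 := s1 (d⁻¹ * a) (by rw [mul_pow, ← e, inv_pow, inv_mul_cancel_left]; exact hc)
      exact (Subgroup.mul_mem_cancel_left _ (mem_sup_left (B.inv_mem hd))).mp h4
  refine ⟨B, C, fun h => hb₀' (by rw [mem_bot.mp (h.le hb₀), one_pow]), iB, iC, hBC,
    eq_top_iff.mpr fun a _ => s2 _ le_rfl a (by rw [h1]; exact one_mem _), ?_⟩
  intro W hW iW hWp hW0 b hb hbp
  obtain ⟨⟨w, hw⟩, hw1⟩ := ne_bot_iff_exists_ne_one.mp hW0
  obtain ⟨c, hc, rfl⟩ := hK' f 1 rfl one_pos w (hW hw) (by rw [pow_one, hWp w hw])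
  have h3 := hmin' (B ⊓ W.comap (powMonoidHom (p ^ f))) inf_le_left (iB.inf φ (iW.comap_pow φ _))
    ⟨c, ⟨hc, hw⟩, fun h => hw1 (Subtype.ext h)⟩
  obtain ⟨d, hd, rfl⟩ := hK' f 1 rfl one_pos b hb (by rw [pow_one, hbp])
  exact (h3.ge hd).2

end H77
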