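import Mathlib
import Cfsg.Agent.Base
import Cfsg.Agent.Lib.Ruc.Mod
import Cfsg.Agent.Lib.FGS.AbelOp
import Cfsg.Agent.Lib.FGS.Ab8A

/-! Elements of order 3 moving only a four-group, in odd order groups over `F₂`. -/

set_option autoImplicit false
set_option linter.unusedSectionVars false
set_option linter.style.haveILetI false

namespace H76.Blk

open Subgroup Cfsg H91.Ru H76.Ab8
open scoped Pointwise commutatorElement

variable {V : Type*} [CommGroup V] [Finite V]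

def U (a : MulAut V) : Subgroup V := (tr a).range

theorem mem_U (a : MulAut V) (v : V) : v * a v ∈ U a := ⟨v, rfl⟩

def T3 (a : MulAut V) : Prop := a ^ 3 = 1 ∧ Nat.card (U a) = 4

theorem cube {a : MulAut V} (h : a ^ 3 = 1) (v : V) : a (a (a v)) = v := by
  have := DFunLike.congr_fun h v
  simpa [pow_succ] using this

theorem U_conj (g a : MulAut V) : U (g * a * g⁻¹) = (U a).map g.toMonoidHom := by
  ext w
  constructor
  · rintro ⟨v, rfl⟩
    exact ⟨_, mem_U a (g⁻¹ v), by simp [tr_apply]⟩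
  · rintro ⟨_, ⟨v, rfl⟩, rfl⟩
    exact ⟨g v, by simp [tr_apply]⟩

theorem T3.conj {a : MulAut V} (h : T3 a) (g : MulAut V) : T3 (g * a * g⁻¹) :=
  ⟨by rw [conj_pow, h.1]; simp, by rw [U_conj, card_map_of_injective g.injective, h.2]⟩

variable (hV : ∀ v : V, v * v = 1)
include hV

theorem eq_of_mul {v w : V} (h : v * w = 1) : w = v :=
  mul_left_cancel (h.trans (hV v).symm)

theorem apply_mem {a : MulAut V} {B : Subgroup V} (h : U a ≤ B) {v : V} (hv : v ∈ B) : a v ∈ B := by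
  have := mul_mem hv (h (mem_U a v))
  rwa [← mul_assoc, hV, one_mul] at this

theorem fpf {a : MulAut V} (h : a ^ 3 = 1) {w : V} (hw : w ∈ U a) (e : a w = w) : w = 1 := by
  obtain ⟨v, rfl⟩ := hw
  rw [tr_apply] at e ⊢
  rw [map_mul, mul_comm v] at e
  have h1 := mul_left_cancel e
  have h2 := cube h v
  rw [h1] at h2
  rw [h2, hV]

theorem norm {a : MulAut V} (h : a ^ 3 = 1) {w : V} (hw : w ∈ U a) : w * a w * a (a w) = 1 := by
  have h1 := apply_mem hV le_rfl hw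
  refine fpf hV h (mul_mem (mul_mem hw h1) (apply_mem hV le_rfl h1)) ?_
  rw [map_mul, map_mul, cube h, mul_comm, mul_assoc]

theorem le_of_two {W X : Subgroup V} (h : Nat.card W = 4) {v w : V} (v1 : v ≠ 1) (w1 : w ≠ 1)
    (vw : w ≠ v) (hv : v ∈ W) (hw : w ∈ W) (hv' : v ∈ X) (hw' : w ∈ X) : W ≤ X := by
  rw [← eq_of_le_of_card_ge (sup_le (zpowers_le.2 hv) (zpowers_le.2 hw))
    (by rw [h, card_four (hV v) (hV w) v1 w1 vw (Commute.all v w)])]
  exact sup_le (zpowers_le.2 hv') (zpowers_le.2 hw')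

theorem T3.irr {a : MulAut V} (h : T3 a) {X : Subgroup V} {w : V} (hw : w ∈ U a) (w1 : w ≠ 1)
    (h1 : w ∈ X) (h2 : a w ∈ X) : U a ≤ X :=
  le_of_two hV h.2 w1 (by simpa using w1) (fun e => w1 (fpf hV h.1 hw e)) hw
    (apply_mem hV le_rfl hw) h1 h2

theorem T3.le_or {a : MulAut V} (h : T3 a) {X Y : Subgroup V} (hs : X ⊔ Y = ⊤)
    (hX : ∀ v ∈ X, a v ∈ X) (hY : ∀ v ∈ Y, a v ∈ Y) : U a ≤ X ∨ U a ≤ Y := by
  by_contra e
  push Not at e
  have f : ∀ Z : Subgroup V, (∀ v ∈ Z, a v ∈ Z) → ¬ U a ≤ Z → ∀ v ∈ Z, v * a v = 1 :=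
    fun Z hZ hn v hv => by_contra fun e' => hn (h.irr hV (mem_U a v) e' (mul_mem hv (hZ v hv))
      (hZ _ (mul_mem hv (hZ v hv))))
  refine e.1 ?_
  rintro _ ⟨v, rfl⟩
  obtain ⟨x, hx, y, hy, rfl⟩ := mem_sup.1 (hs ▸ mem_top v)
  rw [map_mul, tr_apply, tr_apply, f X hX e.1 x hx, f Y hY e.2 y hy, one_mul]
  exact one_mem _

theorem aut_four {W : Subgroup V} (h : Nat.card W = 4) : Nat.card (MulAut W) = 6 := by
  rw [card_aut (V := W) (fun v => Subtype.ext (hV v)) (n := 2) h]; decide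

theorem aut_eight {W : Subgroup V} (h : Nat.card W = 8) : Nat.card (MulAut W) = 168 := by
  rw [card_aut (V := W) (fun v => Subtype.ext (hV v)) (n := 3) h]; decide

theorem irr_absurd (h16 : Nat.card V = 16) {T : Subgroup (MulAut V)} [Group.IsSolvable T]
    {t : MulAut V} (tT : t ∈ T) (ht : T3 t)
    (hi : ∀ X : Subgroup V, (∀ a ∈ T, ∀ v ∈ X, a v ∈ X) → X = ⊥ ∨ X = ⊤) {t' : MulAut V}
    (tT' : t' ∈ T) (ht' : T3 t') (hb : U t ⊓ U t' = ⊥) :
    ∀ w ∈ U t', t w = w := by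
  have cA : Nat.card (MulAut V) = 20160 := by rw [card_aut hV (n := 4) h16]; decide
  have cT : Nat.card T ∣ 20160 := cA ▸ card_subgroup_dvd_card T
  have inv : ∀ {s a : MulAut V}, Commute a s → ∀ v ∈ U s, a v ∈ U s := fun {s a} c v hv => by
    have := U_conj a s
    rw [c.eq, mul_inv_cancel_right] at this
    rw [this]; exact mem_map_of_mem _ hv
  have core : ∀ (r : ℕ) [Fact r.Prime], r ≠ 3 → pCore r T = ⊥ := fun r hr r3 => by
    by_contra hne
    have hN : IsPGroup r (pCore r T) := H1.isPGroup_pCore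
    obtain ⟨k, hk⟩ := IsPGroup.iff_card.1 hN
    have k0 : k ≠ 0 := fun e => hne (card_eq_one.1 (by rw [hk, e, pow_zero]))
    have hF : H91.Ru.Fix ((pCore r T).map T.subtype) = ⊥ := by
      refine (hi _ fun a ha v hv => apply_mem_fix ?_ hv).resolve_right fun e => hne ?_
      · exact le_normalizer_map T.subtype
          (mem_map_of_mem T.subtype (x := ⟨a, ha⟩) (le_normalizer_of_normal (mem_top _)))
      · refine eq_bot_iff.2 fun a ha => Subtype.ext (MulEquiv.ext fun v => ?_)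
        exact (e ▸ mem_top v : v ∈ H91.Ru.Fix _) _ (mem_map_of_mem T.subtype ha)
    have h1 := card_modEq_fix (hN.map T.subtype)
    rw [hF, card_bot, h16] at h1
    have h2 : r ∣ 3 * 5 := (Nat.modEq_iff_dvd' (by norm_num)).1 h1.symm
    obtain rfl : r = 5 := by
      rcases (Nat.Prime.dvd_mul hr.out).1 h2 with e | e
      · exact (r3 ((Nat.prime_dvd_prime_iff_eq hr.out Nat.prime_three).1 e)).elim
      · exact (Nat.prime_dvd_prime_iff_eq hr.out Nat.prime_five).1 e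
    have h3 : Nat.card (pCore 5 T) = 5 := by
      have : 5 ^ k ∣ 20160 := hk ▸ (card_subgroup_dvd_card _).trans cT
      rcases k with _ | _ | k
      · exact (k0 rfl).elim
      · exact hk
      · exact absurd ((pow_dvd_pow 5 (by omega : 2 ≤ k + 1 + 1)).trans this) (by norm_num)
    haveI := isCyclic_of_prime_card h3
    have h4 : MulAut.conjNormal (H := pCore 5 T) (⟨t, tT⟩ : T) = 1 := by
      refine orderOf_eq_one_iff.1 (Nat.eq_one_of_dvd_coprimes (show Nat.Coprime 3 4 by norm_num)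
        (orderOf_dvd_of_pow_eq_one ?_) ?_)
      · rw [← map_pow, show (⟨t, tT⟩ : T) ^ 3 = 1 from Subtype.ext ht.1, map_one]
      · have := orderOf_dvd_natCard (MulAut.conjNormal (H := pCore 5 T) (⟨t, tT⟩ : T))
        rwa [IsCyclic.card_mulAut, h3, show Nat.totient 5 = 4 by decide] at this
    have h5 : ∀ n : pCore 5 T, ∀ v ∈ U t, (T.subtype.comp (pCore 5 T).subtype) n v ∈ U t :=
      fun n => inv (by
        have := congrArg (fun x : pCore 5 T => ((x : T) : MulAut V)) (DFunLike.congr_fun h4 n)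
        exact (mul_inv_eq_iff_eq_mul.1 this).symm)
    have h6 : U t ≤ H91.Ru.Fix ((pCore 5 T).map T.subtype) := by
      rintro v hv _ ⟨n, hn, rfl⟩
      have e : H2.subAut _ (U t) h5 ⟨n, hn⟩ = 1 := by
        refine orderOf_eq_one_iff.1 (Nat.eq_one_of_dvd_coprimes (show Nat.Coprime 5 6 by norm_num)
          ((orderOf_map_dvd _ _).trans ((_root_.orderOf_dvd_natCard _).trans h3.dvd)) ?_)
        exact aut_four hV ht.2 ▸ orderOf_dvd_natCard _
      exact congrArg Subtype.val (DFunLike.congr_fun e ⟨v, hv⟩)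
    have := card_le_of_le h6
    rw [hF, card_bot, ht.2] at this
    omega
  have ab : ∀ P : Subgroup T, IsPGroup 3 P → IsMulCommutative P := fun P hP => by
    obtain ⟨k, hk⟩ := IsPGroup.iff_card.1 hP
    have : 3 ^ k ∣ 20160 := hk ▸ (card_subgroup_dvd_card _).trans cT
    rcases k with _ | _ | _ | k
    · rw [card_eq_one.1 hk]; infer_instance
    · haveI := isCyclic_of_prime_card (p := 3) hk; infer_instance
    · exact IsPGroup.isMulCommutative_of_card_eq_prime_sq hk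
    · exact absurd ((pow_dvd_pow 3 (by omega : 3 ≤ k + 1 + 1 + 1)).trans this) (by norm_num)
  have hF : fittingSubgroup T ≤ pCore 3 T := by
    rw [H1.fitting_eq_iSup_pCore]
    refine iSup_le fun r => ?_
    haveI := Fact.mk r.2
    by_cases e : (r : ℕ) = 3
    · rw [e]
    · rw [core r e]; exact bot_le
  have mem : ∀ s : T, s ^ 3 = 1 → s ∈ pCore 3 T := fun s hs => hF (H1.centralizer_fitting_le
    fun x hx => comm_of (ab (zpowers s ⊔ pCore 3 T) ((H35.isPElt_iff_zpowers.1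
      (H35.isPElt_of_pow_eq_one (k := 1) hs)).to_sup_of_normal_right H1.isPGroup_pCore))
      (mem_sup_right (hF hx)) (mem_sup_left (mem_zpowers s)))
  have c : Commute t t' := congrArg Subtype.val (comm_of (ab _ H1.isPGroup_pCore)
    (mem ⟨t, tT⟩ (Subtype.ext ht.1)) (mem ⟨t', tT'⟩ (Subtype.ext ht'.1)))
  intro w hw
  exact eq_of_mul hV ((hb ▸ ⟨mem_U t w, mul_mem hw (inv c w hw)⟩ : w * t w ∈ (⊥ : Subgroup V)))

theorem P16 (h16 : Nat.card V = 16) {T : Subgroup (MulAut V)} [Group.IsSolvable T]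
    (hT : Odd (Nat.card T)) {t t' : MulAut V} (tT : t ∈ T) (ht : T3 t)
    (tT' : t' ∈ T) (ht' : T3 t') (hs : U t ⊔ U t' = ⊤) (hb : U t ⊓ U t' = ⊥) :
    ∀ w ∈ U t', t w = w := by
  by_cases hi : ∀ X : Subgroup V, (∀ a ∈ T, ∀ v ∈ X, a v ∈ X) → X = ⊥ ∨ X = ⊤
  · exact irr_absurd hV h16 tT ht hi tT' ht' hb
  push Not at hi
  obtain ⟨X, iX, X1, X2⟩ := hi
  obtain ⟨Y, -, iY, h1, h2⟩ := H77.ext_maschke (p := 2) T.subtype hT.coprime_two_right
    (U := X) (V := ⊤) ⟨inferInstance, fun v _ => by rw [pow_two, hV]⟩ le_top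
    (fun _ _ _ => mem_top _) fun a => iX a a.2
  have key : ∀ X Y : Subgroup V, X ⊓ Y = ⊥ → (∀ v ∈ Y, t v ∈ Y) → U t ≤ X → U t' ≤ Y →
      ∀ w ∈ U t', t w = w := fun X Y e iY a b w hw =>
    eq_of_mul hV ((e ▸ ⟨a (mem_U t w), mul_mem (b hw) (iY w (b hw))⟩ : w * t w ∈ (⊥ : Subgroup V)))
  rcases ht.le_or hV h2 (iX t tT) (iY ⟨t, tT⟩) with a | a <;>
    rcases ht'.le_or hV h2 (iX t' tT') (iY ⟨t', tT'⟩) with b | b
  · exact (X2 (top_le_iff.1 (hs ▸ sup_le a b))).elim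
  · exact key X Y h1 (iY ⟨t, tT⟩) a b
  · exact key Y X (inf_comm X Y ▸ h1) (iX t tT) a b
  · rw [top_le_iff.1 (hs ▸ sup_le a b : ⊤ ≤ Y), inf_top_eq] at h1
    exact (X1 h1).elim

section
variable {A : Type*} [Group A] [Finite A] (φ : A →* MulAut V)

omit hV in
/-- The stabiliser of a subgroup. -/
def stab (B : Subgroup V) : Subgroup A where
  carrier := {a | ∀ v ∈ B, φ a v ∈ B}
  one_mem' := fun v hv => by simpa using hv
  mul_mem' := fun {a b} ha hb v hv => by rw [map_mul]; exact ha _ (hb v hv)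
  inv_mem' := fun {a} ha v hv => by
    have : ∀ n : ℕ, φ (a ^ n) v ∈ B := fun n => by
      induction n with
      | zero => simpa using hv
      | succ n ih => rw [pow_succ', map_mul]; exact ha _ ih
    rw [show a⁻¹ = a ^ (orderOf a - 1) from inv_eq_of_mul_eq_one_right (by
      rw [← pow_succ', Nat.sub_add_cancel (orderOf_pos a), pow_orderOf_eq_one])]
    exact this _

omit hV in
/-- The pointwise stabiliser of a subgroup. -/
def fixer (B : Subgroup V) : Subgroup A where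
  carrier := {a | ∀ v ∈ B, φ a v = v}
  one_mem' := fun v _ => by simp
  mul_mem' := fun {a b} ha hb v hv => by rw [map_mul, MulAut.mul_apply, hb v hv, ha v hv]
  inv_mem' := fun {a} ha v hv => by
    rw [map_inv, MulAut.inv_def, MulEquiv.symm_apply_eq, ha v hv]

omit hV in
theorem fixer_le (B : Subgroup V) : fixer φ B ≤ stab φ B := fun a ha v hv => by rwa [ha v hv]

omit hV in
def res (B : Subgroup V) : stab φ B →* MulAut B :=
  H2.subAut (φ.comp (stab φ B).subtype) B fun a => a.2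

omit hV in
theorem ker_res (B : Subgroup V) : (res φ B).ker = (fixer φ B).subgroupOf (stab φ B) := by
  ext a
  refine ⟨fun h v hv => ?_, fun h => MulEquiv.ext fun v => Subtype.ext (h v v.2)⟩
  have := DFunLike.congr_fun (MonoidHom.mem_ker.1 h) (⟨v, hv⟩ : B)
  exact congrArg Subtype.val this

theorem U_res {B : Subgroup V} {t : A} (h3 : φ t ^ 3 = 1) (h : U (φ t) ≤ B) (ht : t ∈ stab φ B) :
    (U (res φ B ⟨t, ht⟩)).map B.subtype = U (φ t) := by
  refine le_antisymm ?_ fun w hw => ?_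
  · rintro _ ⟨_, ⟨v, rfl⟩, rfl⟩
    exact mem_U (φ t) v
  · refine ⟨_, mem_U _ ⟨φ t w, h (apply_mem hV le_rfl hw)⟩, ?_⟩
    exact eq_of_mul hV ((mul_assoc _ _ _).symm.trans (norm hV h3 hw))

variable [Group.IsSolvable A] (hA : Odd (Nat.card A))
include hA

theorem Pgen {t t' : A} (ht : T3 (φ t)) (ht' : T3 (φ t')) (hb : U (φ t) ⊓ U (φ t') = ⊥) :
    ∀ w ∈ U (φ t'), φ t w = w := by
  set B := U (φ t) ⊔ U (φ t')
  have m : t ∈ stab φ B := fun v => apply_mem hV le_sup_left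
  have m' : t' ∈ stab φ B := fun v => apply_mem hV le_sup_right
  have e := U_res hV φ ht.1 le_sup_left m
  have e' := U_res hV φ ht'.1 le_sup_right m'
  have T : ∀ {s : A} (ms : s ∈ stab φ B), T3 (φ s) →
      (U (res φ B ⟨s, ms⟩)).map B.subtype = U (φ s) → T3 (res φ B ⟨s, ms⟩) := fun ms hs e =>
    ⟨MulEquiv.ext fun v => Subtype.ext (cube hs.1 v),
      by rw [← card_map_of_injective B.subtype_injective, e, hs.2]⟩
  have h16 : Nat.card B = 16 := by
    have := H1.card_sup_mul_card_inf_of_normal (U (φ t)) (U (φ t'))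
    rwa [hb, card_bot, mul_one, ht.2, ht'.2] at this
  haveI : Group.IsSolvable (res φ B).range := solvable_of_surjective (res φ B).rangeRestrict_surjective
  have := P16 (V := B) (fun v => Subtype.ext (hV v)) h16 (T := (res φ B).range)
    (hA.of_dvd_nat ((card_range_dvd _).trans (card_subgroup_dvd_card _))) ⟨_, rfl⟩ (T m ht e)
    ⟨_, rfl⟩ (T m' ht' e') (map_injective B.subtype_injective (by
      rw [Subgroup.map_sup, e, e', ← MonoidHom.range_eq_map, range_subtype]))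
    (map_injective B.subtype_injective (by
      rw [map_inf _ _ _ B.subtype_injective, e, e', hb, Subgroup.map_bot]))
  intro w hw
  obtain ⟨w, hw', rfl⟩ : w ∈ (U (res φ B ⟨t', m'⟩)).map B.subtype := e' ▸ hw
  exact congrArg Subtype.val (this w hw')

theorem sym {s u u' : A} (hs : T3 (φ s)) (hu : T3 (φ u)) (hu' : T3 (φ u'))
    (hne : ¬ U (φ u) ≤ U (φ u')) (hb : U (φ u) ⊓ U (φ u') ≠ ⊥) {v : V} (v1 : v ≠ 1)
    (vs : v ∈ U (φ s)) (vu : v ∈ U (φ u)) : U (φ s) ≤ U (φ u) ⊔ U (φ u') := by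
  by_contra hn
  obtain ⟨⟨w, wu, wu'⟩, w1⟩ := ne_bot_iff_exists_ne_one.1 hb
  replace w1 : w ≠ 1 := fun e => w1 (Subtype.ext e)
  have key : ∀ g ∈ zpowers u, φ g w ≠ v → φ s (φ g w) = φ g w := fun g hg e => by
    have g1 : g ∈ stab φ (U (φ u)) := 
      zpowers_le.2 (show u ∈ stab φ _ from fun v => apply_mem hV le_rfl) hg
    have g2 : g ∈ stab φ (U (φ u) ⊔ U (φ u')) := 
      zpowers_le.2 (show u ∈ stab φ _ from fun v => apply_mem hV le_sup_left) hg
    have h1 : T3 (φ (g * u' * g⁻¹)) := by rw [map_mul, map_mul, map_inv]; exact hu'.conj _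
    have h2 : U (φ (g * u' * g⁻¹)) = (U (φ u')).map (φ g).toMonoidHom := by
      rw [map_mul, map_mul, map_inv, U_conj]
    refine Pgen hV φ hA hs h1 (eq_bot_iff.2 fun x hx => by_contra fun x1 => ?_) _
      (h2 ▸ mem_map_of_mem _ wu')
    rw [h2] at hx
    by_cases xv : x = v
    · refine hne fun y hy => ?_
      obtain ⟨z, hz, ez⟩ := le_of_two hV hu.2 v1 (by simpa using w1) e vu (g1 w wu) (xv ▸ hx.2)
        (mem_map_of_mem _ wu') (g1 y hy)
      rwa [← (φ g).injective ez]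
    · obtain ⟨z, hz, rfl⟩ := hx.2
      exact hn (le_of_two hV hs.2 v1 x1 xv vs hx.1 (mem_sup_left vu) (g2 z (mem_sup_right hz)))
  have k0 := key 1 (one_mem _)
  have k1 := key u (mem_zpowers u)
  have k2 := key (u * u) (mul_mem (mem_zpowers u) (mem_zpowers u))
  simp only [map_one, MulAut.one_apply, map_mul, MulAut.mul_apply] at k0 k2
  have n := norm hV hu.1 wu
  have d1 : φ u w ≠ w := fun e => w1 (fpf hV hu.1 wu e)
  have d2 : φ u (φ u w) ≠ φ u w := fun e => d1 ((φ u).injective e)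
  have d3 : φ u (φ u w) ≠ w := fun e => d1 (by
    have := cube hu.1 w
    rwa [e] at this)
  refine v1 (fpf hV hs.1 vs ?_)
  by_cases a : w = v
  · have e : w = φ u w * φ u (φ u w) := (eq_of_mul hV (by rw [mul_comm, ← mul_assoc, n])).symm.symm
    rw [← a, e, map_mul, k1 (a ▸ d1), k2 (a ▸ d3)]
  by_cases b : φ u w = v
  · have e : φ u w = w * φ u (φ u w) := eq_of_mul hV (by rw [mul_right_comm, n])
    rw [← b, e, map_mul, k0 a, k2 (b ▸ d2)]
  by_cases c : φ u (φ u w) = v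
  · rw [← c, eq_of_mul hV n, map_mul, k0 a, k1 b]
  have : v ∈ zpowers w ⊔ zpowers (φ u w) := hu.irr hV wu w1 (mem_sup_left (mem_zpowers _))
    (mem_sup_right (mem_zpowers _)) vu
  rcases (mem_four (hV _) (hV _) (Commute.all _ _)).1 this with e | e | e | e
  · exact (v1 e).elim
  · exact (a e.symm).elim
  · exact (b e.symm).elim
  · exact (c ((eq_of_mul hV n).trans e.symm)).elim

omit hV hA in
theorem T3.cj {t : A} (ht : T3 (φ t)) (a : A) : T3 (φ (a * t * a⁻¹)) := by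
  rw [map_mul, map_mul, map_inv]; exact ht.conj _

omit hV hA in
theorem U_cj (t a : A) : U (φ (a * t * a⁻¹)) = (U (φ t)).map (φ a).toMonoidHom := by
  rw [map_mul, map_mul, map_inv, U_conj]

theorem le_fix {s u : A} (hs : T3 (φ s)) (hu : T3 (φ u))
    (e : ∀ x, x ≠ 1 → x ∈ U (φ s) → x ∉ U (φ u)) : U (φ u) ≤ H91.Ru.Fix (zpowers (φ s)) :=
  fun x hx => mem_fix_zpowers.2
    (Pgen hV φ hA hs hu (eq_bot_iff.2 fun y hy => by_contra fun y1 => e y y1 hy.1 hy.2) x hx)

theorem le_or_bot {s u u' : A} (hs : T3 (φ s)) (hu : T3 (φ u)) (hu' : T3 (φ u'))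
    (hne : ¬ U (φ u) ≤ U (φ u')) (hb : U (φ u) ⊓ U (φ u') ≠ ⊥) :
    U (φ s) ≤ U (φ u) ⊔ U (φ u') ∨ ∀ x, x ≠ 1 → x ∈ U (φ s) → x ∉ U (φ u) ⊔ U (φ u') := by
  have hne' : ¬ U (φ u') ≤ U (φ u) := fun e =>
    hne (eq_of_le_of_card_ge e (by rw [hu.2, hu'.2])).ge
  refine or_iff_not_imp_left.2 fun hn v v1 h1 h2 => ?_
  have a := le_fix hV φ hA hs hu fun x x1 a b => hn (sym hV φ hA hs hu hu' hne hb x1 a b)
  have b := le_fix hV φ hA hs hu' fun x x1 a b => hn (by
    rw [sup_comm]; exact sym hV φ hA hs hu' hu hne' (by rwa [inf_comm]) x1 a b)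
  exact v1 (fpf hV hs.1 h1 (mem_fix_zpowers.1 (sup_le a b h2)))

omit hV hA in
theorem card8 {W W' : Subgroup V} (h : Nat.card W = 4) (h' : Nat.card W' = 4) (hne : ¬ W ≤ W')
    (hb : W ⊓ W' ≠ ⊥) : Nat.card (W ⊔ W' : Subgroup V) = 8 := by
  have h1 := H1.card_sup_mul_card_inf_of_normal W W'
  have h2 : Nat.card (W ⊓ W' : Subgroup V) ∣ 2 ^ 2 := (card_dvd_of_le inf_le_left).trans h.dvd
  obtain ⟨i, hi, e⟩ := (Nat.dvd_prime_pow Nat.prime_two).1 h2
  rw [h, h', e] at h1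
  interval_cases i
  · exact (hb (card_eq_one.1 e)).elim
  · omega
  · exact (hne ((eq_of_le_of_card_ge inf_le_left (by rw [h, e]; rfl)).ge.trans inf_le_right)).elim

theorem block {t : A} (ht : T3 (φ t)) : ∃ B : Subgroup V, U (φ t) ≤ B ∧
    (Nat.card B = 4 ∨ Nat.card B = 8) ∧ ∀ a : A, a ∈ stab φ B ∨ a⁻¹ * t * a ∈ fixer φ B := by
  have F : ∀ (a : A) (v : V), φ t (φ a v) = φ a v → φ (a⁻¹ * t * a) v = v := fun a v e => by
    simp [e]
  by_cases h : ∀ a : A, U (φ t) ≤ U (φ (a * t * a⁻¹)) ∨ U (φ t) ⊓ U (φ (a * t * a⁻¹)) = ⊥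
  · refine ⟨_, le_rfl, .inl ht.2, fun a => (h a).imp (fun e v hv => ?_) fun e v hv => F a v ?_⟩
    · rw [eq_of_le_of_card_ge e (by rw [ht.2, (ht.cj φ a).2]), U_cj]
      exact mem_map_of_mem _ hv
    · refine Pgen hV φ hA ht (ht.cj φ a) e _ ?_
      rw [U_cj]; exact mem_map_of_mem _ hv
  push Not at h
  obtain ⟨c, hne, hb⟩ := h
  have hu := ht.cj φ c
  generalize c * t * c⁻¹ = u at *
  refine ⟨U (φ t) ⊔ U (φ u), le_sup_left, .inr (card8 ht.2 hu.2 hne hb), fun a => ?_⟩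
  obtain ⟨⟨w, wu, wu'⟩, w1⟩ := ne_bot_iff_exists_ne_one.1 hb
  replace w1 : φ a w ≠ 1 := fun e => w1 (Subtype.ext (by simpa using e))
  have m1 : φ a w ∈ U (φ (a * t * a⁻¹)) := by rw [U_cj]; exact mem_map_of_mem _ wu
  have m2 : φ a w ∈ U (φ (a * u * a⁻¹)) := by rw [U_cj]; exact mem_map_of_mem _ wu'
  have hm : ∀ v ∈ U (φ t) ⊔ U (φ u),
      φ a v ∈ U (φ (a * t * a⁻¹)) ⊔ U (φ (a * u * a⁻¹)) := fun v hv => by
    rw [U_cj, U_cj, ← Subgroup.map_sup]; exact mem_map_of_mem _ hv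
  rcases le_or_bot hV φ hA (ht.cj φ a) ht hu hne hb with e | e <;>
    rcases le_or_bot hV φ hA (hu.cj φ a) ht hu hne hb with e' | e'
  · exact .inl fun v hv => sup_le e e' (hm v hv)
  · exact (e' _ w1 m2 (e m1)).elim
  · exact (e _ w1 m1 (e' m2)).elim
  · exact .inr fun v hv => F a v (mem_fix_zpowers.1 (sup_le
      (le_fix hV φ hA ht (ht.cj φ a) fun x x1 a b => e x x1 b (mem_sup_left a))
      (le_fix hV φ hA ht (hu.cj φ a) fun x x1 a b => e' x x1 b (mem_sup_left a)) (hm v hv)))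

end

end H76.Blk
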