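import Mathlib
import Cfsg.Agent.Base
import Cfsg.Agent.Lib.FGS.Blk4B
import Cfsg.Agent.Lib.BG5.Narrow
import Cfsg.Agent.Lib.BG4.Rank2Solv

/-! Rank three subgroups stabilising the block of an element moving only a four-group. -/

set_option autoImplicit false
set_option linter.unusedSectionVars false
set_option linter.style.haveILetI false

namespace H76.Blk

open Subgroup Cfsg
open scoped Pointwise commutatorElement

variable {V : Type*} [CommGroup V] [Finite V] (hV : ∀ v : V, v * v = 1)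
variable {A : Type*} [Group A] [Finite A] (φ : A →* MulAut V)
include hV

theorem good {B : Subgroup V} (hB : Nat.card B = 4 ∨ Nat.card B = 8) {r : ℕ} (hr : r.Prime)
    (r2 : r ≠ 2) {F : Subgroup A} (hF : IsElementaryAbelian r F) (h3 : Nat.card F = r ^ 3)
    (hs : F ≤ stab φ B) : ¬ IsCyclic (F ⊓ fixer φ B : Subgroup A) := fun hc => by
  let ψ := (res φ B).comp (inclusion hs)
  have h1 : Nat.card ψ.ker ≤ r := by
    refine le_trans ?_ (H49.card_le_of_isCyclic_of_pow_eq_one hr.pos hc fun a ha => hF.2 a ha.1)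
    rw [← card_map_of_injective F.subtype_injective]
    refine card_le_of_le ?_
    rintro _ ⟨a, ha, rfl⟩
    have : inclusion hs a ∈ (res φ B).ker := ha
    rw [ker_res] at this
    exact mem_inf.2 ⟨a.2, this⟩
  have h2 : Nat.card ψ.range ∣ 168 := (card_subgroup_dvd_card _).trans (by
    rcases hB with e | e
    · rw [aut_four hV e]; norm_num
    · rw [aut_eight hV e])
  have h4 := ψ.ker.card_mul_index
  rw [index_ker, h3] at h4
  obtain ⟨k, hk, e⟩ := (Nat.dvd_prime_pow hr).1 (Dvd.intro_left _ h4)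
  have k1 : k ≤ 1 := by
    by_contra hk'
    have h5 : r * r ∣ 168 := by
      rw [← pow_two]; exact ((pow_dvd_pow r (by omega)).trans (e ▸ h2))
    have h6 : r ≤ 13 := by nlinarith [Nat.le_of_dvd (by norm_num) h5]
    have h7 := hr.two_le
    interval_cases r <;> omega
  have : r ^ 3 ≤ r * r ^ 1 := h4 ▸ Nat.mul_le_mul h1 (e ▸ Nat.pow_le_pow_right hr.pos k1)
  rw [← pow_succ'] at this
  exact absurd ((Nat.pow_le_pow_iff_right hr.one_lt).1 this) (by norm_num)

theorem main [Group.IsSolvable A] (hA : Odd (Nat.card A)) {t : A} (ht : T3 (φ t))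
    (t3 : IsPGroup 3 (zpowers t)) {p : ℕ} (hp : p.Prime) (p2 : p ≠ 2) {E : Subgroup A}
    (hE : IsElementaryAbelian p E) (h3 : Nat.card E = p ^ 3) :
    ∃ (r : ℕ) (F : Subgroup A), r.Prime ∧ r ≠ 2 ∧ IsElementaryAbelian r F ∧ Nat.card F = r ^ 3 ∧
      ¬ IsCyclic (F ⊓ fixer φ (U (φ t)) : Subgroup A) := by
  obtain ⟨B, hU, hB, hb⟩ := block hV φ hA ht
  suffices ∃ (r : ℕ) (F : Subgroup A), r.Prime ∧ r ≠ 2 ∧ IsElementaryAbelian r F ∧
      Nat.card F = r ^ 3 ∧ F ≤ stab φ B by
    obtain ⟨r, F, hr, r2, hF, c, hs⟩ := this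
    exact ⟨r, F, hr, r2, hF, c, fun hc => good hV φ hB hr r2 hF c hs
      (H49.isCyclic_of_le hc (inf_le_inf_left _ fun a ha v hv => ha v (hU hv)))⟩
  have nt : t ∉ fixer φ B := fun h => by
    have : U (φ t) = ⊥ := eq_bot_iff.2 fun w hw => fpf hV ht.1 hw (h w (hU hw))
    have h4 := ht.2
    rw [this, card_bot] at h4
    omega
  by_cases hr : PRankLE 3 2 A
  · obtain ⟨P, N, hN, hc⟩ := H48.hasNormalPComplement_of_rank_two hA hr (.inl le_rfl)
    have cN : (Nat.card N).Coprime 3 := by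
      rw [← hc.index_eq_card]
      exact ((Nat.Prime.coprime_iff_not_dvd Nat.prime_three).2 P.not_dvd_index).symm
    have p3 : p ≠ 3 := by
      rintro rfl
      have := hr E hE.1 hE.2
      omega
    refine ⟨p, E, hp, p2, hE, h3, fun g hg => (hb g).resolve_right fun h => nt ?_⟩
    have gN : g ∈ N := by
      rw [← QuotientGroup.eq_one_iff, ← orderOf_eq_one_iff]
      obtain ⟨k, hk⟩ := IsPGroup.iff_card.1 P.isPGroup'
      refine Nat.eq_one_of_dvd_coprimes (((Nat.coprime_primes hp Nat.prime_three).2 p3).pow_right k)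
        (orderOf_dvd_of_pow_eq_one (by rw [← QuotientGroup.mk_pow, hE.2 g hg]; rfl)) ?_
      rw [← hk, ← hc.symm.index_eq_card]
      exact orderOf_dvd_natCard _
    have ts : t ∈ stab φ B := fun v => apply_mem hV hU
    have yN : t * (g⁻¹ * t * g)⁻¹ ∈ N := by
      have := mul_mem (mul_mem (hN.conj_mem _ (inv_mem gN) t) (one_mem N)) gN
      simpa [mul_assoc] using this
    have e1 : res φ B ⟨_, mul_mem ts (inv_mem (fixer_le φ B h))⟩ = res φ B ⟨t, ts⟩ := by
      have : (⟨_, fixer_le φ B h⟩ : stab φ B) ∈ (res φ B).ker := by rw [ker_res]; exact h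
      show res φ B (⟨t, ts⟩ * (⟨_, fixer_le φ B h⟩ : stab φ B)⁻¹) = _
      rw [map_mul, map_inv, MonoidHom.mem_ker.1 this, inv_one, mul_one]
    have e2 : res φ B ⟨t, ts⟩ = 1 := by
      refine orderOf_eq_one_iff.1 (Nat.eq_one_of_dvd_coprimes cN ?_ (orderOf_dvd_of_pow_eq_one
        (MulEquiv.ext fun v => Subtype.ext (cube ht.1 v))))
      rw [← e1]
      refine (orderOf_map_dvd _ _).trans ?_
      rw [orderOf_mk]
      exact orderOf_dvd_natCard N yN
    have : (⟨t, ts⟩ : stab φ B) ∈ (res φ B).ker := e2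
    rwa [ker_res] at this
  · obtain ⟨R, hR⟩ := t3.exists_le_sylow
    have tR := hR (mem_zpowers t)
    have hr' : ¬ PRankLE 3 2 (R : Subgroup A) := fun h => hr fun X _ hX => by
      obtain ⟨Q, hQ⟩ := IsPGroup.exists_le_sylow (p := 3) (P := X) fun a =>
        ⟨1, Subtype.ext (by simpa using hX a a.2)⟩
      exact H49.pRankLE_subgroup_iff.1 ((H49.pRankLE_congr (Sylow.equiv Q R)).2 h) X hQ ⟨‹_›, hX⟩
    obtain ⟨F, hN, hF, c⟩ := H49.exists_normal_ea_cube (by norm_num) R.isPGroup' hr'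
    refine ⟨3, F.map (R : Subgroup A).subtype, Nat.prime_three, by norm_num, H24.EA.map hF _,
      by rw [H24.card_map_subtype, c], ?_⟩
    rintro _ ⟨a, ha, rfl⟩
    by_contra hn
    have a3 : (a : A) ^ 3 = 1 := congrArg Subtype.val (hF.2 a ha)
    have h1 := (hb a).resolve_left hn
    have h2 := (hb (a * a)).resolve_left fun h => hn (by
      have := mul_mem h h
      rwa [show (a * a * (a * a) : A) = a ^ 3 * a by simp only [pow_succ, pow_zero, one_mul, mul_assoc], a3, one_mul] at this)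
    have y := mul_mem (hN.conj_mem _ (inv_mem ha) (⟨t, tR⟩ : R)⁻¹) ha
    have c := congrArg Subtype.val (H76.Ab8.comm_of hF.1 y ha).eq
    simp only [coe_mul, coe_inv, inv_inv] at c
    have h4 := mul_mem h1 (inv_mem (mul_mem (inv_mem h1) h2))
    have e : ((a : A)⁻¹ * t * a)⁻¹ * (((a : A) * a)⁻¹ * t * (a * a)) = t⁻¹ * (a : A)⁻¹ * t * a :=
      calc _ = (a : A)⁻¹ * (t⁻¹ * (a : A)⁻¹ * t * a * a) := by group
        _ = _ := by rw [c]; group
    refine nt ?_
    convert h4 using 1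
    rw [e]; group

end H76.Blk
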