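import Mathlib
import Cfsg.Agent.Base
import Cfsg.Agent.Lib.CIT.Ito3
import Cfsg.Agent.Lib.FGS.DirFactor

/-! Class sizes `1, m, n, m n` with `m, n` coprime: `m` and `n` are prime powers. -/

set_option autoImplicit false
set_option linter.unusedSectionVars false
set_option linter.style.haveILetI false

namespace H76.C4

open Subgroup H80 H35 H32
open scoped Pointwise commutatorElement

variable {G : Type*} [Group G] [Finite G]

theorem eq_of_idx {A B : Subgroup G} (h : A ≤ B) (e : A.index = B.index) : A = B := by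
  have h1 := relIndex_mul_index h
  rw [e] at h1
  exact le_antisymm h (relIndex_eq_one.1
    (Nat.eq_of_mul_eq_mul_right (Nat.pos_of_ne_zero index_ne_zero_of_finite) (by rw [h1, one_mul])))

theorem mem_of_rel {t : ℕ} (ht : t.Prime) {N H : Subgroup G} [N.Normal] (h : ¬ t ∣ N.relIndex H)
    {w : G} (hw : w ∈ H) (wt : IsPElt t w) : w ∈ N := by
  haveI := Fact.mk ht
  exact IsPElt.mem_of_index (N := N.subgroupOf H) (x := ⟨w, hw⟩) h ((isPElt_coe _).1 wt)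

theorem not_dvd_rel {t : ℕ} (ht : t.Prime) {N H : Subgroup G}
    (h : ∀ w ∈ H, IsPElt t w → w ∈ N) : ¬ t ∣ N.relIndex H := by
  haveI := Fact.mk ht
  obtain ⟨P⟩ : Nonempty (Sylow t H) := inferInstance
  exact not_dvd_index_of_sylow_le P fun w hw =>
    h w w.2 ((isPElt_coe _).2 (isPElt_of_mem P.isPGroup' hw))

structure CT (G : Type*) [Group G] (m n : ℕ) : Prop where
  hm : 1 < m
  hn : 1 < n
  cop : m.Coprime n
  cs : ∀ g : G, cs⟦g⟧ = 1 ∨ cs⟦g⟧ = m ∨ cs⟦g⟧ = n ∨ cs⟦g⟧ = m * n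
  exm : ∃ x : G, cs⟦x⟧ = m
  exn : ∃ x : G, cs⟦x⟧ = n
  exmn : ∃ x : G, cs⟦x⟧ = m * n

namespace CT

variable {m n : ℕ} (h : CT G m n)
include h

theorem symm : CT G n m :=
  ⟨h.hn, h.hm, h.cop.symm, fun g => by rw [mul_comm n m]; have := h.cs g; tauto, h.exn, h.exm,
    by rw [mul_comm]; exact h.exmn⟩

theorem nd : ¬ m ∣ n := fun e => h.hm.ne' (h.cop.eq_one_of_dvd e)

theorem nc {x : G} (hx : m ∣ cs⟦x⟧) : x ∉ center G := fun e => by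
  rw [cs_eq_one_iff.2 e] at hx
  exact h.hm.ne' (Nat.dvd_one.1 hx)

theorem cases_m {u : G} (hu : m ∣ cs⟦u⟧) : cs⟦u⟧ = m ∨ cs⟦u⟧ = m * n := by
  rcases h.cs u with e | e | e | e
  · exact (h.nc hu (cs_eq_one_iff.1 e)).elim
  · exact .inl e
  · exact (h.nd (e ▸ hu)).elim
  · exact .inr e

theorem eq_mn {u : G} (h1 : m ∣ cs⟦u⟧) (h2 : n ∣ cs⟦u⟧) : cs⟦u⟧ = m * n :=
  (h.cases_m h1).resolve_left fun e => h.symm.nd (e ▸ h2)

theorem eqA {x u : G} (hx : cs⟦x⟧ = m) (hu : u ∉ center G) (e : Cx⟦x⟧ ≤ Cx⟦u⟧) :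
    Cx⟦x⟧ = Cx⟦u⟧ := by
  have hd : cs⟦u⟧ ∣ m := hx ▸ index_dvd_of_le e
  refine eq_of_idx e ?_
  rcases h.cs u with e | e | e | e
  · exact (hu (cs_eq_one_iff.1 e)).elim
  · rw [hx, e]
  · exact (h.symm.nd (e ▸ hd)).elim
  · exact (h.symm.nd ((Nat.dvd_mul_left n m).trans (e ▸ hd))).elim

theorem ppA {x : G} (hx : cs⟦x⟧ = m) : ∃ (p : ℕ) (u : G), p.Prime ∧ IsPElt p u ∧ Cx⟦x⟧ = Cx⟦u⟧ := by
  by_contra hn
  refine h.nc hx.symm.dvd (mem_of_forall_isPElt_zpowers fun q u hq _ hu hz => by_contra fun e => ?_)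
  exact hn ⟨q, u, hq, hu, h.eqA hx e (Cx_le_of_mem_zpowers hz)⟩

theorem rel {x : G} (hx : cs⟦x⟧ = m) (w : Cx⟦x⟧) (c : (orderOf x).Coprime (orderOf (w : G))) :
    cs⟦w⟧ = 1 ∨ cs⟦w⟧ = n := by
  have e := cs_mul_of_coprime (mem_Cx_iff_commute.1 w.2) c
  rw [← cs_subtype, hx] at e
  have hm0 : 0 < m := by have := h.hm; omega
  rcases h.cases_m (u := x * w) (by rw [e]; exact Nat.dvd_mul_left _ _) with e' | e'
  · exact .inl (Nat.eq_of_mul_eq_mul_right hm0 (by rw [← e, e', one_mul]))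
  · exact .inr (Nat.eq_of_mul_eq_mul_right hm0 (by rw [← e, e', mul_comm]))

theorem idx_inf {x y : G} (hx : cs⟦x⟧ = m) (hy : cs⟦y⟧ = n) :
    (Cx⟦x⟧ ⊓ Cx⟦y⟧).index = m * n := by
  rw [index_inf_of_coprime (by rw [hx, hy]; exact h.cop), hx, hy]

theorem not_le_center {x y : G} (hx : cs⟦x⟧ = m) (hy : cs⟦y⟧ = n) :
    ¬ Cx⟦x⟧ ⊓ Cx⟦y⟧ ≤ center G := fun e => by
  obtain ⟨z, hz⟩ := h.exmn
  have h1 : (center G).index ∣ m * n := h.idx_inf hx hy ▸ index_dvd_of_le e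
  have h2 : center G = Cx⟦z⟧ := eq_of_idx (center_le_Cx z)
    (Nat.dvd_antisymm (hz ▸ h1) (cs_dvd_index_center z))
  exact h.nc (x := z) (hz ▸ Nat.dvd_mul_right m n) (h2 ▸ self_mem_Cx z)

theorem not_comm {x : G} (hx : cs⟦x⟧ = m) : ¬ ∀ w ∈ Cx⟦x⟧, Cx⟦x⟧ ≤ Cx⟦w⟧ := fun H => by
  obtain ⟨y, hy⟩ := h.exn
  refine h.not_le_center hx hy fun w hw => by_contra fun e => ?_
  have e1 := h.eqA hx e (H w hw.1)
  have e2 : y ∈ Cx⟦x⟧ := e1 ▸ mem_Cx_comm.1 hw.2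
  have e3 := h.eqA hx (h.symm.nc hy.symm.dvd) (H y e2)
  exact h.nd (by rw [← hx, ← hy, e3])

theorem conj_comm {x y : G} (hx : cs⟦x⟧ = m) (hy : cs⟦y⟧ = n) (c : y ∈ Cx⟦x⟧) (g : G) :
    g * y * g⁻¹ ∈ Cx⟦x⟧ := by
  obtain ⟨a, ha, k, hk, rfl⟩ := exists_mul_of_coprime_index (H := Cx⟦x⟧) (K := Cx⟦y⟧)
    (by rw [hx, hy]; exact h.cop) g
  have : a * k * y * (a * k)⁻¹ = a * (k * y * k⁻¹) * a⁻¹ := by group
  rw [this, mem_Cx_iff_conj.1 hk]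
  exact mul_mem (mul_mem ha c) (inv_mem ha)

theorem rho_m {x z : G} (hx : cs⟦x⟧ = m) (hz : cs⟦z⟧ = m * n) : rho x = rho z * n := by
  have h1 := rho_mul_cs x
  have h2 := rho_mul_cs z
  rw [hx] at h1
  rw [hz, ← h1] at h2
  refine Nat.eq_of_mul_eq_mul_right (m := m) (by have := h.hm; omega) ?_
  rw [← h2]; ring

section
variable (hnp : ¬ ∃ p a : ℕ, p.Prime ∧ n = p ^ a)
include hnp

theorem two {x : G} (hx : cs⟦x⟧ = m) {p : ℕ} (hp : p.Prime) (xp : IsPElt p x) :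
    ∃ r₀ : ℕ, ∀ r : ℕ, r.Prime → r ∣ (center Cx⟦x⟧).index → r = p ∨ r = r₀ := by
  haveI := Fact.mk hp
  by_contra hn
  push Not at hn
  have T : TB Cx⟦x⟧ p n := ⟨hp, fun w hw => h.rel hx w (coprime_orderOf xp (by rwa [orderOf_coe])),
    fun q => by obtain ⟨r, a, b, c, d⟩ := hn q; exact ⟨r, a, c, d, b⟩⟩
  obtain ⟨a, ha⟩ := T.pow
  exact hnp ⟨p, a, hp, ha⟩

theorem two_primes (r₀ : ℕ) : ∃ s : ℕ, s.Prime ∧ s ∣ n ∧ s ≠ r₀ := by
  by_contra hn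
  push Not at hn
  have hn1 := h.hn
  obtain ⟨s, hs, sn⟩ := Nat.exists_prime_and_dvd (n := n) (by omega)
  exact hnp ⟨r₀, _, hn s hs sn ▸ hs,
    Nat.eq_prime_pow_of_unique_prime_dvd (by omega) fun {r} hr rn => hn r hr rn⟩

theorem dvd_idx0 {x : G} (hx : cs⟦x⟧ = m) {s : ℕ} (hs : s.Prime) (xs : IsPElt s x) :
    s ∣ (center Cx⟦x⟧).index := by
  haveI := Fact.mk hs
  by_contra hd
  obtain ⟨r₀, hr⟩ := h.two hnp hx hs xs
  have : center Cx⟦x⟧ = ⊤ := eq_top_of_forall_isPElt fun q w hq wq => by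
    by_cases e : q = s
    · exact IsPElt.mem_of_index hd (e ▸ wq)
    rcases h.rel hx w (coprime_orderOf xs (by
      rw [orderOf_coe]; exact H79.not_dvd_orderOf_of_isPElt_ne hs hq e wq)) with e1 | e1
    · exact cs_eq_one_iff.1 e1
    · obtain ⟨r, a, b, c⟩ := h.two_primes hnp r₀
      have d := b.trans (e1 ▸ cs_dvd_index_center w)
      rcases hr r a d with e2 | e2
      · exact (hd (e2 ▸ d)).elim
      · exact (c e2).elim
  refine h.not_comm hx fun w hw v hv => ?_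
  have := mem_center_iff.1 (this ▸ mem_top (⟨w, hw⟩ : Cx⟦x⟧)) ⟨v, hv⟩
  exact mem_Cx.2 (congrArg Subtype.val this)

theorem dvd_idx {x : G} (hx : cs⟦x⟧ = m) {s : ℕ} (hs : s.Prime) (sn : s ∣ n) :
    s ∣ (center Cx⟦x⟧).index := by
  haveI := Fact.mk hs
  by_contra hd
  obtain ⟨P, hP⟩ := (not_dvd_cs_iff (x := x) (p := s)).1
    (by rw [hx]; exact fun e => hs.one_lt.ne' (Nat.eq_one_of_dvd_coprimes h.cop e sn))
  obtain ⟨y, hy⟩ := h.exn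
  have hPZ : ¬ (P : Subgroup G) ≤ center G := fun e =>
    not_dvd_cs_of_sylow_le_center P e y (hy ▸ sn)
  obtain ⟨u, hu, uZ⟩ := SetLike.not_le_iff_exists.1 hPZ
  have us := isPElt_of_mem P.isPGroup' hu
  have h1 : (⟨u, hP hu⟩ : Cx⟦x⟧) ∈ center Cx⟦x⟧ :=
    IsPElt.mem_of_index hd ((isPElt_coe _).1 us)
  have h2 : Cx⟦x⟧ = Cx⟦u⟧ := h.eqA hx uZ fun v hv =>
    mem_Cx.2 (congrArg Subtype.val (mem_center_iff.1 h1 ⟨v, hv⟩))
  rw [h2] at hd hx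
  exact hd (h.dvd_idx0 hnp hx hs us)

theorem two' {x : G} (hx : cs⟦x⟧ = m) {p : ℕ} (hp : p.Prime) (xp : IsPElt p x) :
    p ∣ n ∧ ∀ t : ℕ, t.Prime → t ∣ (center Cx⟦x⟧).index → t ∣ n := by
  obtain ⟨r₀, hr⟩ := h.two hnp hx hp xp
  obtain ⟨s, a, b, c⟩ := h.two_primes hnp r₀
  obtain ⟨s', a', b', c'⟩ := h.two_primes hnp p
  have e1 : s = p := (hr s a (h.dvd_idx hnp hx a b)).resolve_right c
  have e2 : s' = r₀ := (hr s' a' (h.dvd_idx hnp hx a' b')).resolve_left c'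
  refine ⟨e1 ▸ b, fun t ht td => ?_⟩
  rcases hr t ht td with e | e
  · rw [e, ← e1]; exact b
  · rw [e, ← e2]; exact b'

theorem star {x : G} (hx : cs⟦x⟧ = m) {t : ℕ} (ht : t.Prime) (tn : ¬ t ∣ n) {w : G}
    (hw : w ∈ Cx⟦x⟧) (wt : IsPElt t w) : w ∈ center G := by
  haveI := Fact.mk ht
  obtain ⟨p, u, hp, up, e⟩ := h.ppA hx
  rw [e] at hx hw
  by_contra wZ
  have h1 : (⟨w, hw⟩ : Cx⟦u⟧) ∈ center Cx⟦u⟧ :=
    IsPElt.mem_of_index (fun d => tn ((h.two' hnp hx hp up).2 t ht d)) ((isPElt_coe _).1 wt)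
  have h2 : Cx⟦u⟧ = Cx⟦w⟧ := h.eqA hx wZ fun v hv =>
    mem_Cx.2 (congrArg Subtype.val (mem_center_iff.1 h1 ⟨v, hv⟩))
  rw [h2] at hx
  exact tn (h.two' hnp hx ht wt).1

theorem absurd : False := by
  obtain ⟨x, hx⟩ := h.exm
  have hm1 := h.hm
  obtain ⟨t, ht, tm⟩ := Nat.exists_prime_and_dvd (n := m) (by omega)
  haveI := Fact.mk ht
  have tn : ¬ t ∣ n := fun e => ht.one_lt.ne' (Nat.eq_one_of_dvd_coprimes h.cop tm e)
  obtain ⟨w, wZ, wt⟩ := exists_nc_pElt ht (tm.trans (hx ▸ cs_dvd_index_center x))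
  have S : ∀ z : G, w ∈ Cx⟦z⟧ → cs⟦z⟧ ≠ m * n := fun z hz e => by
    refine wZ (mem_of_rel ht (fun d => ?_) hz wt)
    refine not_dvd_rel ht (fun v hv vt => h.star hnp hx ht tn hv vt) ?_
    exact d.trans (Dvd.intro _ (h.rho_m hx e).symm)
  have hw : cs⟦w⟧ = n := by
    rcases h.cs w with e | e | e | e
    · exact (wZ (cs_eq_one_iff.1 e)).elim
    · exact (wZ (h.star hnp e ht tn (self_mem_Cx w) wt)).elim
    · exact e
    · exact (S w (self_mem_Cx w) e).elim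
  refine h.not_le_center hx hw (le_of_forall_pElt fun l u hl ul hu => by_contra fun uZ => ?_)
  have ln : l ∣ n := by_contra fun e => uZ (h.star hnp hx hl e hu.1 ul)
  have c : (orderOf w).Coprime (orderOf u) := coprime_orderOf wt
    (H79.not_dvd_orderOf_of_isPElt_ne ht hl (fun e => tn (e ▸ ln)) ul)
  have cm : Commute w u := mem_Cx_iff_commute.1 hu.2
  have e1 := Cx_mul_of_coprime cm c
  rcases h.symm.cases_m (u := w * u) (hw ▸ cs_dvd_cs_mul_left cm c) with e | e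
  · have e2 : Cx⟦w * u⟧ = Cx⟦w⟧ := eq_of_idx (e1 ▸ inf_le_left) (by rw [e, hw])
    have e3 : Cx⟦w⟧ = Cx⟦u⟧ := h.symm.eqA hw uZ (by rw [← e2, e1]; exact inf_le_right)
    exact wZ (h.star hnp hx ht tn (mem_Cx_comm.1 (e3 ▸ mem_Cx_comm.1 hu.1)) wt)
  · exact S (w * u) (e1 ▸ ⟨self_mem_Cx w, mem_Cx_comm.1 hu.2⟩) (by rw [e, mul_comm])

end

theorem ppow : ∃ p a : ℕ, p.Prime ∧ n = p ^ a := by_contra h.absurd

end CT

end H76.C4
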