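import Mathlib
import Cfsg.Agent.Base
import Cfsg.Agent.Lib.FGS.TwoEig
import Cfsg.Agent.Lib.Core.Fitting
import Cfsg.Agent.Lib.Core.MinNormal
import Cfsg.Agent.Lib.Transfer.NormalComplement
import Cfsg.Agent.S0215

/-! Left-normed commutator values, and small tools around coprime action and the Fitting subgroup. -/

set_option autoImplicit false

namespace H76.CV

open Subgroup Cfsg
open scoped Pointwise commutatorElement

variable {G : Type*} [Group G]

/-- left-normed commutator values of length `k + 1` -/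
def Val : ℕ → G → Prop
  | 0, _ => True
  | k + 1, x => ∃ y b, Val k y ∧ x = ⁅y, b⁆

theorem Val.map {H : Type*} [Group H] (f : G →* H) : ∀ {k : ℕ} {x : G}, Val k x → Val k (f x)
  | 0, _, _ => trivial
  | _ + 1, _, ⟨y, b, hy, e⟩ => ⟨f y, f b, hy.map f, by rw [e, map_commutatorElement]⟩

theorem Val.conj {k : ℕ} {x : G} (h : Val k x) (g : G) : Val k (g * x * g⁻¹) :=
  h.map (MulAut.conj g).toMonoidHom

theorem Val.mono : ∀ {k : ℕ} {x : G}, Val (k + 1) x → Val k x
  | 0, _, _ => trivial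
  | _ + 1, _, ⟨y, b, hy, e⟩ => ⟨y, b, hy.mono, e⟩

theorem Val.mem : ∀ {k : ℕ} {x : G}, Val k x → x ∈ (⊤ : Subgroup G).lowerCentralSeries k
  | 0, _, _ => mem_top _
  | _ + 1, _, ⟨_, b, hy, e⟩ => e ▸ commutator_mem_commutator hy.mem (mem_top b)

theorem lcs_le (k : ℕ) : ∀ (N : Subgroup G) [N.Normal], (∀ x, Val k x → x ∈ N) →
    (⊤ : Subgroup G).lowerCentralSeries k ≤ N := by
  induction k with
  | zero => intro N _ h x _; exact h x trivial
  | succ k ih =>
    intro N _ h
    rw [Subgroup.lowerCentralSeries_succ, commutator_le]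
    intro y hy b _
    have h1 := ih ((center (G ⧸ N)).comap (QuotientGroup.mk' N)) (fun x hx => by
      rw [mem_comap, mem_center_iff]
      intro g
      obtain ⟨g, rfl⟩ := QuotientGroup.mk'_surjective N g
      have := (QuotientGroup.eq_one_iff _).2 (h _ ⟨x, g, hx, rfl⟩)
      rw [← QuotientGroup.mk'_apply, map_commutatorElement,
        commutatorElement_eq_one_iff_mul_comm] at this
      exact this.symm) hy
    rw [← QuotientGroup.eq_one_iff, ← QuotientGroup.mk'_apply, map_commutatorElement,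
      commutatorElement_eq_one_iff_mul_comm]
    exact (mem_center_iff.1 h1 _).symm

theorem Val.lift {H : Type*} [Group H] (f : G →* H) (P : Subgroup G) (hP : P.map f = ⊤) :
    ∀ {k : ℕ} {x : G}, Val k x → ∃ x' ∈ P, Val k x' ∧ f x' = f x
  | 0, x, _ => by
    obtain ⟨x', h1, h2⟩ : f x ∈ P.map f := hP ▸ mem_top _
    exact ⟨x', h1, trivial, h2⟩
  | _ + 1, _, ⟨y, b, hy, e⟩ => by
    obtain ⟨y', h1, h2, h3⟩ := hy.lift f P hP
    obtain ⟨b', h4, h5⟩ : f b ∈ P.map f := hP ▸ mem_top _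
    refine ⟨⁅y', b'⁆, ?_, ⟨y', b', h2, rfl⟩, ?_⟩
    · rw [commutatorElement_def]
      exact mul_mem (mul_mem (mul_mem h1 h4) (inv_mem h1)) (inv_mem h4)
    · rw [e, map_commutatorElement, map_commutatorElement, h3, h5]

theorem val_iff (k : ℕ) (x : G) : Val k x ↔ ∃ f : Fin (k + 1) → G,
    x = ((List.ofFn f).tail).foldl (fun a b => a * b * a⁻¹ * b⁻¹) (f 0) := by
  induction k generalizing x with
  | zero => exact ⟨fun _ => ⟨fun _ => x, by simp⟩, fun _ => trivial⟩
  | succ k ih =>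
    have key : ∀ f : Fin (k + 2) → G,
        ((List.ofFn f).tail).foldl (fun a b => a * b * a⁻¹ * b⁻¹) (f 0) =
          ⁅((List.ofFn (Fin.init f)).tail).foldl (fun a b => a * b * a⁻¹ * b⁻¹) (Fin.init f 0),
            f (Fin.last _)⁆ := by
      intro f
      rw [List.ofFn_succ' f, List.concat_eq_append, List.tail_append_of_ne_nil (by simp),
        List.foldl_append]
      rfl
    constructor
    · rintro ⟨y, b, hy, e⟩
      obtain ⟨f, hf⟩ := (ih y).1 hy
      refine ⟨Fin.snoc f b, ?_⟩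
      rw [key, Fin.init_snoc, Fin.snoc_last, ← hf, e]
    · rintro ⟨f, hf⟩
      exact ⟨_, _, (ih _).2 ⟨Fin.init f, rfl⟩, hf.trans (key f)⟩

/-- the iterated commutator `[y, a, …, a]` -/
def E (a : G) (k : ℕ) (y : G) : G := (fun z => ⁅z, a⁆)^[k] y

theorem val_E (a : G) : ∀ (k : ℕ) (y : G), Val k (E a k y)
  | 0, _ => trivial
  | k + 1, y => ⟨E a k y, a, val_E a k y, Function.iterate_succ_apply' _ _ _⟩

theorem comm_mem {Q : Subgroup G} {a y : G} (ha : a ∈ normalizer (Q : Set G)) (hy : y ∈ Q) :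
    ⁅y, a⁆ ∈ Q := by
  rw [commutatorElement_def, mul_assoc, mul_assoc, ← mul_assoc a]
  exact mul_mem hy ((mem_normalizer_iff.1 ha _).1 (inv_mem hy))

theorem E_mem {Q : Subgroup G} {a : G} (ha : a ∈ normalizer (Q : Set G)) :
    ∀ (k : ℕ) {y : G}, y ∈ Q → E a k y ∈ Q
  | 0, _, hy => hy
  | k + 1, _, hy => E_mem ha k (comm_mem ha hy)

theorem map_E {H : Type*} [Group H] (f : G →* H) (a : G) :
    ∀ (k : ℕ) (y : G), f (E a k y) = E (f a) k (f y)
  | 0, _ => rfl
  | k + 1, y => (map_E f a k ⁅y, a⁆).trans (by rw [map_commutatorElement]; rfl)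

theorem commute_of_E {Q : Subgroup G} {a : G} (ha : a ∈ normalizer (Q : Set G))
    (hc : (orderOf a).Coprime (Nat.card Q)) :
    ∀ (k : ℕ) {y : G}, y ∈ Q → E a k y = 1 → Commute y a
  | 0, y, _, h => by rw [show y = 1 from h]; exact Commute.one_left a
  | k + 1, y, hy, h => by
    have h1 := commute_of_E ha hc k (comm_mem ha hy) h
    have h2 : ⁅y, a⁆ ^ orderOf a = 1 := by
      have h3 : (⁅y, a⁆ * a) ^ orderOf a = 1 := by
        rw [commutatorElement_def, inv_mul_cancel_right, conj_pow, pow_orderOf_eq_one]; simp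
      rwa [h1.mul_pow, pow_orderOf_eq_one, mul_one] at h3
    exact commutatorElement_eq_one_iff_commute.1 (orderOf_eq_one_iff.1
      (Nat.eq_one_of_dvd_coprimes hc (orderOf_dvd_of_pow_eq_one h2)
        (Q.orderOf_dvd_natCard (comm_mem ha hy))))

variable [Finite G]

theorem exists_pow_lift {H : Type*} [Group H] (f : G →* H) {p : ℕ} (hp : p.Prime) {y : G}
    (hy : ∃ a, orderOf (f y) = p ^ a) : ∃ n : ℕ, f (y ^ n) = f y ∧ ∃ a, orderOf (y ^ n) = p ^ a := by
  obtain ⟨a, ha⟩ := hy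
  obtain ⟨m, k, hm, hk⟩ := H76.TwoEig.exists_ppart p hp y
  obtain ⟨j, hj⟩ := exists_pow_eq_self_of_coprime (x := f y) (n := m)
    (by rw [ha]; exact ((hp.coprime_iff_not_dvd).2 hm).symm.pow_right a)
  refine ⟨m * j, by rw [pow_mul, map_pow, map_pow, hj], ?_⟩
  obtain ⟨i, -, hi⟩ := (Nat.dvd_prime_pow hp).1 (hk ▸ orderOf_pow_dvd (x := y ^ m) j)
  exact ⟨i, by rw [pow_mul, hi]⟩

/-- Frattini lifting of a `p`-element normalising a `q`-subgroup -/
theorem lift_norm {X : Type*} [Group X] (f : G →* X) (hf : Function.Surjective f) {p q : ℕ}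
    (hp : p.Prime) [Fact q.Prime] {R : Subgroup X} (hR : IsPGroup q R) {b : X}
    (hb : b ∈ normalizer (R : Set X)) (hbp : ∃ a, orderOf b = p ^ a) :
    ∃ Q : Subgroup G, IsPGroup q Q ∧ Q.map f = R ∧
      ∃ a ∈ normalizer (Q : Set G), f a = b ∧ ∃ n, orderOf a = p ^ n := by
  have : Finite X := Finite.of_surjective f hf
  obtain ⟨P⟩ : Nonempty (Sylow q (R.comap f)) := inferInstance
  have hs := f.subgroupComap_surjective_of_surjective R hf
  have h1 : (P : Subgroup (R.comap f)).map (f.subgroupComap R) = ⊤ :=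
    ((P.mapSurjective hs).is_maximal' (hR.to_subgroup ⊤) le_top).symm
  have hQ : IsPGroup q ((P : Subgroup (R.comap f)).map (R.comap f).subtype) := P.2.map _
  have hle : (P : Subgroup (R.comap f)).map (R.comap f).subtype ≤ R.comap f := map_subtype_le _
  have hi : ¬ q ∣ ((P : Subgroup (R.comap f)).map (R.comap f).subtype).relIndex (R.comap f) := by
    rw [relIndex, ← comap_subtype, comap_map_eq_self_of_injective (subtype_injective _)]
    exact P.not_dvd_index
  have hm : ((P : Subgroup (R.comap f)).map (R.comap f).subtype).map f = R := by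
    apply le_antisymm (map_le_iff_le_comap.2 hle)
    intro r hr
    obtain ⟨u, hu, e⟩ : (⟨r, hr⟩ : R) ∈ (P : Subgroup (R.comap f)).map (f.subgroupComap R) :=
      h1 ▸ mem_top _
    exact ⟨u, ⟨u, hu, rfl⟩, congrArg Subtype.val e⟩
  generalize (P : Subgroup (R.comap f)).map (R.comap f).subtype = Q at hQ hle hi hm
  refine ⟨Q, hQ, hm, ?_⟩
  obtain ⟨a0, rfl⟩ := hf b
  obtain ⟨k, hk, hk'⟩ := H4.exists_conj_le_of_not_dvd_relIndex hQ hi (H4.isPGroup_conj_smul hQ a0)
    (by
      rintro _ ⟨t, ht, rfl⟩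
      change f (a0 * t * a0⁻¹) ∈ R
      rw [map_mul, map_mul, map_inv]
      exact (mem_normalizer_iff.1 hb _).1 (hle ht))
  obtain ⟨u, hu, e⟩ : f k ∈ Q.map f := hm ▸ hk
  have hn : u⁻¹ * (k * a0) ∈ normalizer (Q : Set G) := by
    refine mul_mem (le_normalizer (inv_mem hu)) (mem_normalizer_fintype fun t ht => ?_)
    have := hk' _ ⟨t, ht, rfl⟩
    simpa [mul_assoc] using this
  have he : f (u⁻¹ * (k * a0)) = f a0 := by rw [map_mul, map_mul, map_inv, e, inv_mul_cancel_left]
  obtain ⟨n, h2, h3⟩ := exists_pow_lift f hp (y := u⁻¹ * (k * a0)) (by rw [he]; exact hbp)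
  exact ⟨_, pow_mem hn n, h2.trans he, h3⟩

/-- an element of a normal subgroup which is a `p`-group modulo `F(G)` and which centralises every
`O_q(G)`, `q ≠ p`, lies in `F(G)` -/
theorem mem_fitting {p : ℕ} [hp : Fact p.Prime] {K : Subgroup G} [K.Normal]
    (hK : ∀ g ∈ K, ∃ n, g ^ p ^ n ∈ fittingSubgroup G) {x : G} (hxK : x ∈ K)
    (hx : ∀ q : ℕ, q.Prime → q ≠ p → ∀ y ∈ pCore q G, Commute x y) : x ∈ fittingSubgroup G := by
  let W := fittingSubgroup G ⊓ pPrimeCore p G
  have hW : x ∈ centralizer (W : Set G) := by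
    have : (centralizer ({x} : Set G)).subgroupOf W = ⊤ := H1.eq_top_of_forall_sylow_le fun q hq => by
      have := Fact.mk hq
      obtain ⟨Q⟩ : Nonempty (Sylow q W) := inferInstance
      refine ⟨Q, fun y hy => ?_⟩
      rw [mem_subgroupOf, mem_centralizer_singleton_iff]
      by_cases hqp : q = p
      · subst hqp
        obtain ⟨n, hn⟩ := Q.2 ⟨y, hy⟩
        have h1 : orderOf (y : G) ∣ q ^ n :=
          orderOf_dvd_of_pow_eq_one (congrArg (fun z : (Q : Subgroup W) => ((z : W) : G)) hn)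
        have h2 := (pPrimeCore q G).orderOf_dvd_natCard y.2.2
        have h3 := Nat.eq_one_of_dvd_coprimes
          ((H1.coprime_card_pPrimeCore (G := G) (p := q)).pow_right n) h2 h1
        rw [orderOf_eq_one_iff.1 h3]; simp
      · exact (hx q hq hqp y (H1.le_pCore_of_le_fitting (Q.2.map W.subtype)
          ((map_subtype_le _).trans inf_le_left) ⟨y, hy, rfl⟩)).eq.symm
    intro w hw
    have h1 : (⟨w, hw⟩ : W) ∈ (centralizer ({x} : Set G)).subgroupOf W := this ▸ mem_top _
    exact mem_centralizer_singleton_iff.1 h1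
  let C := K ⊓ centralizer (W : Set G)
  let f : C →* G ⧸ W := (QuotientGroup.mk' W).comp C.subtype
  have hf : IsPGroup p f.range := by
    rintro ⟨_, g, rfl⟩
    obtain ⟨n, hn⟩ := hK g g.2.1
    obtain ⟨u, hu, v, hv, e⟩ := mem_sup_of_normal_right.1 (H1.fitting_le_pCore_sup_pPrimeCore p hn)
    obtain ⟨m, hm⟩ := H1.isPGroup_pCore (p := p) (G := G) ⟨u, hu⟩
    have hv' : v ∈ W := mem_inf.2 ⟨by
      rw [eq_inv_mul_of_mul_eq e]
      exact mul_mem (inv_mem (H1.pCore_le_fitting p hu)) hn, hv⟩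
    refine ⟨n + m, Subtype.ext ?_⟩
    change (((g : G) : G ⧸ W)) ^ p ^ (n + m) = 1
    rw [pow_add, pow_mul, ← QuotientGroup.mk_pow, ← e, QuotientGroup.mk_mul,
      (QuotientGroup.eq_one_iff v).2 hv', mul_one, ← QuotientGroup.mk_pow,
      show u ^ p ^ m = 1 from congrArg Subtype.val hm, QuotientGroup.mk_one]
  have := hf.isNilpotent
  have hC : Group.IsNilpotent C := Subgroup.isNilpotent_of_ker_le_center f.rangeRestrict (by
    intro g hg
    rw [MonoidHom.ker_rangeRestrict] at hg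
    have h1 : (g : G) ∈ W := (QuotientGroup.eq_one_iff _).1 hg
    rw [mem_center_iff]
    intro c
    exact Subtype.ext (c.2.2 g h1).symm)
  exact H1.le_fitting hC ⟨hxK, hW⟩

theorem isNilpotent_of_commute [Group.IsSolvable G]
    (h : ∀ p q : ℕ, p.Prime → q.Prime → q ≠ p → ∀ a : G, (∃ n, orderOf a = p ^ n) →
      ∀ y ∈ pCore q G, Commute a y) : Group.IsNilpotent G := by
  rw [← H1.fitting_eq_top_iff]
  by_contra hF
  have : Nontrivial (G ⧸ fittingSubgroup G) := QuotientGroup.nontrivial_iff.2 hF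
  obtain ⟨M, hM⟩ := H3.exists_isMinNormal (G ⧸ fittingSubgroup G)
  have := hM.normal
  obtain ⟨-, p, hp, -, hexp, -⟩ := hM.elementary inferInstance
  have := Fact.mk hp
  obtain ⟨⟨m, hm⟩, hm1⟩ := (ne_bot_iff_exists_ne_one).1 hM.ne_bot
  obtain ⟨y, rfl⟩ := QuotientGroup.mk'_surjective _ m
  obtain ⟨j, -, hj⟩ := (Nat.dvd_prime_pow hp (m := 1)).1
    (orderOf_dvd_of_pow_eq_one (by rw [pow_one]; exact hexp _ hm))
  obtain ⟨n, h1, h2⟩ := exists_pow_lift _ hp ⟨j, hj⟩
  have h3 := mem_fitting (p := p) (K := M.comap (QuotientGroup.mk' _)) (x := y ^ n)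
    (fun g hg => ⟨1, by
      rw [← QuotientGroup.eq_one_iff, pow_one, QuotientGroup.mk_pow]; exact hexp _ hg⟩)
    (pow_mem hm n) fun q hq hqp => h p q hp hq hqp _ h2
  exact hm1 (Subtype.ext (h1.symm.trans ((QuotientGroup.eq_one_iff _).2 h3)))

/-- the involutions of the centre of `T`, together with `1` -/
def omZ (T : Subgroup G) : Subgroup G where
  carrier := {w | w ∈ T ∧ w ∈ centralizer (T : Set G) ∧ w ^ 2 = 1}
  one_mem' := ⟨one_mem _, one_mem _, one_pow _⟩
  mul_mem' := by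
    rintro a b ⟨a1, a2, a3⟩ ⟨b1, b2, b3⟩
    exact ⟨mul_mem a1 b1, mul_mem a2 b2, by
      rw [(show Commute a b from b2 a a1).mul_pow, a3, b3, one_mul]⟩
  inv_mem' := by
    rintro a ⟨a1, a2, a3⟩
    exact ⟨inv_mem a1, inv_mem a2, by rw [inv_pow, a3, inv_one]⟩

/-- a non-abelian simple group of even order has an elementary abelian `2`-subgroup which is
normalised and not centralised by an element of odd prime power order -/
theorem exists_elem_two [IsSimpleGroup G] (hna : ¬ IsMulCommutative G) (h2 : 2 ∣ Nat.card G) :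
    ∃ A : Subgroup G, (∀ z ∈ A, z ^ 2 = 1) ∧ ∃ p : ℕ, p.Prime ∧ p ≠ 2 ∧
      ∃ a ∈ normalizer (A : Set G), (∃ n, orderOf a = p ^ n) ∧ ∃ y ∈ A, ¬ Commute y a := by
  by_contra hno
  push Not at hno
  have hsub : ∀ (T R : Subgroup G) (z : G), z ∈ T → T ≤ centralizer {z} → z ^ 2 = 1 →
      ¬ 2 ∣ R.relIndex (normalizer (T : Set G)) → R ≤ centralizer {z} →
      normalizer (T : Set G) ≤ centralizer {z} := by
    intro T R z h1 h3 h4 h5 h6
    rw [← relIndex_eq_one, relIndex, index_eq_one]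
    refine H1.eq_top_of_forall_prime_not_dvd_index fun p hp hd => ?_
    by_cases hp2 : p = 2
    · exact h5 (hp2 ▸ hd.trans (relIndex_dvd_of_le_left _ h6))
    have := Fact.mk hp
    obtain ⟨P⟩ : Nonempty (Sylow p (normalizer (T : Set G))) := inferInstance
    refine P.not_dvd_index (hd.trans (index_dvd_of_le fun a ha => ?_))
    obtain ⟨n, hn⟩ := IsPGroup.iff_orderOf.1 P.2 ⟨a, ha⟩
    rw [mem_subgroupOf, mem_centralizer_singleton_iff]
    refine (hno (omZ T) (fun _ h => h.2.2) p hp hp2 a (mem_normalizer_fintype ?_)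
      ⟨n, by rw [orderOf_coe, ← hn, ← orderOf_coe (⟨a, ha⟩ : (P : Subgroup _))]⟩ z
      ⟨h1, fun t ht => mem_centralizer_singleton_iff.1 (h3 ht), h4⟩).eq.symm
    rintro w ⟨w1, w2, w3⟩
    refine ⟨(mem_normalizer_iff.1 a.2 w).1 w1, fun t ht => ?_, by rw [conj_pow, w3]; simp⟩
    have := w2 _ ((mem_normalizer_iff''.1 a.2 t).1 ht)
    calc t * (a * w * (a : G)⁻¹) = a * ((a : G)⁻¹ * t * a * w) * (a : G)⁻¹ := by group
      _ = a * w * (a : G)⁻¹ * t := by rw [this]; group
  have key : ∀ (n : ℕ) (S S' : Sylow 2 G) (z : G), z ^ 2 = 1 → z ∈ S → z ∈ S' →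
      (S : Subgroup G) ≤ centralizer {z} →
      Nat.card G - Nat.card ((S : Subgroup G) ⊓ S' : Subgroup G) ≤ n →
      (S' : Subgroup G) ≤ centralizer {z} := by
    intro n
    induction n with
    | zero =>
      intro S S' z _ _ _ hS hn
      have h1 := card_le_card_group ((S : Subgroup G) ⊓ S')
      have h3 : (S : Subgroup G) ⊓ S' = ⊤ := (card_eq_iff_eq_top _).1 (by omega)
      exact le_top.trans (h3.ge.trans (inf_le_left.trans hS))
    | succ n ih =>
      intro S S' z hz h1 h1' hS hn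
      by_cases he : S = S'
      · exact he ▸ hS
      have l1 : (S : Subgroup G) ⊓ S' < S :=
        lt_of_le_of_ne inf_le_left fun h => he (H4.sylow_eq_of_le (inf_eq_left.1 h))
      have l2 : (S : Subgroup G) ⊓ S' < S' :=
        lt_of_le_of_ne inf_le_right fun h => he (H4.sylow_eq_of_le (inf_eq_right.1 h)).symm
      have m1 := H4.lt_inf_normalizer_of_lt S.2 l1
      have m2 := H4.lt_inf_normalizer_of_lt S'.2 l2
      have hzT : z ∈ (S : Subgroup G) ⊓ S' := ⟨h1, h1'⟩
      have hTc : (S : Subgroup G) ⊓ S' ≤ centralizer {z} := inf_le_left.trans hS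
      generalize (S : Subgroup G) ⊓ S' = T at *
      obtain ⟨S2, a1, a2⟩ := H4.exists_sylow_ge_not_dvd_relIndex (p := 2)
        (K := normalizer (T : Set G)) (S.2.to_le inf_le_left) inf_le_right
      have b1 := H3.card_lt_card_of_lt (m1.trans_le (le_inf inf_le_left a1))
      have b2 := ih S S2 z hz h1 (a1 (m1.le hzT)) hS (by omega)
      have b3 := hsub T S2 z hzT hTc hz a2 b2
      obtain ⟨k, hk, hk'⟩ := H4.exists_conj_le_sylow_of_le S hS (S'.2.to_le inf_le_left)
        (inf_le_right.trans b3 : (S' : Subgroup G) ⊓ normalizer (T : Set G) ≤ _)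
      have c1 : (S' : Subgroup G) ⊓ normalizer (T : Set G) ≤ (k⁻¹ • S : Sylow 2 G) := fun t ht =>
        H4.mem_smul_sylow_iff.2 (by rw [inv_inv]; exact hk' t ht)
      have c2 := H3.card_lt_card_of_lt (m2.trans_le (le_inf c1 inf_le_left))
      refine ih (k⁻¹ • S) S' z hz (c1 (m2.le hzT)) h1' (fun t ht => ?_) (by omega)
      have := hS (H4.mem_smul_sylow_iff.1 ht)
      have e : t = k⁻¹ * (k⁻¹⁻¹ * t * k⁻¹) * k := by group
      rw [e]
      exact mul_mem (mul_mem (inv_mem hk) this) hk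
  obtain ⟨P⟩ : Nonempty (Sylow 2 G) := inferInstance
  have : Nontrivial P := (nontrivial_iff_ne_bot _).2 (P.ne_bot_of_dvd_card h2)
  have := P.2.center_nontrivial
  obtain ⟨u, hu⟩ := exists_prime_orderOf_dvd_card' (G := center P) 2
    (((P.2.to_subgroup (center P)).card_eq_or_dvd).resolve_left Finite.one_lt_card.ne')
  have hu2 : orderOf ((u : P) : G) = 2 := by rw [orderOf_coe, orderOf_coe, hu]
  have huP : ((u : P) : G) ∈ P := (u : P).2
  have huc : (P : Subgroup G) ≤ centralizer {((u : P) : G)} := fun s hs =>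
    mem_centralizer_singleton_iff.2 (congrArg Subtype.val (mem_center_iff.1 u.2 ⟨s, hs⟩))
  generalize ((u : P) : G) = z at hu2 huP huc
  have hz : z ^ 2 = 1 := by rw [← hu2, pow_orderOf_eq_one]
  obtain ⟨N, hN, hodd, hc⟩ := Cfsg.Agent.S0215.result P z hu2 huP fun g hg => by
    have h1 := key _ (g • P) P _ (by rw [conj_pow, hz]; simp) (H4.conj_mem_smul_sylow huP) hg
      (fun t ht => by
        have := mem_centralizer_singleton_iff.1 (huc (H4.mem_smul_sylow_iff.1 ht))
        rw [mem_centralizer_singleton_iff]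
        calc t * (g * z * g⁻¹) = g * (g⁻¹ * t * g * z) * g⁻¹ := by group
          _ = g * z * g⁻¹ * t := by rw [this]; group) le_rfl
    obtain ⟨m, hm, e⟩ := H4.exists_normalizer_conj_eq_of_centralizer P (A := {z}) (g := g)
      (by rintro _ rfl s hs; exact mem_centralizer_singleton_iff.1 (huc hs))
      (by rintro _ rfl s hs; exact mem_centralizer_singleton_iff.1 (h1 hs))
    have h3 := hsub P P z huP huc hz (H4.not_dvd_relIndex_sylow P le_normalizer) huc hm
    rw [← e z rfl, mem_centralizer_singleton_iff.1 h3, mul_inv_cancel_right]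
  rcases hN.eq_bot_or_eq_top with rfl | rfl
  · have hzc : z ∈ center G := mem_center_iff.2 fun g =>
      (commutatorElement_eq_one_iff_mul_comm.1 (mem_bot.1 (hc g))).symm
    rcases (normal_of_characteristic (center G)).eq_bot_or_eq_top with h0 | h0
    · rw [h0, mem_bot] at hzc
      rw [hzc, orderOf_one] at hu2
      omega
    · exact hna ⟨⟨fun a b => (mem_center_iff.1 (h0 ▸ mem_top b : b ∈ center G) a)⟩⟩
  · rw [card_top] at hodd
    exact (Nat.not_even_iff_odd.2 hodd) (even_iff_two_dvd.2 h2)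

end H76.CV
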