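import Mathlib
import Cfsg.Agent.Base
import Cfsg.Agent.Lib.FGS.Cam4A
import Cfsg.Agent.Lib.FGS.ComVal
import Cfsg.Agent.S4127

/-! Camina's theorem: class sizes `1, p ^ a, q ^ b, p ^ a q ^ b` force nilpotency. -/

set_option autoImplicit false
set_option linter.unusedSectionVars false
set_option linter.style.haveILetI false

namespace H76.C4

open Subgroup Cfsg H80 H35 H32
open scoped Pointwise commutatorElement

variable {G : Type*} [Group G] [Finite G]

theorem cop_ord {p q : ℕ} (hp : p.Prime) (hq : q.Prime) (ne : p ≠ q) {u t : G} (hu : IsPElt p u)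
    (ht : IsPElt q t) : (orderOf u).Coprime (orderOf t) := by
  haveI := Fact.mk hp
  exact coprime_orderOf hu (H79.not_dvd_orderOf_of_isPElt_ne hp hq ne.symm ht)

theorem le_of_normal_pgroup {p : ℕ} (hp : p.Prime) {K H C : Subgroup G} [K.Normal]
    (hK : IsPGroup p K) (hKC : K ≤ C) (h : ¬ p ∣ H.relIndex C) : K ≤ H := by
  haveI := Fact.mk hp
  obtain ⟨k, hk⟩ := IsPGroup.iff_card.1 (hK.comap_subtype (K := C))
  have := le_of_normal_of_coprime_index (N := K.subgroupOf C) (H := H.subgroupOf C)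
    (by rw [subgroupOf, hk]; exact ((Nat.Prime.coprime_iff_not_dvd hp).2 h).pow_left k)
  exact fun x hx => this (x := ⟨x, hKC hx⟩) hx

/-- Some element of the coset `w N` has a centraliser of `q'`-index in the centraliser mod `N`. -/
theorem exists_coset {p q : ℕ} (hp : p.Prime) (hq : q.Prime) (ne : p ≠ q) {N : Subgroup G}
    [N.Normal] (hN : IsPGroup p N) (w : G) : ∃ w' : G, (w' : G ⧸ N) = w ∧
      ¬ q ∣ (Cx⟦w'⟧).relIndex ((Cx⟦(w : G ⧸ N)⟧).comap (QuotientGroup.mk' N)) := by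
  haveI := Fact.mk hp
  haveI := Fact.mk hq
  set T := (Cx⟦(w : G ⧸ N)⟧).comap (QuotientGroup.mk' N)
  obtain ⟨R⟩ : Nonempty (Sylow q T) := inferInstance
  have hR : IsPGroup q ((R : Subgroup T).map T.subtype) := R.isPGroup'.map _
  have e := H2.map_mk'_centralizer (A := (R : Subgroup T).map T.subtype) (N := N)
    (IsPGroup.coprime_card_of_ne q p ne.symm _ _ hR hN) (.inl (H1.isSolvable_of_isPGroup hR))
  have hw : (w : G ⧸ N) ∈ centralizer
      ((((R : Subgroup T).map T.subtype).map (QuotientGroup.mk' N) : Subgroup (G ⧸ N)) :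
        Set (G ⧸ N)) := by
    rintro _ ⟨_, ⟨r, -, rfl⟩, rfl⟩
    exact mem_Cx.1 r.2
  rw [← e] at hw
  obtain ⟨w', h1, h2⟩ := hw
  refine ⟨w', h2, not_dvd_index_of_sylow_le R fun r hr => ?_⟩
  exact mem_Cx.2 (h1 r ⟨r, hr, rfl⟩)

structure PQ (G : Type*) [Group G] (p q a b : ℕ) : Prop extends CT G (p ^ a) (q ^ b) where
  hp : p.Prime
  hq : q.Prime

namespace PQ

variable {p q a b : ℕ} (h : PQ G p q a b)
include h

theorem symm : PQ G q p b a := ⟨h.toCT.symm, h.hq, h.hp⟩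

theorem pd : p ∣ p ^ a := dvd_pow_self p fun e => h.hm.ne' (by rw [e, pow_zero])

theorem ne : p ≠ q := fun e =>
  h.hp.one_lt.ne' (Nat.eq_one_of_dvd_coprimes h.cop h.pd (e ▸ h.symm.pd))

theorem nq : ¬ q ∣ p ^ a := fun e =>
  h.ne ((Nat.prime_dvd_prime_iff_eq h.hq h.hp).1 (h.hq.dvd_of_dvd_pow e)).symm

theorem syl_le {r : ℕ} [hr : Fact r.Prime] (rp : r ≠ p) (rq : r ≠ q) (R : Sylow r G) :
    (R : Subgroup G) ≤ center G := by
  have h1 : ¬ r ∣ p ^ a := fun e =>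
    rp ((Nat.prime_dvd_prime_iff_eq hr.out h.hp).1 (hr.out.dvd_of_dvd_pow e))
  have h2 : ¬ r ∣ q ^ b := fun e =>
    rq ((Nat.prime_dvd_prime_iff_eq hr.out h.hq).1 (hr.out.dvd_of_dvd_pow e))
  refine sylow_le_center_of_forall_not_dvd (fun x => ?_) R
  rcases h.cs x with e | e | e | e <;> rw [e]
  · exact hr.out.not_dvd_one
  · exact h1
  · exact h2
  · exact fun d => ((Nat.Prime.dvd_mul hr.out).1 d).elim h1 h2

theorem central {r : ℕ} (hr : r.Prime) (rp : r ≠ p) (rq : r ≠ q) {x : G} (hx : IsPElt r x) :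
    x ∈ center G := by
  haveI := Fact.mk hr
  obtain ⟨R, hR⟩ := hx.exists_sylow
  exact h.syl_le rp rq R hR

theorem solvable : Group.IsSolvable G := solvable_of_two_center (s := p) (t := q) fun r hr d => by
  haveI := Fact.mk hr
  obtain ⟨R⟩ : Nonempty (Sylow r G) := inferInstance
  by_contra e
  push Not at e
  exact not_dvd_index_of_sylow_le R (h.syl_le e.1 e.2 R) d

theorem exA : ∃ x : G, cs⟦x⟧ = p ^ a ∧ (IsPElt p x ∨ IsPElt q x) := by
  obtain ⟨x, hx⟩ := h.exm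
  obtain ⟨r, u, hr, ur, e⟩ := h.ppA hx
  rw [e] at hx
  refine ⟨u, hx, by_contra fun e => h.nc hx.symm.dvd (h.central hr ?_ ?_ ur)⟩
  · exact fun e' => e (.inl (e' ▸ ur))
  · exact fun e' => e (.inr (e' ▸ ur))

/-- A conjugate of an element of index `p ^ a` centralises a given Sylow `q`-subgroup. -/
theorem exists_conj {x : G} (hx : cs⟦x⟧ = p ^ a) {t : G} (ht : IsPElt q t) :
    ∃ g : G, g * x * g⁻¹ ∈ Cx⟦t⟧ := by
  haveI := Fact.mk h.hq
  obtain ⟨Q, hQ⟩ := ht.exists_sylow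
  obtain ⟨g, hg⟩ := exists_conj_mem_centralizer_sylow (x := x) (by rw [hx]; exact h.nq) Q
  exact ⟨g, mem_Cx'.2 (hg t hQ)⟩

theorem not_pp {x y : G} (hx : cs⟦x⟧ = p ^ a) (xp : IsPElt p x) (hy : cs⟦y⟧ = q ^ b)
    (yp : IsPElt p y) : False := by
  haveI := Fact.mk h.hp
  haveI := Fact.mk h.hq
  obtain ⟨g, hg⟩ := h.symm.exists_conj hy xp
  obtain ⟨K, -, f2, f3, -⟩ := Cfsg.Agent.S4127.split (C := Cx⟦x⟧) (p := p) (fun w hw => by
    rcases h.rel hx w (coprime_orderOf xp (by rwa [orderOf_coe])) with e | e <;> rw [e]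
    · exact h.hp.not_dvd_one
    · exact h.symm.nq)
  obtain ⟨Q, hQ⟩ := (not_dvd_cs_iff (x := x) (p := q)).1 (by rw [hx]; exact h.nq)
  refine (not_dvd_cs_iff (x := g * y * g⁻¹) (p := q)).2 ⟨Q, fun t ht => ?_⟩
    (by rw [cs_conj, hy]; exact h.symm.pd)
  have := f3 ⟨_, hg⟩ ((isPElt_coe _).1 (yp.conj g)) ⟨t, hQ ht⟩ (f2 _ (by
    rw [← orderOf_coe]
    exact H79.not_dvd_orderOf_of_isPElt_ne h.hp h.hq h.ne.symm (isPElt_of_mem Q.isPGroup' ht)))
  exact mem_Cx'.2 (congrArg Subtype.val this)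

theorem compl {x : G} (hx : cs⟦x⟧ = p ^ a) (xp : IsPElt p x) :
    ∃ N : Subgroup G, N.Normal ∧ ¬ p ∣ Nat.card N ∧ ∀ y : G, ¬ p ∣ orderOf y → y ∈ N := by
  haveI := Fact.mk h.hp
  obtain ⟨P, N, hN, hc⟩ := Cfsg.Agent.S4127.result p a (fun y d => by
    have h1 : ¬ p ^ (a + 1) ∣ p ^ a * q ^ b := fun d => h.symm.nq
      (Nat.dvd_of_mul_dvd_mul_left (pow_pos h.hp.pos a) (pow_succ p a ▸ d))
    refine h1 (d.trans ?_)
    rcases h.cs y with e | e | e | e <;> rw [e]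
    · exact one_dvd _
    · exact Nat.dvd_mul_right _ _
    · exact Nat.dvd_mul_left _ _) ⟨x, xp, hx⟩
  obtain ⟨k, hk⟩ := IsPGroup.iff_card.1 P.isPGroup'
  refine ⟨N, hN, ?_, fun y hy => mem_of_not_dvd_of_index (k := k) ?_ hy⟩
  · rw [← hc.index_eq_card]; exact P.not_dvd_index
  · rw [hc.symm.index_eq_card, hk]

theorem nil {x y : G} (hx : cs⟦x⟧ = p ^ a) (xp : IsPElt p x) (hy : cs⟦y⟧ = q ^ b)
    (yq : IsPElt q y) : Group.IsNilpotent G := by
  haveI := h.solvable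
  obtain ⟨N, hN, n1, n2⟩ := h.compl hx xp
  obtain ⟨M, hM, m1, m2⟩ := h.symm.compl hy yq
  have key : ∀ u t : G, IsPElt p u → IsPElt q t → Commute u t := fun u t hu ht => by
    refine commute_of_commutator_mem_center ?_ (cop_ord h.hp h.hq h.ne hu ht)
    have t1 := n2 t (H79.not_dvd_orderOf_of_isPElt_ne h.hp h.hq h.ne.symm ht)
    have u1 := m2 u (H79.not_dvd_orderOf_of_isPElt_ne h.hq h.hp h.ne hu)
    have c1 : ⁅u, t⁆ ∈ N := mul_mem (hN.conj_mem t t1 u) (inv_mem t1)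
    have c2 : ⁅u, t⁆ ∈ M := by
      have := mul_mem u1 (hM.conj_mem _ (inv_mem u1) t)
      simpa [commutatorElement_def, mul_assoc] using this
    refine mem_of_forall_isPElt_zpowers fun r v hr d hv _ => h.central hr ?_ ?_ hv
    · rintro rfl; exact not_dvd_orderOf_of_mem n1 c1 d
    · rintro rfl; exact not_dvd_orderOf_of_mem m1 c2 d
  refine H76.CV.isNilpotent_of_commute fun r s hr hs rs u hu t ht => ?_
  haveI := Fact.mk hs
  have ts := isPElt_of_mem H1.isPGroup_pCore ht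
  by_cases e1 : r = p
  · by_cases e2 : s = q
    · exact key u t (e1 ▸ hu) (e2 ▸ ts)
    · exact mem_center_iff.1 (h.central hs (e1 ▸ rs) e2 ts) u
  by_cases e2 : r = q
  · by_cases e3 : s = p
    · exact (key t u (e3 ▸ ts) (e2 ▸ hu)).symm
    · exact mem_center_iff.1 (h.central hs e3 (e2 ▸ rs) ts) u
  · exact (mem_center_iff.1 (h.central hr e1 e2 hu) t).symm

end PQ

end H76.C4
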