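import Mathlib
import Cfsg.Agent.Base
import Cfsg.Agent.Lib.FGS.Cam4B

/-! Camina's theorem, the crossed case. -/

set_option autoImplicit false
set_option linter.unusedSectionVars false
set_option linter.style.haveILetI false

namespace H76.C4

open Subgroup Cfsg H80 H35 H32
open scoped Pointwise commutatorElement

variable {G : Type*} [Group G] [Finite G]

structure X (G : Type*) [Group G] (p q a b : ℕ) : Prop extends PQ G p q a b where
  hA : ∀ x : G, IsPElt p x → cs⟦x⟧ ≠ p ^ a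
  hB : ∀ y : G, IsPElt q y → cs⟦y⟧ ≠ q ^ b

namespace X

variable {p q a b : ℕ} (h : X G p q a b)
include h

theorem symm : X G q p b a := ⟨h.toPQ.symm, h.hB, h.hA⟩

theorem exq : ∃ x : G, cs⟦x⟧ = p ^ a ∧ IsPElt q x := by
  obtain ⟨x, h1, h2⟩ := h.exA
  exact ⟨x, h1, h2.resolve_left fun e => h.hA x e h1⟩

theorem dq {u : G} (uZ : u ∉ center G) (up : IsPElt p u) : q ^ b ∣ cs⟦u⟧ := by
  rcases h.cs u with e | e | e | e
  · exact (uZ (cs_eq_one_iff.1 e)).elim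
  · exact (h.hA u up e).elim
  · rw [e]
  · rw [e]; exact Nat.dvd_mul_left _ _

theorem csp {u : G} (uZ : u ∉ center G) (up : IsPElt p u) :
    cs⟦u⟧ = q ^ b ∨ cs⟦u⟧ = p ^ a * q ^ b := by
  rw [mul_comm]; exact h.toCT.symm.cases_m (h.dq uZ up)

theorem leS {u t : G} (hu : cs⟦u⟧ = p ^ a * q ^ b) (up : IsPElt p u) (tq : IsPElt q t)
    (c : t ∈ Cx⟦u⟧) : Cx⟦u⟧ ≤ Cx⟦t⟧ := by
  by_cases tZ : t ∈ center G
  · rw [Cx_eq_top_iff.2 tZ]; exact le_top
  have co := cop_ord h.hp h.hq h.ne up tq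
  have cm := mem_Cx_iff_commute.1 c
  have e1 := Cx_mul_of_coprime cm co
  have e2 : cs⟦u * t⟧ = p ^ a * q ^ b := h.eq_mn
    ((Nat.dvd_mul_right _ _).trans (hu ▸ cs_dvd_cs_mul_left cm co))
    ((Nat.dvd_mul_left _ _).trans (hu ▸ cs_dvd_cs_mul_left cm co))
  have e3 : Cx⟦u * t⟧ = Cx⟦u⟧ := eq_of_idx (e1 ▸ inf_le_left) (by rw [e2, hu])
  rw [← e3, e1]; exact inf_le_right

theorem rho_dvd {z u : G} (hz : cs⟦z⟧ = p ^ a * q ^ b) :
    rho u = rho z * (p ^ a * q ^ b) ∨ rho u = rho z * q ^ b ∨ rho u = rho z * p ^ a ∨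
      rho u = rho z := by
  have h1 := rho_mul_cs u
  have h2 := rho_mul_cs z
  rcases h.cs u with e | e | e | e
  · left; rw [← hz, h2, ← h1, e, mul_one]
  · exact .inr (.inl (h.rho_m e hz))
  · exact .inr (.inr (.inl (h.toCT.symm.rho_m e (by rw [hz, mul_comm]))))
  · rw [e, ← h2, hz] at h1
    exact .inr (.inr (.inr (Nat.eq_of_mul_eq_mul_right (hz ▸ cs_pos z) h1)))

theorem half {z : G} (hz : cs⟦z⟧ = p ^ a * q ^ b) (d : p ∣ rho z) : q ∣ rho z := by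
  obtain ⟨x, hx, xq⟩ := h.exq
  by_contra hn
  refine not_dvd_rel (N := center G) (H := Cx⟦x⟧) h.hp (fun u hu up => by_contra fun uZ => ?_)
    (d.trans (Dvd.intro _ (h.rho_m hx hz).symm))
  refine h.nc hx.symm.dvd (mem_of_rel h.hq (fun d' => hn ?_) (mem_Cx_comm.1 hu) xq)
  change q ∣ rho u at d'
  rcases h.csp uZ up with e | e
  · rw [h.toCT.symm.rho_m e (z := z) (by rw [hz, mul_comm])] at d'
    exact ((Nat.Prime.dvd_mul h.hq).1 d').resolve_right h.nq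
  · have h1 := rho_mul_cs u
    rw [e, ← rho_mul_cs z, hz] at h1
    rwa [Nat.eq_of_mul_eq_mul_right (hz ▸ cs_pos z) h1] at d'

theorem F2 (u : G) : ∃ t ∈ Cx⟦u⟧, t ∉ center G ∧ IsPElt q t := by
  obtain ⟨z, hz⟩ := h.exmn
  have d : q ∣ rho z := by
    by_contra hn
    refine h.nc (x := z) (hz ▸ Nat.dvd_mul_right _ _)
      (mem_of_forall_isPElt_zpowers fun r v hr _ vr hv => ?_)
    have hv' := zpowers_le_Cx z hv
    by_cases e1 : r = p
    · exact mem_of_rel hr (fun d => hn (h.half hz (e1 ▸ d))) hv' vr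
    by_cases e2 : r = q
    · exact mem_of_rel hr (e2 ▸ hn) hv' vr
    · exact h.central hr e1 e2 vr
  have d' : q ∣ rho u := by
    rcases h.rho_dvd (u := u) hz with e | e | e | e <;> rw [e]
    · exact d.mul_right _
    · exact d.mul_right _
    · exact d.mul_right _
    · exact d
  by_contra hn
  exact not_dvd_rel h.hq (fun w hw wq => by_contra fun e => hn ⟨w, hw, e, wq⟩) d'

theorem F4 {t u : G} (tq : IsPElt q t) (hu : u ∈ pCore p G) (c : t ∈ Cx⟦u⟧)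
    (e : cs⟦u⟧ = p ^ a * q ^ b) : pCore p G ≤ Cx⟦t⟧ := by
  haveI := Fact.mk h.hp
  haveI := Fact.mk h.hq
  have hK : IsPGroup p (pCore p G) := H1.isPGroup_pCore
  have := H2.thompson_PxQ (p := p) (P := pCore p G ⊓ Cx⟦t⟧) (Q := zpowers t) (U := pCore p G)
    (hK.to_le inf_le_left) (by
      obtain ⟨k, hk⟩ := tq
      rw [Nat.card_zpowers, hk]
      exact ((Nat.coprime_primes h.hq h.hp).2 h.ne.symm).pow_left k) hK
    (by rw [centralizer_zpowers]; exact inf_le_right)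
    (le_top.trans (normalizer_eq_top _).ge) (le_top.trans (normalizer_eq_top _).ge) (by
      rw [centralizer_zpowers]
      exact fun v hv => h.leS e (isPElt_of_mem hK hu) tq c
        (mem_Cx'.2 (hv.2 u ⟨hu, mem_Cx_comm.1 c⟩)))
  exact le_Cx_iff.2 (this (mem_zpowers t))

theorem AJ {x : G} (hx : cs⟦x⟧ = p ^ a) : pCore q G ≤ Cx⟦x⟧ := by
  haveI := Fact.mk h.hq
  obtain ⟨k, hk⟩ := IsPGroup.iff_card.1 (H1.isPGroup_pCore (p := q) (G := G))
  exact le_Cx_of_normal_of_coprime (by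
    rw [hk, hx]; exact ((Nat.Prime.coprime_iff_not_dvd h.hq).2 h.nq).pow_left k)

theorem caseS {u y t : G} (hu : u ∈ pCore p G) (e : cs⟦u⟧ = p ^ a * q ^ b) (hy : y ∈ pCore p G)
    (yZ : y ∉ center G) (tq : IsPElt q t) (c : t ∈ Cx⟦y⟧) : pCore p G ≤ Cx⟦t⟧ := by
  haveI := Fact.mk h.hp
  have hle : ∀ v ∈ pCore p G, centralizer (pCore p G : Set G) ≤ Cx⟦v⟧ :=
    fun v hv w hw => mem_Cx'.2 (hw v hv)
  have h1 := not_dvd_rel (N := centralizer (pCore p G : Set G)) (H := Cx⟦u⟧) h.hq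
    fun w hw wq => le_Cx_iff.1 (h.F4 wq hu hw e)
  refine le_Cx_iff.2 (mem_of_rel h.hq (fun d => ?_) c tq)
  have h2 := relIndex_mul_index (hle u hu)
  have h3 := relIndex_mul_index (hle y hy)
  have h4 := Nat.mul_dvd_mul d (h.dq yZ (isPElt_of_mem H1.isPGroup_pCore hy))
  rw [h3, ← h2, e, ← mul_assoc] at h4
  exact ((Nat.Prime.dvd_mul h.hq).1 (Nat.dvd_of_mul_dvd_mul_right (pow_pos h.hq.pos b) h4)).elim
    h1 h.nq

theorem claimA {x y : G} (hx : cs⟦x⟧ = p ^ a) (xq : IsPElt q x) (hy : y ∈ pCore p G)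
    (yZ : y ∉ center G) (c : x ∈ Cx⟦y⟧) : pCore p G ≤ Cx⟦x⟧ := by
  haveI := Fact.mk h.hp
  have hK : IsPGroup p (pCore p G) := H1.isPGroup_pCore
  by_cases hS : ∃ u ∈ pCore p G, cs⟦u⟧ = p ^ a * q ^ b
  · obtain ⟨u, hu, e⟩ := hS
    exact h.caseS hu e hy yZ xq c
  have hB : ∀ u ∈ pCore p G, u ∉ center G → cs⟦u⟧ = q ^ b := fun u hu uZ =>
    (h.csp uZ (isPElt_of_mem hK hu)).resolve_right fun e => hS ⟨u, hu, e⟩
  haveI hN : (pCore p G ⊓ Cx⟦x⟧).Normal := ⟨fun v hv g =>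
    ⟨Normal.conj_mem inferInstance v hv.1 g, by
      by_cases vZ : v ∈ center G
      · exact center_le_Cx x (Normal.conj_mem inferInstance v vZ g)
      · exact h.conj_comm hx (hB v hv.1 vZ) hv.2 g⟩⟩
  set N := pCore p G ⊓ Cx⟦x⟧ with hNd
  intro w hw
  by_contra wx
  set T := (Cx⟦(w : G ⧸ N)⟧).comap (QuotientGroup.mk' N)
  have hmem : ∀ w' : G, (w' : G ⧸ N) = w → cs⟦w'⟧ = q ^ b ∧ Cx⟦w'⟧ ≤ T := fun w' e => by
    have e1 : w'⁻¹ * w ∈ N := QuotientGroup.eq.1 e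
    refine ⟨hB w' ?_ fun z => wx ?_, ?_⟩
    · simpa using mul_mem hw (inv_mem e1.1)
    · simpa using mul_mem (center_le_Cx x z) e1.2
    · have := Cx_le_comap (QuotientGroup.mk' N) w'
      rwa [QuotientGroup.mk'_apply, e] at this
  obtain ⟨w₀, e0, h0⟩ := exists_coset h.hp h.hq h.ne (N := N) (hK.to_le inf_le_left) w
  have hT : T.index = q ^ b := by
    have h1 := relIndex_mul_index (hmem w₀ e0).2
    rw [(hmem w₀ e0).1] at h1
    obtain ⟨i, -, hi⟩ := (Nat.dvd_prime_pow h.hq).1 (Dvd.intro _ h1)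
    rcases i with _ | i
    · rw [← h1, hi, pow_zero, one_mul]
    · exact (h0 (hi ▸ dvd_pow_self q i.succ_ne_zero)).elim
  have hall : ∀ w' : G, (w' : G ⧸ N) = w → Cx⟦w'⟧ = T := fun w' e =>
    eq_of_idx (hmem w' e).2 (by rw [hT, (hmem w' e).1])
  have e1 := hall w rfl
  have e2 := hall (w * y) (by
    rw [QuotientGroup.mk_mul,
      (QuotientGroup.eq_one_iff (N := N) y).2 (mem_inf.2 ⟨hy, mem_Cx_comm.1 c⟩), mul_one])
  have e3 : Cx⟦w⟧ ≤ Cx⟦y⟧ := by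
    have := inf_le_Cx_mul w⁻¹ (w * y)
    rwa [Cx_inv, e2, ← e1, inf_idem, inv_mul_cancel_left] at this
  have e4 := h.toCT.symm.eqA (hmem w rfl).1 yZ e3
  exact wx (mem_Cx_comm.1 (e4 ▸ c))

theorem claimX {t y : G} (tq : IsPElt q t) (hy : y ∈ pCore p G)
    (yZ : y ∉ center G) (c : t ∈ Cx⟦y⟧) : pCore p G ≤ Cx⟦t⟧ := by
  haveI := Fact.mk h.hp
  have hK : IsPGroup p (pCore p G) := H1.isPGroup_pCore
  by_cases tZ : t ∈ center G
  · rw [Cx_eq_top_iff.2 tZ]; exact le_top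
  rcases h.symm.csp tZ tq with e | e
  · exact h.claimA e tq hy yZ c
  obtain ⟨x, hx, xq⟩ := h.exq
  obtain ⟨g, hg⟩ := h.exists_conj hx tq
  have hx' : cs⟦g * x * g⁻¹⟧ = p ^ a := by rw [cs_conj, hx]
  have h1 := h.claimA hx' (xq.conj g) hy yZ
    (h.symm.leS e tq (isPElt_of_mem hK hy) (mem_Cx_comm.1 c) hg)
  refine le_of_normal_pgroup h.hp hK h1 fun d => ?_
  have h2 := not_dvd_rel (N := Cx⟦g * x * g⁻¹⟧) (H := Cx⟦t⟧) h.hp fun w hw wp =>
    mem_Cx_comm.1 (h.symm.leS e tq wp hw hg)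
  have h3 := relIndex_mul_index (inf_le_left : Cx⟦t⟧ ⊓ Cx⟦g * x * g⁻¹⟧ ≤ _)
  have h4 := relIndex_mul_index (inf_le_right : Cx⟦t⟧ ⊓ Cx⟦g * x * g⁻¹⟧ ≤ _)
  rw [inf_relIndex_left, e] at h3
  rw [inf_relIndex_right, hx', ← h3, ← mul_assoc] at h4
  have h5 := Nat.eq_of_mul_eq_mul_right (pow_pos h.hp.pos a) h4
  exact ((Nat.Prime.dvd_mul h.hp).1 (h5 ▸ d)).elim h2 h.symm.nq

theorem other (hK : ¬ pCore p G ≤ center G) : ¬ pCore q G ≤ center G := fun hL => by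
  haveI := Fact.mk h.hq
  haveI := h.solvable
  obtain ⟨y, hy, yZ⟩ := SetLike.not_le_iff_exists.1 hK
  obtain ⟨t, ht, tZ, tq⟩ := h.F2 y
  have h1 := h.claimX tq hy yZ ht
  have h2 : fittingSubgroup G ≤ Cx⟦t⟧ := by
    rw [H1.fitting_eq_iSup_pCore]
    refine iSup_le fun r => ?_
    haveI := Fact.mk r.2
    by_cases e1 : (r : ℕ) = p
    · rw [e1]; exact h1
    by_cases e2 : (r : ℕ) = q
    · rw [e2]; exact hL.trans (center_le_Cx t)
    · exact fun v hv => center_le_Cx t (h.central r.2 e1 e2 (isPElt_of_mem H1.isPGroup_pCore hv))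
  exact tZ (hL (H1.le_pCore_of_le_fitting (isPElt_iff_zpowers.1 tq)
    (zpowers_le.2 (H1.centralizer_fitting_le (le_Cx_iff.1 h2))) (mem_zpowers t)))

theorem upper (hK : ¬ pCore p G ≤ center G) : (center G).relIndex (pCore p G) ≤ p ^ a := by
  haveI := Fact.mk h.hp
  obtain ⟨y, hy, yZ⟩ := SetLike.not_le_iff_exists.1 hK
  obtain ⟨g, hg⟩ : ∃ g : G, pCore p G ⊓ Cx⟦g⟧ ≤ center G := by
    by_contra hn
    push Not at hn
    have h1 := not_dvd_rel (N := Cx⟦y⟧) (H := ⊤) h.hq fun w _ wq => by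
      obtain ⟨v, hv, vZ⟩ := SetLike.not_le_iff_exists.1 (hn w)
      exact mem_Cx_comm.1 (h.claimX wq hv.1 vZ (mem_Cx_comm.1 hv.2) hy)
    rw [relIndex_top_right] at h1
    exact h1 (h.toPQ.symm.pd.trans (h.dq yZ (isPElt_of_mem H1.isPGroup_pCore hy)))
  have e : (center G).relIndex (pCore p G) = (Cx⟦g⟧).relIndex (pCore p G) := by
    rw [← inf_relIndex_right (center G), ← inf_relIndex_right Cx⟦g⟧]
    congr 1
    exact le_antisymm (inf_le_inf_right _ (center_le_Cx g)) fun v hv => ⟨hg ⟨hv.2, hv.1⟩, hv.2⟩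
  obtain ⟨k, hk⟩ := IsPGroup.iff_card.1 (H1.isPGroup_pCore (p := p) (G := G))
  obtain ⟨i, -, hi⟩ := (Nat.dvd_prime_pow h.hp).1
    (hk ▸ relIndex_dvd_card (center G) (pCore p G))
  have h1 : p ^ i ∣ p ^ a * q ^ b := by
    rw [← hi, e]
    refine (relIndex_Cx_dvd_cs _ g).trans ?_
    rcases h.cs g with e | e | e | e <;> rw [e]
    · exact one_dvd _
    · exact Nat.dvd_mul_right _ _
    · exact Nat.dvd_mul_left _ _
  rw [hi]
  exact Nat.le_of_dvd (pow_pos h.hp.pos a) (Nat.Coprime.dvd_of_dvd_mul_right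
    (((Nat.Prime.coprime_iff_not_dvd h.hp).2 h.symm.nq).pow_left i) h1)

theorem lower (hK : ¬ pCore p G ≤ center G) : q ^ b < (center G).relIndex (pCore p G) := by
  haveI := Fact.mk h.hp
  obtain ⟨y, hy, yZ⟩ := SetLike.not_le_iff_exists.1 hK
  have yp := isPElt_of_mem H1.isPGroup_pCore hy
  set f := QuotientGroup.mk' (center G)
  have h1 := not_dvd_rel (N := Cx⟦y⟧) (H := (Cx⟦f y⟧).comap f) h.hq fun w hw wq =>
    mem_Cx_iff_commute.2 (commute_of_commutator_mem_center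
      (commutator_mem_of_commute_mk.1 (mem_Cx_iff_commute.1 hw)) (cop_ord h.hp h.hq h.ne yp wq))
  have h2 := relIndex_mul_index (Cx_le_comap f y)
  rw [index_comap_of_surjective _ (QuotientGroup.mk'_surjective _)] at h2
  have h3 : q ^ b ∣ cs⟦f y⟧ := Nat.Coprime.dvd_of_dvd_mul_left
    (((Nat.Prime.coprime_iff_not_dvd h.hq).2 h1).pow_left b) (h2 ▸ h.dq yZ yp)
  refine (Nat.le_of_dvd (cs_pos _) h3).trans_lt ?_
  rw [← card_map_mk, ← ncard_range_conj, ← SetLike.coe_sort_coe, Nat.card_coe_set_eq]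
  haveI : ((pCore p G).map f).Normal := Normal.map inferInstance _ (QuotientGroup.mk'_surjective _)
  refine Set.ncard_lt_ncard ⟨?_, fun e => ?_⟩
  · rintro _ ⟨g, rfl⟩
    exact this.conj_mem _ (mem_map_of_mem f hy) g
  · obtain ⟨g, hg⟩ := e (one_mem _)
    have hg' : f y = 1 := by simpa using hg
    exact yZ ((QuotientGroup.eq_one_iff y).1 hg')

theorem absurd0 (hK : ¬ pCore p G ≤ center G) : False := by
  have h1 := h.upper hK
  have h2 := h.lower hK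
  have h3 := h.symm.upper (h.other hK)
  have h4 := h.symm.lower (h.other hK)
  omega

theorem absurd : False := by
  haveI := h.solvable
  have h1 : fittingSubgroup G ≤ center G := by
    rw [H1.fitting_eq_iSup_pCore]
    refine iSup_le fun r => ?_
    haveI := Fact.mk r.2
    by_cases e1 : (r : ℕ) = p
    · rw [e1]; exact by_contra h.absurd0
    by_cases e2 : (r : ℕ) = q
    · rw [e2]; exact by_contra h.symm.absurd0
    · exact fun v hv => h.central r.2 e1 e2 (isPElt_of_mem H1.isPGroup_pCore hv)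
  obtain ⟨x, hx⟩ := h.exm
  exact h.nc hx.symm.dvd (h1 (H1.centralizer_fitting_le fun v hv =>
    (mem_center_iff.1 (h1 hv) x).symm))

end X

theorem PQ.camina {p q a b : ℕ} (h : PQ G p q a b) : Group.IsNilpotent G := by
  obtain ⟨x, hx, xp⟩ := h.exA
  obtain ⟨y, hy, yq⟩ := h.symm.exA
  by_cases hA : ∃ x : G, IsPElt p x ∧ cs⟦x⟧ = p ^ a
  · obtain ⟨x, xp, hx⟩ := hA
    exact h.nil hx xp hy (yq.resolve_right (h.not_pp hx xp hy))
  by_cases hB : ∃ y : G, IsPElt q y ∧ cs⟦y⟧ = q ^ b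
  · obtain ⟨y, yq, hy⟩ := hB
    exact h.nil hx (xp.resolve_right (h.symm.not_pp hy yq hx)) hy yq
  exact (X.absurd ⟨h, fun x a b => hA ⟨x, a, b⟩, fun y a b => hB ⟨y, a, b⟩⟩).elim

theorem CT.main {m n : ℕ} (h : CT G m n) :
    Group.IsNilpotent G ∧ IsPrimePow m ∧ IsPrimePow n := by
  obtain ⟨q, b, hq, rfl⟩ := h.ppow
  obtain ⟨p, a, hp, rfl⟩ := h.symm.ppow
  refine ⟨PQ.camina ⟨h, hp, hq⟩, ⟨p, a, hp.prime, Nat.pos_of_ne_zero ?_, rfl⟩,
    ⟨q, b, hq.prime, Nat.pos_of_ne_zero ?_, rfl⟩⟩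
  · rintro rfl; exact h.hm.ne' (pow_zero p)
  · rintro rfl; exact h.hn.ne' (pow_zero q)

end H76.C4
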