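import Mathlib
import Cfsg.Agent.Lib.FGS.CyclicAux
import Cfsg.Agent.Lib.Transfer.Control
import Cfsg.Agent.Lib.Core.Hall
import Cfsg.Agent.Lib.Core.PCore
import Cfsg.Agent.Lib.LocEven.Basic

/-! Groups with a cyclic Sylow `p`-subgroup. -/

set_option autoImplicit false

namespace H80

open Subgroup Cfsg

variable {G : Type*} [Group G] [Finite G] {p : ℕ} [hp : Fact p.Prime]

theorem cycSylow_dichotomy (P : Sylow p G) (hP : IsCyclic (P : Subgroup G)) :
    (⁅(P : Subgroup G), normalizer ((P : Subgroup G) : Set G)⁆ = P ∧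
      (P : Subgroup G) ⊓ centralizer (normalizer ((P : Subgroup G) : Set G) : Set G) = ⊥) ∨
    normalizer ((P : Subgroup G) : Set G) ≤ centralizer ((P : Subgroup G) : Set G) := by
  have hc : (Nat.card (P : Subgroup G)).Coprime
      ((P : Subgroup G).relIndex (normalizer ((P : Subgroup G) : Set G))) :=
    H1.coprime_card_of_isPGroup_of_coprime P.2
      (hp.out.coprime_iff_not_dvd.2 (H4.not_dvd_relIndex_sylow P le_normalizer)).symm
  have h1 := H4.commutator_sup_centralizer_of_hall IsCyclic.isMulCommutative le_normalizer le_rfl hc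
  have h2 := H4.commutator_inf_centralizer_of_hall IsCyclic.isMulCommutative le_normalizer hc
  have h3 : ⁅(P : Subgroup G), normalizer ((P : Subgroup G) : Set G)⁆ ≤ P := le_sup_left.trans h1.le
  rcases le_total_of_isCyclic_of_isPGroup hP P.2 h3 inf_le_left with h | h
  · right
    rw [sup_eq_right.2 h, inf_eq_left] at h1
    exact le_centralizer_iff.1 h1
  · left
    rw [sup_eq_left.2 h] at h1
    refine ⟨h1, ?_⟩
    rw [← h2]
    exact (inf_eq_right.2 (h.trans (commutator_mono le_normalizer le_rfl))).symm

theorem hasNormalPComplement_of_cycSylow_of_ne_top (P : Sylow p G)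
    (hP : IsCyclic (P : Subgroup G)) (h : pResidual p G ≠ ⊤) : HasNormalPComplement p G := by
  rcases cycSylow_dichotomy P hP with h1 | h1
  · exfalso
    apply h
    have := H4.inf_pResidual_eq_commutator_normalizer P
    erw [h1.1] at this
    rw [← H4.pResidual_sup_sylow P, eq_comm, sup_eq_left]
    exact inf_eq_left.1 this
  · exact H4.hasNormalPComplement_of_normalizer_le_centralizer P h1

theorem hasNormalPComplement_of_cycSylow_of_center (P : Sylow p G)
    (hP : IsCyclic (P : Subgroup G)) (h : (P : Subgroup G) ⊓ center G ≠ ⊥) :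
    HasNormalPComplement p G := by
  rcases cycSylow_dichotomy P hP with h1 | h1
  · exact absurd (eq_bot_iff.2 (h1.2 ▸ inf_le_inf_left _ (center_le_centralizer _))) h
  · exact H4.hasNormalPComplement_of_normalizer_le_centralizer P h1

omit [Finite G] hp in
theorem isCyclic_sylow_subtype (P : Sylow p G) (hP : IsCyclic (P : Subgroup G)) {K : Subgroup G}
    (h : (P : Subgroup G) ≤ K) : IsCyclic (P.subtype h : Subgroup K) :=
  isCyclic_of_surjective _ (subgroupOfEquivOfLe h).symm.surjective

theorem isPiSeparable_of_hasNormalPComplement (h : HasNormalPComplement p G) :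
    H3.IsPiSeparable {p} G := by
  obtain ⟨N, hN, h1, k, h2⟩ := H4.hasNormalPComplement_iff_exists.1 h
  refine H3.IsPiSeparable.extension N ?_
    (H3.isPiSeparable_of_piNum (by
      rw [← index_eq_card, h2]; exact H3.piNum_prime_pow hp.out (Set.mem_singleton p) k))
  have := (H3.isPiSeparable_of_piNum ((H3.piNum_compl_singleton_iff hp.out).2
    (hp.out.coprime_iff_not_dvd.2 h1).symm)).compl
  rwa [compl_compl] at this

theorem isPiSeparable_of_not_dvd (h : ¬ p ∣ Nat.card G) : H3.IsPiSeparable {p} G :=
  isPiSeparable_of_hasNormalPComplement (H4.hasNormalPComplement_of_not_dvd h)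

/-- a cyclic Sylow subgroup and a nontrivial normal `p`-subgroup give `p`-solvability -/
theorem isPiSeparable_of_cycSylow_of_normal (P : Sylow p G) (hP : IsCyclic (P : Subgroup G))
    (N : Subgroup G) [N.Normal] (hN : IsPGroup p N) (hne : N ≠ ⊥) : H3.IsPiSeparable {p} G := by
  have hNP : N ≤ P := (H1.le_pCore hN).trans (H1.pCore_le_sylow P)
  have hPC : (P : Subgroup G) ≤ centralizer (N : Set G) :=
    fun x hx y hy => setLike_mul_comm (s := (P : Subgroup G)) (hNP hy) hx
  refine H3.IsPiSeparable.extension (centralizer (N : Set G))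
    (isPiSeparable_of_hasNormalPComplement (hasNormalPComplement_of_cycSylow_of_center
      (P.subtype hPC) (isCyclic_sylow_subtype P hP hPC) ?_))
    (isPiSeparable_of_not_dvd fun h => P.not_dvd_index (h.trans (index_dvd_of_le hPC)))
  obtain ⟨⟨z, hz⟩, hz1⟩ := ne_bot_iff_exists_ne_one.1 hne
  refine ne_bot_iff_exists_ne_one.2 ⟨⟨⟨z, hPC (hNP hz)⟩, hNP hz, ?_⟩, fun h => hz1 ?_⟩
  · exact mem_center_iff.2 fun g => Subtype.ext (g.2 z hz).symm
  · have h' : z = 1 := congrArg (fun x => ((x : centralizer (N : Set G)) : G)) (congrArg Subtype.val h)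
    exact Subtype.ext h'

theorem hasNormalPComplement_of_cycSylow_of_dvd_index (P : Sylow p G)
    (hP : IsCyclic (P : Subgroup G)) (H : Subgroup G) [H.Normal] (h2 : p ∣ H.index) :
    HasNormalPComplement p H := by
  have h3 : HasNormalPComplement p ↥(H ⊔ P) := by
    refine hasNormalPComplement_of_cycSylow_of_ne_top (P.subtype le_sup_right)
      (isCyclic_sylow_subtype P hP _) fun h => ?_
    have h4 : pResidual p ↥(H ⊔ P) ≤ H.subgroupOf (H ⊔ P) := by
      obtain ⟨k, hk⟩ := IsPGroup.iff_card.1 P.2
      apply H4.pResidual_le_of_index_dvd_pow (k := k)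
      change H.relIndex (H ⊔ P) ∣ _
      rw [relIndex_sup_left, ← hk]
      exact relIndex_dvd_card _ _
    rw [h, top_le_iff, subgroupOf_eq_top, sup_le_iff] at h4
    exact P.not_dvd_index (h2.trans (index_dvd_of_le h4.2))
  exact H4.hasNormalPComplement_of_subgroup_le h3 le_sup_left

end H80
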