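import Mathlib
import Cfsg.Agent.Base
import Cfsg.Agent.S1349
import Cfsg.Agent.Lib.Core.Coprime
import Cfsg.Agent.Lib.Core.CoprimeExt
import Cfsg.Agent.Lib.Core.Fitting
import Cfsg.Agent.Lib.FGS.CyclicAux

/-! Thompson's dihedral lemma in element form (helper76). -/

set_option autoImplicit false

namespace H76

open Cfsg Subgroup
open scoped commutatorElement

theorem exists_dih {G : Type*} [Group G] [Finite G] {A H : Subgroup G}
    (hA : IsElementaryAbelian 2 A) (hH : Group.IsNilpotent H) (hodd : Odd (Nat.card H))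
    (hAH : A ≤ normalizer (H : Set G)) (hf : A ⊓ centralizer (H : Set G) = ⊥) {n : ℕ}
    (hn : Nat.card A = 2 ^ n) : ∃ u a : Fin n → G,
      (∀ i, u i ∈ H ∧ (orderOf (u i)).Prime ∧ a i ∈ A ∧ a i * u i * (a i)⁻¹ = (u i)⁻¹) ∧
      (∀ i j, i ≠ j → a i * u j = u j * a i) ∧ (∀ i j, u i * u j = u j * u i) ∧
      A ≤ ⨆ i, zpowers (a i) := by
  have hcop : (Nat.card A).Coprime (Nat.card H) := by
    rw [hn]; exact (Nat.coprime_two_left.2 hodd).pow_left _
  obtain ⟨W, hW, hAW, hWab, hWc⟩ := Cfsg.Agent.S1349.exists_self_cent hA hH hAH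
  have hf' : A ⊓ centralizer (W : Set G) = ⊥ := by
    have h1 : A ⊓ centralizer (W : Set G) ≤ centralizer (H : Set G) :=
      H2.le_centralizer_of_centralizer_le hH (inf_le_left.trans hAH)
        (H2.coprime_of_le_left hcop inf_le_left) hW (le_centralizer_iff.1 inf_le_right)
        (hWc.trans (le_centralizer_iff.1 inf_le_right))
    rw [eq_bot_iff, ← hf]
    exact le_inf inf_le_left h1
  have hWodd : Odd (Nat.card W) := hodd.of_dvd_nat (card_dvd_of_le hW)
  obtain ⟨v, a, h1, h2, B, -, hc, -, hgen⟩ :=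
    Cfsg.Agent.S1349.steps hA hWab hAW hWodd hf' hn n le_rfl
  have hB1 : B = ⊥ := by
    rw [← Subgroup.card_eq_one]
    exact Nat.eq_of_mul_eq_mul_right (Nat.two_pow_pos n) (by rw [hc, one_mul])
  rw [hB1, bot_sup_eq] at hgen
  have hu : ∀ i, ∃ u ∈ zpowers (v i), (orderOf u).Prime := fun i =>
    H2.exists_mem_prime_orderOf (zpowers_ne_bot.2 (h1 i).2.1)
  choose u hu hup using hu
  have huW : ∀ i, u i ∈ W := fun i => zpowers_le.2 (h1 i).1 (hu i)
  refine ⟨u, a, fun i => ⟨hW (huW i), hup i, (h1 i).2.2.1, ?_⟩, fun i j hij => ?_,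
    fun i j => congrArg Subtype.val (hWab.is_comm.comm (⟨_, huW i⟩ : W) ⟨_, huW j⟩), hgen⟩
  · obtain ⟨k, hk⟩ := hu i
    rw [← hk]
    simp only
    rw [← conj_zpow, (h1 i).2.2.2, inv_zpow]
  · exact (mem_centralizer_singleton_iff.1 (zpowers_le.2
      (mem_centralizer_singleton_iff.2 (h2 i j hij).symm) (hu j))).symm

theorem exists_dih_ext {P : Type*} [Group P] [Finite P] (hH : Group.IsNilpotent P)
    (hodd : Odd (Nat.card P)) {I : Subgroup (MulAut P)} (hI : IsElementaryAbelian 2 I) {n : ℕ}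
    (hn : Nat.card I = 2 ^ n) : ∃ (u : Fin n → P) (a : Fin n → MulAut P),
      (∀ i, (orderOf (u i)).Prime ∧ a i ∈ I ∧ a i (u i) = (u i)⁻¹) ∧
      (∀ i j, i ≠ j → a i (u j) = u j) ∧ (∀ i j, u i * u j = u j * u i) ∧
      I ≤ ⨆ i, zpowers (a i) := by
  have : Finite (MulAut P) := Finite.of_injective _ DFunLike.coe_injective
  let φ := MonoidHom.id (MulAut P)
  obtain ⟨u, a, h1, h2, h3, h4⟩ := exists_dih (A := H2.sdR φ I) (H := H2.sdL φ ⊤)
    (H24.EA.map hI SemidirectProduct.inr)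
    (H1.isNilpotent_map (by infer_instance) _) (by rwa [H2.card_sdL, card_top])
    (H2.sdR_le_normalizer_top I) (by
      rw [eq_bot_iff]
      rintro _ ⟨⟨b, hb, rfl⟩, h⟩
      have : b = 1 := by
        ext x
        exact H2.inl_mul_inr_comm_iff.1 (h _ (H2.inl_mem_sdL.2 (mem_top x))).symm
      rw [this, map_one]
      exact one_mem _) (by rwa [H2.card_sdR])
  have hu : ∀ i, ∃ x : P, SemidirectProduct.inl x = u i := fun i => by
    obtain ⟨x, -, hx⟩ := (h1 i).1
    exact ⟨x, hx⟩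
  have ha : ∀ i, ∃ x ∈ I, SemidirectProduct.inr x = a i := fun i => (h1 i).2.2.1
  choose u' hu' using hu
  choose a' ha' ha'' using ha
  refine ⟨u', a', fun i => ⟨?_, ha' i, ?_⟩, fun i j hij => ?_, fun i j => ?_, ?_⟩
  · rw [← orderOf_injective _ (SemidirectProduct.inl_injective (φ := φ)), hu']
    exact (h1 i).2.1
  · apply SemidirectProduct.inl_injective (φ := φ)
    rw [map_inv, hu', ← (h1 i).2.2.2, ← hu', ← ha'', H2.inr_conj_inl]
    rfl
  · refine H2.inl_mul_inr_comm_iff (φ := φ).1 ?_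
    rw [hu', ha'']
    exact h2 i j hij
  · apply SemidirectProduct.inl_injective (φ := φ)
    rw [map_mul, map_mul, hu', hu', h3]
  · rw [← map_le_map_iff_of_injective (SemidirectProduct.inr_injective (φ := φ)),
      Subgroup.map_iSup]
    simpa only [MonoidHom.map_zpowers, ha''] using h4

theorem eq_one_of_eq_inv_of_odd {P : Type*} [Group P] (hodd : Odd (Nat.card P)) {x : P}
    (h : x = x⁻¹) : x = 1 :=
  orderOf_eq_one_iff.1 (Nat.eq_one_of_dvd_coprimes (Nat.coprime_two_left.2 hodd)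
    (orderOf_dvd_of_pow_eq_one (by rw [pow_two]; nth_rewrite 1 [h]; exact inv_mul_cancel x))
    (orderOf_dvd_natCard x))

theorem apply_eq_of_mem_zpowers {P : Type*} [Group P] {α : MulAut P} {x y : P} (h : α x = x)
    (hy : y ∈ zpowers x) : α y = y := by
  obtain ⟨k, rfl⟩ := hy
  simp only [map_zpow, h]

theorem apply_eq_inv_of_mem_zpowers {P : Type*} [Group P] {α : MulAut P} {x y : P}
    (h : α x = x⁻¹) (hy : y ∈ zpowers x) : α y = y⁻¹ := by
  obtain ⟨k, rfl⟩ := hy
  simp only [map_zpow, h, inv_zpow]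

/-- In a cyclic subgroup of an odd `p`-group an automorphism cannot fix one nonidentity element
and invert another one. -/
theorem eq_one_or_of_cyclic {P : Type*} [Group P] [Finite P] {p : ℕ} [Fact p.Prime]
    (hP : IsPGroup p P) (hodd : Odd (Nat.card P)) {α : MulAut P} {g c u : P}
    (hc : c ∈ zpowers g) (hu : u ∈ zpowers g) (h1 : α c = c) (h2 : α u = u⁻¹) : c = 1 ∨ u = 1 := by
  rcases H80.le_total_of_isCyclic_of_isPGroup (inferInstance : IsCyclic (zpowers g))
    (hP.to_subgroup _) (zpowers_le.2 hc) (zpowers_le.2 hu) with h | h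
  · exact Or.inl (eq_one_of_eq_inv_of_odd hodd
      (h1.symm.trans (apply_eq_inv_of_mem_zpowers h2 (h (mem_zpowers c)))))
  · exact Or.inr (eq_one_of_eq_inv_of_odd hodd
      ((apply_eq_of_mem_zpowers h1 (h (mem_zpowers u))).symm.trans h2))

theorem apply_gen_eq_inv {P : Type*} [Group P] [Finite P] {p : ℕ} [Fact p.Prime]
    (hP : IsPGroup p P) (hodd : Odd (Nat.card P)) {α : MulAut P} (hα : α * α = 1) {g u : P}
    (hg : α g ∈ zpowers g) (hu : u ∈ zpowers g) (hu1 : u ≠ 1) (h2 : α u = u⁻¹) : α g = g⁻¹ := by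
  have h0 : α (α g) = g := DFunLike.congr_fun hα g
  have hc : g * α g = α g * g := by
    obtain ⟨k, hk⟩ := hg
    rw [← hk]
    exact (Commute.self_zpow g k).eq
  rcases eq_one_or_of_cyclic hP hodd (mul_mem (mem_zpowers g) hg) hu
    (by rw [map_mul, h0, hc]) h2 with h | h
  · exact eq_inv_of_mul_eq_one_right h
  · exact absurd h hu1

theorem apply_gen_eq {P : Type*} [Group P] [Finite P] {p : ℕ} [Fact p.Prime]
    (hP : IsPGroup p P) (hodd : Odd (Nat.card P)) {α : MulAut P} (hα : α * α = 1) {g u : P}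
    (hg : α g ∈ zpowers g) (hu : u ∈ zpowers g) (hu1 : u ≠ 1) (h2 : α u = u) : α g = g := by
  have h0 : α (α g) = g := DFunLike.congr_fun hα g
  rcases eq_one_or_of_cyclic hP hodd hu (mul_mem (mem_zpowers g) (inv_mem hg)) h2
    (by rw [map_mul, map_inv, h0, mul_inv_rev, inv_inv]) with h | h
  · exact absurd h hu1
  · exact (mul_inv_eq_one.1 h).symm

theorem eq_one_or_eq_of_mem_zpowers {G : Type*} [Group G] {a x : G} (ha : a * a = 1)
    (hx : x ∈ zpowers a) : x = 1 ∨ x = a := by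
  obtain ⟨m, rfl⟩ := hx
  rcases Int.even_or_odd' m with ⟨r, rfl | rfl⟩
  · left
    simp only
    rw [zpow_mul, zpow_two, ha, one_zpow]
  · right
    simp only
    rw [zpow_add, zpow_mul, zpow_two, ha, one_zpow, one_mul, zpow_one]

end H76
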