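import Mathlib
import Cfsg.Agent.Base
import Cfsg.Agent.Lib.FGS.HHFpf
import Cfsg.Agent.Lib.Core.CoprimeNorm
import Cfsg.Agent.Lib.Core.Fitting
import Cfsg.Agent.Lib.PGroup.Frattini

/-! Automorphisms of a finite abelian group whose commutator subgroup has order `(P - 1) ^ 2` and
which act semiregularly with order `P` on it. -/

set_option autoImplicit false

namespace H76

open Subgroup
open scoped commutatorElement

variable {S : Type*} [CommGroup S]

/-- The map `s ↦ s⁻¹ * b s`. -/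
def dHom (b : MulAut S) : S →* S where
  toFun s := s⁻¹ * b s
  map_one' := by simp
  map_mul' s t := by
    rw [map_mul, mul_inv, mul_mul_mul_comm]

theorem dHom_apply (b : MulAut S) (s : S) : dHom b s = s⁻¹ * b s := rfl

theorem apply_eq_mul_dHom (b : MulAut S) (s : S) : b s = s * dHom b s := by
  rw [dHom_apply, mul_inv_cancel_left]

theorem dHom_eq_one {b : MulAut S} {s : S} : dHom b s = 1 ↔ b s = s := by
  rw [dHom_apply, inv_mul_eq_one, eq_comm]

/-- The commutator subgroup `[S, b]`. -/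
def cU (b : MulAut S) : Subgroup S := (dHom b).range

theorem dHom_mem_cU (b : MulAut S) (s : S) : dHom b s ∈ cU b := ⟨s, rfl⟩

theorem apply_mem_cU_of_commute {b c : MulAut S} (h : c * b = b * c) {u : S} (hu : u ∈ cU b) :
    c u ∈ cU b := by
  obtain ⟨s, rfl⟩ := hu
  refine ⟨c s, ?_⟩
  rw [dHom_apply, dHom_apply, map_mul, map_inv]
  exact congrArg _ (MulEquiv.congr_fun h s).symm

theorem apply_mem_of_cU_le {b : MulAut S} {U : Subgroup S} (h : cU b ≤ U) {u : S} (hu : u ∈ U) :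
    b u ∈ U := by
  rw [apply_eq_mul_dHom]
  exact mul_mem hu (h (dHom_mem_cU b u))

theorem mem_cU_conj {b c : MulAut S} {u : S} : u ∈ cU (c * b * c⁻¹) ↔ c⁻¹ u ∈ cU b := by
  constructor
  · rintro ⟨s, rfl⟩
    exact ⟨c⁻¹ s, by simp [dHom_apply]⟩
  · rintro ⟨s, hs⟩
    refine ⟨c s, ?_⟩
    have := congrArg c hs
    simpa [dHom_apply] using this

theorem cU_conj (b c : MulAut S) : cU (c * b * c⁻¹) = (cU b).map c.toMonoidHom := by
  ext u
  rw [mem_cU_conj]
  constructor
  · intro h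
    exact ⟨_, h, by simp⟩
  · rintro ⟨s, hs, rfl⟩
    simpa using hs

/-- The automorphisms with commutator subgroup inside `U`. -/
def cULe (U : Subgroup S) : Subgroup (MulAut S) where
  carrier := {c | cU c ≤ U}
  one_mem' := by
    rintro _ ⟨s, rfl⟩
    simp [dHom_apply]
  mul_mem' := by
    rintro a b ha hb _ ⟨s, rfl⟩
    have : dHom (a * b) s = dHom b s * dHom a (b s) := by simp [dHom_apply]
    rw [this]
    exact mul_mem (hb (dHom_mem_cU _ _)) (ha (dHom_mem_cU _ _))
  inv_mem' := by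
    rintro a ha _ ⟨s, rfl⟩
    have : dHom a⁻¹ s = (dHom a (a⁻¹ s))⁻¹ := by simp [dHom_apply, mul_comm]
    rw [this]
    exact inv_mem (ha (dHom_mem_cU _ _))

theorem mem_cULe {U : Subgroup S} {c : MulAut S} : c ∈ cULe U ↔ cU c ≤ U := Iff.rfl

theorem cU_pow_le (b : MulAut S) (j : ℕ) : cU (b ^ j) ≤ cU b :=
  pow_mem (mem_cULe.2 le_rfl) j

theorem pow_apply_of_fix {b : MulAut S} {s : S} (h : b s = s) (j : ℕ) : (b ^ j) s = s := by
  induction j with
  | zero => rfl
  | succ j ih => rw [pow_succ, MulAut.mul_apply, h, ih]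

theorem pow_apply_mem {b : MulAut S} {U : Subgroup S} (h : ∀ u ∈ U, b u ∈ U) (j : ℕ) {u : S}
    (hu : u ∈ U) : (b ^ j) u ∈ U := by
  induction j with
  | zero => exact hu
  | succ j ih => rw [pow_succ', MulAut.mul_apply]; exact h _ ih

variable [Finite S]

omit [Finite S] in
theorem apply_eq_of_coprime {c : MulAut S} {n : ℕ} (hn : n.Coprime (Nat.card S)) (hc : c ^ n = 1)
    {s : S} (h : c (dHom c s) = dHom c s) : c s = s :=
  H5.aut_apply_eq_of_coprime c h
    ((hn.coprime_dvd_left (orderOf_dvd_of_pow_eq_one hc)).coprime_dvd_right (orderOf_dvd_natCard _))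

omit [Finite S] in
theorem eq_one_of_mem_cU_of_fix {c : MulAut S} {n : ℕ} (hn : n.Coprime (Nat.card S))
    (hc : c ^ n = 1) {u : S} (hu : u ∈ cU c) (h : c u = u) : u = 1 := by
  obtain ⟨s, rfl⟩ := hu
  exact dHom_eq_one.2 (apply_eq_of_coprime hn hc h)

omit [Finite S] in
theorem eq_one_of_fix_cU {c : MulAut S} {n : ℕ} (hn : n.Coprime (Nat.card S)) (hc : c ^ n = 1)
    (h : ∀ u ∈ cU c, c u = u) : c = 1 :=
  MulEquiv.ext fun s => apply_eq_of_coprime hn hc (h _ (dHom_mem_cU c s))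

theorem exists_dHom_eq {c : MulAut S} {U : Subgroup S} (hU : ∀ u ∈ U, c u ∈ U)
    (h : ∀ u ∈ U, c u = u → u = 1) {u : S} (hu : u ∈ U) : ∃ w ∈ U, dHom c w = u := by
  let d : U → U := fun w => ⟨dHom c w, mul_mem (inv_mem w.2) (hU _ w.2)⟩
  have hd : Function.Injective d := by
    intro a b hab
    have h1 : dHom c (a * b⁻¹ : U) = 1 := by
      have : dHom c a = dHom c b := congrArg Subtype.val hab
      simp [this]
    have := h _ (a * b⁻¹).2 (dHom_eq_one.1 h1)
    exact mul_inv_eq_one.1 (Subtype.ext this)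
  obtain ⟨w, hw⟩ := Finite.surjective_of_injective hd ⟨u, hu⟩
  exact ⟨w, w.2, congrArg Subtype.val hw⟩

theorem exists_mul_fix {c : MulAut S} {n : ℕ} (hn : n.Coprime (Nat.card S)) (hc : c ^ n = 1)
    (s : S) : ∃ u ∈ cU c, ∃ w, c w = w ∧ s = u * w := by
  obtain ⟨u, hu, h⟩ := exists_dHom_eq (U := cU c) (fun u hu => apply_mem_of_cU_le le_rfl hu)
    (fun u hu => eq_one_of_mem_cU_of_fix hn hc hu) (dHom_mem_cU c s)
  refine ⟨u, hu, u⁻¹ * s, dHom_eq_one.1 ?_, by simp⟩
  rw [map_mul, map_inv, h, inv_mul_cancel]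

theorem dvd_card_sub_one_of_free {c : MulAut S} {U : Subgroup S} (hU : ∀ u ∈ U, c u ∈ U) {P : ℕ}
    (hP : 0 < P) (hc : c ^ P = 1)
    (h : ∀ j, 0 < j → j < P → ∀ u ∈ U, (c ^ j) u = u → u = 1) : P ∣ Nat.card U - 1 := by
  classical
  let _ := Fintype.ofFinite U
  let d : U → U := fun w => ⟨c w, hU _ w.2⟩
  have hd : Function.Injective d := fun a b hab =>
    Subtype.ext (c.injective (congrArg Subtype.val hab))
  let π : Equiv.Perm U := Equiv.ofBijective d hd.bijective_of_finite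
  have hπ : ∀ (j : ℕ) (w : U), ((π ^ j) w : S) = (c ^ j) w := by
    intro j w
    induction j with
    | zero => rfl
    | succ j ih => rw [pow_succ', pow_succ', Equiv.Perm.mul_apply, MulAut.mul_apply, ← ih]; rfl
  rw [Nat.card_eq_fintype_card]
  refine dvd_card_sub_one π 1 (Subtype.ext (map_one c)) hP ?_ fun j hj hjP x hx => ?_
  · ext w
    rw [hπ, hc]
    rfl
  · exact Subtype.ext (h j hj hjP x x.2 (by rw [← hπ, hx]))

/-- An automorphism of order `P` acting semiregularly on its commutator subgroup, which has order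
`(P - 1) ^ 2`. -/
structure Special (b : MulAut S) (P : ℕ) : Prop where
  three_le : 3 ≤ P
  card : Nat.card (cU b) = (P - 1) ^ 2
  pow : b ^ P = 1
  free : ∀ j, 0 < j → j < P → ∀ u ∈ cU b, (b ^ j) u = u → u = 1

namespace Special

variable {b b' : MulAut S} {P P' : ℕ}

omit [Finite S] in
theorem fix (h : Special b P) {u : S} (hu : u ∈ cU b) (h1 : b u = u) : u = 1 :=
  h.free 1 one_pos (by have := h.three_le; omega) u hu (by simpa using h1)

omit [Finite S] in
theorem ne_bot (h : Special b P) : cU b ≠ ⊥ := by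
  intro h1
  have h2 := h.card
  have h3 := h.three_le
  rw [h1, card_bot, eq_comm, pow_eq_one_iff] at h2
  omega

omit [Finite S] in
theorem pow_ne_one (h : Special b P) {j : ℕ} (hj : 0 < j) (hjP : j < P) : b ^ j ≠ 1 := fun h1 =>
  h.ne_bot (eq_bot_iff.2 fun u hu => h.free j hj hjP u hu (by rw [h1]; rfl))

omit [Finite S] in
theorem conj (h : Special b P) (c : MulAut S) : Special (c * b * c⁻¹) P where
  three_le := h.three_le
  card := by rw [cU_conj, card_map_of_injective c.injective, h.card]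
  pow := by rw [conj_pow, h.pow, mul_one, mul_inv_cancel]
  free j hj hjP u hu h1 := by
    rw [mem_cU_conj] at hu
    rw [conj_pow] at h1
    have := h.free j hj hjP _ hu (c.injective (by simpa using h1))
    simpa using congrArg c this

theorem cU_pow (h : Special b P) {j : ℕ} (hj : 0 < j) (hjP : j < P) : cU (b ^ j) = cU b := by
  refine le_antisymm (cU_pow_le b j) fun u hu => ?_
  obtain ⟨w, -, hw⟩ := exists_dHom_eq (c := b ^ j) (U := cU b)
    (fun u hu => apply_mem_of_cU_le (cU_pow_le b j) hu) (h.free j hj hjP) hu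
  exact ⟨w, hw⟩

theorem irreducible (h : Special b P) {U : Subgroup S} (hU : U ≤ cU b) (hb : ∀ u ∈ U, b u ∈ U) :
    U = ⊥ ∨ U = cU b := by
  have h3 := h.three_le
  have h1 := dvd_card_sub_one_of_free hb (by omega) h.pow fun j hj hjP u hu =>
    h.free j hj hjP u (hU hu)
  obtain ⟨c, hc⟩ := card_dvd_of_le hU
  obtain ⟨k, hk⟩ := h1
  have ha : 0 < Nat.card U := Nat.card_pos
  rcases k with _ | k
  · exact Or.inl (card_eq_one.1 (by omega))
  right
  refine eq_of_le_of_card_ge hU ?_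
  obtain ⟨P, rfl⟩ : ∃ n, P = n + 1 := ⟨P - 1, by omega⟩
  have ha' : Nat.card U = (P + 1) * (k + 1) + 1 := by omega
  rw [h.card, Nat.add_sub_cancel] at hc
  have h4 : P + 1 ∣ c + P := by
    have h5 : (P + 1) * (k + 1) * c + (c + P) = (P + 1) * P := by
      rw [← add_assoc, ← add_one_mul, ← ha', ← hc]; ring
    exact (Nat.dvd_add_right (Dvd.intro _ (mul_assoc _ _ _).symm)).1 (h5 ▸ Dvd.intro _ rfl)
  obtain ⟨l, hl⟩ := h4
  rcases l with _ | _ | l
  · omega
  · rw [h.card, Nat.add_sub_cancel, hc, show c = 1 by omega, mul_one]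
  · exfalso
    have h6 : P + 2 ≤ c := by nlinarith
    have h7 : P + 2 ≤ Nat.card U := by nlinarith
    nlinarith

/-- If `b'` normalizes `[S, b]`, then it centralizes it or `[S, b'] ≤ [S, b]`. -/
theorem le_or_fix (h' : Special b' P') {U : Subgroup S} (hn : ∀ u ∈ U, b' u ∈ U) :
    cU b' ≤ U ∨ ∀ u ∈ U, b' u = u := by
  rcases h'.irreducible (U := U ⊓ cU b') inf_le_right (fun u hu =>
    ⟨hn u hu.1, apply_mem_of_cU_le le_rfl hu.2⟩) with h1 | h1
  · right
    intro u hu
    rw [← dHom_eq_one, ← mem_bot, ← h1]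
    exact mem_inf.2 ⟨mul_mem (inv_mem hu) (hn u hu), dHom_mem_cU _ _⟩
  · exact Or.inl (inf_eq_right.1 h1)

end Special

theorem commute_of_fix_cU {p : ℕ} (hS : p.Coprime (Nat.card S)) {A : Subgroup (MulAut S)}
    (hA : IsPGroup p A) {b b' : MulAut S} (hb : b ∈ A) (hb' : b' ∈ A)
    (h : ∀ u ∈ cU b, b' u = u) : b' * b = b * b' := by
  have hc : b' * b * b'⁻¹ * b⁻¹ ∈ A := mul_mem (mul_mem (mul_mem hb' hb) (inv_mem hb')) (inv_mem hb)
  obtain ⟨k, hk⟩ := hA ⟨_, hc⟩
  have h0 : ∀ u ∈ cU b, b'⁻¹ u = u := fun u hu => by rw [← h u hu, MulAut.inv_apply_self, h u hu]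
  have h1 : cU (b' * b * b'⁻¹ * b⁻¹) ≤ cU b := by
    refine mul_mem (mem_cULe.2 fun u hu => ?_) (inv_mem (mem_cULe.2 le_rfl))
    rw [mem_cU_conj] at hu
    rw [← MulAut.apply_inv_self _ b' u, h _ hu]
    exact hu
  have h2 := eq_one_of_fix_cU (hS.pow_left k) (congrArg Subtype.val hk) fun u hu => by
    have h3 : b⁻¹ u ∈ cU b := apply_mem_of_cU_le (inv_mem (mem_cULe.2 le_rfl)) (h1 hu)
    simp only [MulAut.mul_apply]
    rw [h0 _ h3, MulAut.apply_inv_self, h u (h1 hu)]
  rwa [mul_inv_eq_one, mul_inv_eq_iff_eq_mul] at h2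

theorem Special.apply_mem {p : ℕ} [hp : Fact p.Prime] (n : ℕ) :
    ∀ A : Subgroup (MulAut S), Nat.card A ≤ n → IsPGroup p A → ∀ {b b' : MulAut S} {P P' : ℕ},
      b ∈ A → b' ∈ A → Special b P → Special b' P' → P' ≤ P → ∀ u ∈ cU b, b' u ∈ cU b := by
  induction n with
  | zero => intro A h; exact absurd h (by simpa using Nat.card_pos.ne')
  | succ n ih =>
    intro A hA hAp b b' P P' hb hb' h h' hP
    by_cases hz : b' ∈ zpowers b
    · obtain ⟨k, rfl⟩ := hz
      exact fun u hu => apply_mem_cU_of_commute (Commute.zpow_self b k).eq hu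
    obtain ⟨M, hM, hbM⟩ := (eq_top_or_exists_le_coatom (zpowers (⟨b, hb⟩ : A))).resolve_left
      fun h1 => hz (by
        obtain ⟨k, hk⟩ : (⟨b', hb'⟩ : A) ∈ zpowers (⟨b, hb⟩ : A) := h1 ▸ mem_top _
        exact ⟨k, congrArg Subtype.val hk⟩)
    have := hAp.isNilpotent
    have hMn := H1.normal_of_isCoatom_of_isNilpotent hM
    have hMc : Nat.card (M.map A.subtype) ≤ n := by
      rw [card_map_of_injective A.subtype_injective]
      have := H1.card_lt_of_ne_top hM.1
      omega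
    have hMp : IsPGroup p (M.map A.subtype) := (hAp.to_subgroup M).map _
    have hb0 : b ∈ M.map A.subtype := ⟨_, hbM (mem_zpowers _), rfl⟩
    have hb1 : b' * b * b'⁻¹ ∈ M.map A.subtype :=
      ⟨_, hMn.conj_mem _ (hbM (mem_zpowers _)) ⟨b', hb'⟩, rfl⟩
    have h1 := h.conj b'
    have hcase : cU (b' * b * b'⁻¹) ≤ cU b ∨ ((∀ u ∈ cU b, (b' * b * b'⁻¹) u = u) ∧
        ∀ u ∈ cU (b' * b * b'⁻¹), b u = u) := by
      rcases h1.le_or_fix (ih _ hMc hMp hb0 hb1 h h1 le_rfl) with h2 | h2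
      · exact Or.inl h2
      rcases h.le_or_fix (ih _ hMc hMp hb1 hb0 h1 h le_rfl) with h3 | h3
      · exact Or.inl (eq_of_le_of_card_ge h3 (by rw [h.card, h1.card])).ge
      · exact Or.inr ⟨h2, h3⟩
    have hm : ∀ u ∈ cU b, b' u ∈ cU (b' * b * b'⁻¹) := fun u hu => by
      rwa [mem_cU_conj, MulAut.inv_apply_self]
    rcases hcase with h2 | ⟨h2, h3⟩
    · exact fun u hu => h2 (hm u hu)
    exfalso
    have hd : ∀ u ∈ cU b, u ∈ cU (b' * b * b'⁻¹) → u = 1 := fun u hu hu' => h.fix hu (h3 u hu')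
    have hsurj : ∀ y ∈ cU b', ∃ u ∈ cU b, dHom b' u = y := by
      let d : cU b → cU b' := fun u => ⟨dHom b' u, dHom_mem_cU _ _⟩
      have hdi : Function.Injective d := by
        intro x y hxy
        have h4 : dHom b' (x * y⁻¹ : cU b) = 1 := by
          have : dHom b' x = dHom b' y := congrArg Subtype.val hxy
          simp [this]
        have h5 := hm _ (x * y⁻¹).2
        rw [dHom_eq_one.1 h4] at h5
        exact mul_inv_eq_one.1 (Subtype.ext (hd _ (x * y⁻¹).2 h5))
      have hbij := hdi.bijective_of_nat_card_le (by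
        rw [h.card, h'.card]
        exact Nat.pow_le_pow_left (by omega) 2)
      intro y hy
      obtain ⟨u, hu⟩ := hbij.2 ⟨y, hy⟩
      exact ⟨u, u.2, congrArg Subtype.val hu⟩
    have hsq : ∀ u ∈ cU b, b' (b' u) = u := by
      intro u hu
      obtain ⟨w, hw, hw'⟩ := hsurj _ (apply_mem_of_cU_le le_rfl (dHom_mem_cU b' u))
      rw [dHom_apply, dHom_apply, map_mul, map_inv] at hw'
      have h4 : b' (b' u) = w⁻¹ * b' (w * u) := by
        rw [map_mul, ← mul_assoc, hw', mul_comm, mul_inv_cancel_left]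
      have h5 : (b' * b * b'⁻¹) (b' (b' u)) = b' (b' u) := by
        simp only [MulAut.mul_apply, MulAut.inv_apply_self]
        rw [h3 _ (hm u hu)]
      rw [h4, map_mul, h2 _ (inv_mem hw), mul_right_inj] at h5
      have h6 := h1.fix (hm _ (mul_mem hw hu)) h5
      rw [h4, h6, mul_one]
      rw [map_eq_one_iff _ b'.injective] at h6
      exact (eq_inv_of_mul_eq_one_right h6).symm
    have h7 := h'.three_le
    refine h'.ne_bot (eq_bot_iff.2 fun y hy => h'.free 2 two_pos (by omega) y hy ?_)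
    obtain ⟨u, hu, rfl⟩ := hsurj y hy
    simp only [sq, MulAut.mul_apply, dHom_apply, map_mul, map_inv, hsq u hu]

theorem mem_zpowers_of_isCyclic {C : Type*} [Group C] [Finite C] [IsCyclic C] {p : ℕ}
    (hp : 0 < p) {z t : C} (hz : orderOf z = p) (ht : t ^ p = 1) : t ∈ zpowers z := by
  classical
  let _ := Fintype.ofFinite C
  have h1 := IsCyclic.card_pow_eq_one_le (α := C) hp
  have h2 : (zpowers z : Set C).toFinset = Finset.univ.filter fun a : C => a ^ p = 1 := by
    refine Finset.eq_of_subset_of_card_le ?_ ?_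
    · intro a ha
      obtain ⟨k, rfl⟩ : a ∈ zpowers z := by simpa using ha
      simp only [Finset.mem_filter, Finset.mem_univ, true_and]
      rw [← zpow_natCast, ← zpow_mul, mul_comm, zpow_mul, zpow_natCast, ← hz, pow_orderOf_eq_one,
        one_zpow]
    · rw [Set.toFinset_card, ← Nat.card_eq_fintype_card]
      exact h1.trans (hz ▸ (Nat.card_zpowers z).ge)
  have : t ∈ (zpowers z : Set C).toFinset := by rw [h2]; simpa using ht
  simpa using this

namespace Special

variable {b b' : MulAut S} {P P' p : ℕ} [hp : Fact p.Prime] {A : Subgroup (MulAut S)}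

theorem mem_zpowers (h : Special b P) (hS : p.Coprime (Nat.card S)) (hA : IsPGroup p A)
    (hb : b ∈ A) {z : MulAut S} (hzA : z ∈ A) (hz : orderOf z = p) (hzb : z * b = b * z)
    (hzU : cU z ≤ cU b) {t : MulAut S} (ht : t ∈ zpowers b) (htp : t ^ p = 1) :
    t ∈ zpowers z := by
  let C : Subgroup (MulAut S) := closure {z, b}
  have hC : IsMulCommutative C := isMulCommutative_closure (by
    rintro x (rfl | rfl) y (rfl | rfl)
    exacts [rfl, hzb, hzb.symm, rfl])
  have hzC : z ∈ C := subset_closure (by simp)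
  have hbC : b ∈ C := subset_closure (by simp)
  have hCA : C ≤ A := (closure_le _).2 (by rintro x (rfl | rfl) <;> assumption)
  have hCU : C ≤ cULe (cU b) := (closure_le _).2 (by
    rintro x (rfl | rfl)
    exacts [hzU, mem_cULe.2 le_rfl])
  have : Nontrivial (cU b) := (nontrivial_iff_ne_bot _).2 h.ne_bot
  have hcyc : IsCyclic C := H2.isCyclic_of_fpf_of_comm (H2.subAut C.subtype (cU b)
    fun a x hx => apply_mem_of_cU_le (hCU a.2) hx) fun a ha v hv => by
      by_contra hv1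
      have hv' : (a : MulAut S) v = v := congrArg Subtype.val hv
      have hab : (a : MulAut S) * b = b * a :=
        congrArg Subtype.val (hC.is_comm.comm a ⟨b, hbC⟩)
      rcases h.irreducible (U := cU b ⊓ (dHom (a : MulAut S)).ker) inf_le_left (fun u hu =>
        mem_inf.2 ⟨apply_mem_of_cU_le le_rfl hu.1, dHom_eq_one.2 (by
          rw [← MulAut.mul_apply, hab, MulAut.mul_apply, dHom_eq_one.1 hu.2])⟩) with h1 | h1
      · exact hv1 (Subtype.ext (mem_bot.1 (h1 ▸ mem_inf.2 ⟨v.2, dHom_eq_one.2 hv'⟩)))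
      · obtain ⟨k, hk⟩ := hA ⟨a, hCA a.2⟩
        refine ha (Subtype.ext (eq_one_of_fix_cU (hS.pow_left k) (congrArg Subtype.val hk)
          fun u hu => dHom_eq_one.1 ?_))
        exact (inf_eq_left.1 h1) (hCU a.2 hu)
  obtain ⟨k, hk⟩ := mem_zpowers_of_isCyclic hp.out.pos (z := (⟨z, hzC⟩ : C))
    (t := ⟨t, (zpowers_le.2 hbC) ht⟩) (by simpa using hz) (Subtype.ext htp)
  exact ⟨k, congrArg Subtype.val hk⟩

theorem exists_central (h : Special b P) (hA : IsPGroup p A) (hb : b ∈ A) (hb' : b' ∈ A)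
    (hU : cU b' ≤ cU b) :
    ∃ z ∈ A, orderOf z = p ∧ z * b = b * z ∧ z * b' = b' * z ∧ cU z ≤ cU b := by
  let C : Subgroup (MulAut S) := closure {b, b'}
  have hbC : b ∈ C := subset_closure (by simp)
  have hbC' : b' ∈ C := subset_closure (by simp)
  have hCA : C ≤ A := (closure_le _).2 (by rintro x (rfl | rfl) <;> assumption)
  have hCU : C ≤ cULe (cU b) := (closure_le _).2 (by
    rintro x (rfl | rfl)
    exacts [mem_cULe.2 le_rfl, hU])
  have hb1 : b ≠ 1 := by simpa using h.pow_ne_one one_pos (by have := h.three_le; omega)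
  have : Nontrivial C := ⟨⟨b, hbC⟩, 1, fun h1 => hb1 (congrArg Subtype.val h1)⟩
  have hC := hA.to_le hCA
  have := hC.center_nontrivial
  obtain ⟨n, hn0, hn⟩ := (hC.to_subgroup (center C)).nontrivial_iff_card.1 this
  obtain ⟨z, hz, hzp⟩ := H1.exists_mem_orderOf_eq_prime (H := center C) hp.out
    (hn ▸ dvd_pow_self p hn0.ne')
  exact ⟨z, hCA z.2, by simpa using hzp,
    (congrArg Subtype.val (mem_center_iff.1 hz ⟨b, hbC⟩)).symm,
    (congrArg Subtype.val (mem_center_iff.1 hz ⟨b', hbC'⟩)).symm, hCU z.2⟩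

theorem pow_commute_of_le {k : ℕ} (h : Special b (p ^ (k + 1))) (h' : Special b' P')
    (hS : p.Coprime (Nat.card S)) (hA : IsPGroup p A) (hb : b ∈ A) (hb' : b' ∈ A)
    (hP : P' ≤ p ^ (k + 1)) : Commute (b ^ p ^ k) b' := by
  rcases h'.le_or_fix (Special.apply_mem _ A le_rfl hA hb hb' h h' hP) with h1 | h1
  · obtain ⟨z, hz, h2, h3, h4, h5⟩ := h.exists_central hA hb hb' h1
    obtain ⟨j, hj⟩ := h.mem_zpowers hS hA hb hz h2 h3 h5 (npow_mem_zpowers b (p ^ k))
      (by rw [← pow_mul, ← pow_succ, h.pow])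
    rw [← hj]
    exact Commute.zpow_left h4 j
  · exact Commute.pow_left (commute_of_fix_cU hS hA hb hb' h1).symm _

theorem pow_commute {k k' : ℕ} (h : Special b (p ^ (k + 1))) (h' : Special b' (p ^ (k' + 1)))
    (hS : p.Coprime (Nat.card S)) (hA : IsPGroup p A) (hb : b ∈ A) (hb' : b' ∈ A) :
    Commute (b ^ p ^ k) (b' ^ p ^ k') := by
  rcases le_total (p ^ (k' + 1)) (p ^ (k + 1)) with h1 | h1
  · exact (h.pow_commute_of_le h' hS hA hb hb' h1).pow_right _
  · exact ((h'.pow_commute_of_le h hS hA hb' hb h1).pow_right _).symm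

theorem pow_eq_or_commute {k : ℕ} (h : Special b (2 ^ (k + 1))) (h' : Special b' (2 ^ (k + 1)))
    (hS : (2 : ℕ).Coprime (Nat.card S)) (hA : IsPGroup 2 A) (hb : b ∈ A) (hb' : b' ∈ A) :
    b' ^ 2 ^ k = b ^ 2 ^ k ∨ Commute b' b := by
  refine (h'.le_or_fix (Special.apply_mem _ A le_rfl hA hb hb' h h' le_rfl)).imp (fun h1 => ?_)
    (commute_of_fix_cU hS hA hb hb')
  obtain ⟨z, hz, h2, h3, h4, h5⟩ := h.exists_central hA hb hb' h1
  have h6 : cU b' = cU b := eq_of_le_of_card_ge h1 (by rw [h.card, h'.card])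
  have key : ∀ c : MulAut S, Special c (2 ^ (k + 1)) → c ^ 2 ^ k ∈ zpowers z → c ^ 2 ^ k = z := by
    intro c hc hcz
    have h7 := hc.pow_ne_one (j := 2 ^ k) (by positivity)
      (Nat.pow_lt_pow_right one_lt_two k.lt_succ_self)
    obtain ⟨j, hj⟩ := mem_powers_iff_mem_zpowers.2 hcz
    simp only at hj
    rw [← pow_mod_orderOf, h2] at hj
    rcases Nat.mod_two_eq_zero_or_one j with h8 | h8
    · rw [h8, pow_zero] at hj
      exact absurd hj.symm h7
    · rw [← hj, h8, pow_one]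
  rw [key b h (h.mem_zpowers hS hA hb hz h2 h3 h5 (npow_mem_zpowers b _)
      (by rw [← pow_mul, ← pow_succ, h.pow])),
    key b' h' (h'.mem_zpowers hS hA hb' hz h2 h4 (h6 ▸ h5) (npow_mem_zpowers b' _)
      (by rw [← pow_mul, ← pow_succ, h'.pow]))]

theorem commutator_mem_frattini {k : ℕ} (h : Special b (2 ^ (k + 1)))
    (hS : (2 : ℕ).Coprime (Nat.card S)) (hA : IsPGroup 2 A) (hb : b ∈ A)
    {M : Subgroup (MulAut S)} (hM : M ≤ A) (hbM : b ∈ normalizer (M : Set (MulAut S)))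
    {m : MulAut S} (hm : m ∈ M) : ⁅m, b ^ 2 ^ k⁆ ∈ (frattini M).map M.subtype := by
  rcases h.pow_eq_or_commute (h.conj m) hS hA hb
    (mul_mem (mul_mem (hM hm) hb) (inv_mem (hM hm))) with h1 | h1
  · rw [commutatorElement_def, ← conj_pow, h1, mul_inv_cancel]
    exact one_mem _
  · obtain ⟨k, rfl⟩ : ∃ l, k = l + 1 := ⟨k - 1, by
      have := h.three_le
      rcases k with _ | k
      · omega
      · rfl⟩
    have h2 : ⁅m, b⁆ ∈ M := by
      rw [commutatorElement_def, mul_assoc, mul_assoc, ← mul_assoc b]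
      exact mul_mem hm ((mem_normalizer_iff.1 hbM _).1 (inv_mem hm))
    rw [commutatorElement_def, ← conj_pow, ← inv_pow, ← h1.inv_right.mul_pow, pow_succ, pow_mul]
    exact H5.pow_mem_map_frattini (hA.to_le hM) (pow_mem h2 _)

theorem apply_pow_half {k : ℕ} (h : Special b (2 ^ (k + 1))) {u : S} (hu : u ∈ cU b) :
    (b ^ 2 ^ k) u = u⁻¹ := by
  have h1 : (b ^ 2 ^ k) ((b ^ 2 ^ k) u) = u := by
    rw [← MulAut.mul_apply, ← pow_add, ← mul_two, ← pow_succ, h.pow, MulAut.one_apply]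
  have := h.free (2 ^ k) (by positivity)
      (Nat.pow_lt_pow_right one_lt_two k.lt_succ_self) (u * (b ^ 2 ^ k) u)
    (mul_mem hu (apply_mem_of_cU_le (cU_pow_le b _) hu)) (by rw [map_mul, h1, mul_comm])
  exact eq_inv_of_mul_eq_one_right this

end Special

end H76
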