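import Mathlib
import Cfsg.Agent.Base
import Cfsg.Agent.Lib.FGS.Special
import Cfsg.Agent.Lib.FGS.HallHigman

/-! The homogeneous case of Theorem B of Hall and Higman on a whole weight space. -/

set_option autoImplicit false

namespace H76

open Polynomial Module
open scoped commutatorElement

section Ring

variable {F : Type*} [Field F] {Q : Type*} [Group Q] {R : Type*} [Ring R] [Algebra F R]

/-- Quasi-central elements act as scalars. -/
def Homog (F : Type*) [Field F] [Algebra F R] (ρ : Q →* R) : Prop :=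
  ∀ g, (∀ k, ρ k * ρ g = ρ g * ρ k) → ∃ c : F, ρ g = c • (1 : R)

theorem map_commutatorElement_eq_one_iff (ρ : Q →* R) {a b : Q} :
    ρ ⁅a, b⁆ = 1 ↔ ρ a * ρ b = ρ b * ρ a := by
  have h : ρ a * ρ b = ρ ⁅a, b⁆ * (ρ b * ρ a) := by
    rw [← map_mul, ← map_mul, ← map_mul, commutatorElement_def]
    congr 1
    group
  constructor
  · intro h1
    rw [h, h1, one_mul]
  · intro h1
    rw [commutatorElement_def, map_mul, map_mul, map_mul, h1, mul_assoc (ρ b), ← map_mul,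
      mul_inv_cancel, map_one, mul_one, ← map_mul, mul_inv_cancel, map_one]

theorem isUnit_rep (ρ : Q →* R) (g : Q) : IsUnit (ρ g) := (Group.isUnit g).map ρ

instance quasiCenter_normal' (ρ : Q →* R) : (quasiCenter ρ).Normal := quasiCenter_normal ρ

theorem Homog.conjSum [Fintype Q] {ρ : Q →* R} (hH : Homog F ρ) (hcl : ∀ a b c : Q, ⁅a, b⁆ * c = c * ⁅a, b⁆)
    (g : Q) : ∃ c : F, conjSum F ρ (ρ g) = c • (1 : R) := by
  by_cases hg : g ∈ quasiCenter ρ
  · obtain ⟨c, hc⟩ := hH g hg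
    exact ⟨_, by rw [conjSum_of_comm ρ hg, hc, smul_smul]⟩
  refine ⟨0, ?_⟩
  obtain ⟨k, hk⟩ : ∃ k, ρ k * ρ g ≠ ρ g * ρ k := by
    by_contra h; push Not at h; exact hg h
  obtain ⟨c, hc⟩ := hH _ (commutator_mem_quasiCenter ρ hcl k g)
  have h1 : ρ k * ρ g * ρ k⁻¹ = c • ρ g := by
    have : k * g * k⁻¹ = ⁅k, g⁆ * g := by rw [commutatorElement_def]; group
    rw [← map_mul, ← map_mul, this, map_mul, hc, smul_mul_assoc, one_mul]
  have hc1 : c ≠ 1 := by
    rintro rfl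
    exact hk ((map_commutatorElement_eq_one_iff ρ).1 (by rw [hc, one_smul]))
  have h2 := conjSum_conj (F := F) ρ k (ρ g)
  rw [h1, map_smul] at h2
  have h3 : (c - 1) • H76.conjSum F ρ (ρ g) = 0 := by rw [sub_smul, one_smul, h2, sub_self]
  rw [zero_smul]
  exact (smul_eq_zero.1 h3).resolve_left (sub_ne_zero.2 hc1)

theorem Homog.comm_of_fix {ρ : Q →* R} (hH : Homog F ρ)
    (hcl : ∀ a b c : Q, ⁅a, b⁆ * c = c * ⁅a, b⁆) (τ : MulAut Q) {u : R} (hu1 : IsUnit u)
    (hu : ∀ g, u * ρ g = ρ (τ g) * u) {c : Q} (hc : c⁻¹ * τ c ∈ quasiCenter ρ) (s : Q) :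
    ρ (s⁻¹ * τ s) * ρ c = ρ c * ρ (s⁻¹ * τ s) := by
  obtain ⟨μ, hμ⟩ := hH _ (commutator_mem_quasiCenter ρ hcl s c)
  have h1 : ρ ⁅τ s, τ c⁆ = ρ ⁅s, c⁆ := by
    apply hu1.mul_left_inj.1
    rw [← map_commutatorElement, ← hu, hμ]
    simp
  have h2 : ρ ⁅τ s, τ c⁆ = ρ ⁅τ s, c⁆ := by
    have : ⁅τ s, τ c⁆ = ⁅τ s, c⁆ * (c * ⁅τ s, c⁻¹ * τ c⁆ * c⁻¹) := by
      simp only [commutatorElement_def]; group
    rw [this, map_mul, map_mul, map_mul, (map_commutatorElement_eq_one_iff ρ).2 (hc _), mul_one,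
      ← map_mul ρ c, mul_inv_cancel, map_one, mul_one]
  rw [← map_commutatorElement_eq_one_iff]
  have h3 : ⁅s⁻¹ * τ s, c⁆ = s⁻¹ * (⁅τ s, c⁆ * ⁅s, c⁆⁻¹) * s := by
    simp only [commutatorElement_def]; group
  rw [h3, map_mul, map_mul, map_mul, ← h2, h1, ← map_mul ρ ⁅s, c⁆, mul_inv_cancel, map_one,
    mul_one, ← map_mul, inv_mul_cancel, map_one]

theorem exists_finrank_commutant_le' [Fintype Q] [FiniteDimensional F R] (ρ : Q →* R)
    (hQ : (Fintype.card Q : F) ≠ 0) (hcl : ∀ a b c : Q, ⁅a, b⁆ * c = c * ⁅a, b⁆)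
    (hH : Homog F ρ) (τ : MulAut Q) {u : R} (hu1 : IsUnit u)
    (hu : ∀ g, u * ρ g = ρ (τ g) * u) (P : ℕ)
    (hfree : ∀ j, 0 < j → j < P → ∀ g, g⁻¹ * (τ ^ j) g ∈ quasiCenter ρ → g ∈ quasiCenter ρ) :
    ∃ t : ℕ, P * t + 1 ≤ (quasiCenter ρ).index ∧ (t = 0 → quasiCenter ρ = ⊤) ∧
      finrank F (commutant F u) ≤ finrank F (repCommutant F ρ ⊓ commutant F u : Submodule F R) +
        t * finrank F (repCommutant F ρ) := by
  classical
  have hω := hH.conjSum hcl
  set Z := quasiCenter ρ with hZ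
  have hτ : ∀ g ∈ Z, τ g ∈ Z := fun g hg => apply_mem_quasiCenter ρ τ hu1 hu hg
  let π0 : Q ⧸ Z →* Q ⧸ Z := QuotientGroup.map Z Z τ.toMonoidHom hτ
  have hsurj : Function.Surjective π0 := by
    intro x
    obtain ⟨x, rfl⟩ := QuotientGroup.mk_surjective x
    obtain ⟨x, rfl⟩ := τ.surjective x
    exact ⟨x, rfl⟩
  let π : Equiv.Perm (Q ⧸ Z) := Equiv.ofBijective π0 hsurj.bijective_of_finite
  have hπ : ∀ (j : ℕ) (g : Q), (π ^ j) (g : Q ⧸ Z) = (((τ ^ j) g : Q) : Q ⧸ Z) := by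
    intro j g
    induction j with
    | zero => rfl
    | succ j ih => rw [pow_succ', Equiv.Perm.mul_apply, ih, pow_succ']; rfl
  obtain ⟨T, hT1, hT2⟩ := exists_orbit_reps π 1 (map_one π0) P (by
    intro j hj hjP x hx
    obtain ⟨x, rfl⟩ := QuotientGroup.mk_surjective x
    rw [hπ, eq_comm, QuotientGroup.eq] at hx
    exact (QuotientGroup.eq_one_iff _).2 (hfree j hj hjP x hx))
  refine ⟨T.card, by rwa [Subgroup.index, Nat.card_eq_fintype_card], ?_, ?_⟩
  · intro h0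
    rw [eq_top_iff]
    intro g _
    by_contra hg
    obtain ⟨t, ht, -⟩ := hT2 g (by rwa [Ne, QuotientGroup.eq_one_iff])
    rw [Finset.card_eq_zero.1 h0] at ht
    simp at ht
  have hmem1 : ∀ a : commutant F u, conjSum F ρ a ∈ repCommutant F ρ ⊓ commutant F u := fun a =>
    ⟨fun g => mul_conjSum ρ g a,
      mem_commutant.2 (conjSum_intertwine ρ τ hu (mem_commutant.1 a.2))⟩
  let L1 : commutant F u →ₗ[F] (repCommutant F ρ ⊓ commutant F u : Submodule F R) :=
    LinearMap.codRestrict _ (conjSum F ρ ∘ₗ (commutant F u).subtype) hmem1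
  let L2 : commutant F u →ₗ[F] (T → repCommutant F ρ) :=
    LinearMap.pi fun t => LinearMap.codRestrict _
      (conjSum F ρ ∘ₗ LinearMap.mulLeft F (ρ (t.1.out)⁻¹) ∘ₗ (commutant F u).subtype)
      (fun a g => mul_conjSum ρ g _)
  have hinj : Function.Injective (L1.prod L2) := by
    rw [injective_iff_map_eq_zero]
    intro a ha
    have ha1 : conjSum F ρ a = 0 := congrArg (fun x => (x.1 : R)) ha
    have ha2 : ∀ t ∈ T, conjSum F ρ (ρ (t.out)⁻¹ * a) = 0 := fun t ht =>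
      congrArg (fun x => (x.2 ⟨t, ht⟩ : R)) ha
    have hz : ∀ g z, z ∈ Z → conjSum F ρ (ρ g⁻¹ * a) = 0 → conjSum F ρ (ρ (g * z)⁻¹ * a) = 0 := by
      intro g z hz h
      obtain ⟨c, hc⟩ := hH _ (Z.inv_mem hz)
      rw [mul_inv_rev, map_mul ρ, hc, smul_mul_assoc, smul_mul_assoc, one_mul, map_smul, h,
        smul_zero]
    have hj : ∀ (j : ℕ) g, conjSum F ρ (ρ g⁻¹ * a) = 0 →
        conjSum F ρ (ρ ((τ ^ j) g)⁻¹ * a) = 0 := by
      intro j g h
      have h1 : u ^ j * (a : R) = a * u ^ j :=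
        (Commute.pow_left (mem_commutant.1 a.2 : Commute u a) j).eq
      have h2 := conjSum_intertwine (F := F) ρ (τ ^ j) (a := ρ g⁻¹ * a)
        (b := ρ ((τ ^ j) g)⁻¹ * a) (pow_mul_rep ρ τ hu j) (by
          rw [← mul_assoc, pow_mul_rep ρ τ hu j, map_inv, mul_assoc, h1, mul_assoc])
      rw [h, mul_zero] at h2
      exact (hu1.pow j).mul_left_eq_zero.1 h2.symm
    apply Subtype.ext
    apply eq_zero_of_forall_conjSum ρ hQ hcl hω
    intro g
    by_cases hg : g ∈ Z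
    · have := hz 1 g hg (by simpa using ha1)
      simpa using this
    · obtain ⟨t, ht, j, hj'⟩ := hT2 g (by rwa [Ne, QuotientGroup.eq_one_iff])
      rw [← QuotientGroup.out_eq' t, hπ, QuotientGroup.eq] at hj'
      have := hz _ _ hj' (hj j _ (ha2 t ht))
      rwa [mul_inv_cancel_left] at this
  have := LinearMap.finrank_le_finrank_of_injective hinj
  rwa [Module.finrank_prod, Module.finrank_pi_fintype,
    Finset.sum_const, Finset.card_univ, smul_eq_mul, Fintype.card_coe] at this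

end Ring

variable {F : Type*} [Field F] {E : Type*} [AddCommGroup E] [Module F E] {Q : Type*} [Group Q]

theorem Homog.quasiCenter_restrict {ρ : Q →* End F E} (hH : Homog F ρ)
    (hcl : ∀ a b c : Q, ⁅a, b⁆ * c = c * ⁅a, b⁆) {W : Submodule F E} (hW0 : W ≠ ⊥)
    (hW : ∀ g, ∀ v ∈ W, ρ g v ∈ W) : quasiCenter (restrictRep ρ W hW) = quasiCenter ρ := by
  ext g
  simp only [mem_quasiCenter, ← map_commutatorElement_eq_one_iff]
  refine forall_congr' fun k => ⟨fun h => ?_, fun h => ?_⟩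
  · obtain ⟨c, hc⟩ := hH _ (commutator_mem_quasiCenter ρ hcl k g)
    obtain ⟨v, hv, hv0⟩ := W.exists_mem_ne_zero_of_ne_bot hW0
    have h1 : ρ ⁅k, g⁆ v = v := congrArg Subtype.val (LinearMap.congr_fun h ⟨v, hv⟩)
    rw [hc] at h1 ⊢
    have h2 : (c - 1) • v = 0 := by rw [sub_smul, one_smul]; exact sub_eq_zero.2 h1
    rw [sub_eq_zero.1 ((smul_eq_zero.1 h2).resolve_right hv0), one_smul]
  · ext w
    rw [coe_restrictRep_apply, h]
    rfl

theorem Homog.restrict {ρ : Q →* End F E} (hH : Homog F ρ)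
    (hcl : ∀ a b c : Q, ⁅a, b⁆ * c = c * ⁅a, b⁆) {W : Submodule F E} (hW0 : W ≠ ⊥)
    (hW : ∀ g, ∀ v ∈ W, ρ g v ∈ W) : Homog F (restrictRep ρ W hW) := by
  intro g hg
  obtain ⟨c, hc⟩ := hH g (mem_quasiCenter.1 (hH.quasiCenter_restrict hcl hW0 hW ▸ hg))
  refine ⟨c, ?_⟩
  ext w
  rw [coe_restrictRep_apply, hc]
  rfl

theorem isUnit_restrict [FiniteDimensional F E] {u : End F E} (hu : IsUnit u) {W : Submodule F E}
    (hW : ∀ v ∈ W, u v ∈ W) : IsUnit (u.restrict hW) := by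
  rw [LinearMap.isUnit_iff_ker_eq_bot, LinearMap.ker_eq_bot]
  intro a b hab
  exact Subtype.ext (((Module.End.isUnit_iff u).1 hu).1 (congrArg Subtype.val hab))

theorem one_le_finrank_repCommutant [FiniteDimensional F E] [Nontrivial E] (ρ : Q →* End F E) :
    1 ≤ finrank F (repCommutant F ρ) := by
  have : Nontrivial (repCommutant F ρ) :=
    ⟨⟨⟨1, fun g => by simp⟩, 0, fun h => one_ne_zero (congrArg Subtype.val h)⟩⟩
  exact Module.finrank_pos

theorem hh_free [Fintype Q] [IsAlgClosed F] [FiniteDimensional F E] [Nontrivial E] (ρ : Q →* End F E)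
    (hQ : (Fintype.card Q : F) ≠ 0) (hcl : ∀ a b c : Q, ⁅a, b⁆ * c = c * ⁅a, b⁆)
    (hH : Homog F ρ) (τ : MulAut Q) {u : End F E} (hu1 : IsUnit u)
    (hu : ∀ g, u * ρ g = ρ (τ g) * u) (P : ℕ)
    (hfree : ∀ j, 0 < j → j < P → ∀ g, g⁻¹ * (τ ^ j) g ∈ quasiCenter ρ → g ∈ quasiCenter ρ)
    {f : F[X]} (hf : f ≠ 0) (h0 : aeval u f = 0) (hdeg : f.natDegree < P) :
    quasiCenter ρ = ⊤ ∨ (3 ≤ P ∧ P - 1 ≤ f.natDegree ∧ (quasiCenter ρ).index = (P - 1) ^ 2 ∧
      ∀ a : End F E, (∀ g, ρ g * a = a * ρ g) → u * a = a * u) := by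
  by_cases hZ : quasiCenter ρ = ⊤
  · exact Or.inl hZ
  right
  obtain ⟨W, -, hW, hWinv, hWmin⟩ := exists_min_invariant (insert u (Set.range ρ))
    (U := ⊤) top_ne_bot fun _ _ _ _ => trivial
  have hWu : ∀ v ∈ W, u v ∈ W := hWinv _ (Set.mem_insert _ _)
  have hWρ : ∀ g, ∀ v ∈ W, ρ g v ∈ W := fun g => hWinv _ (Set.mem_insert_of_mem _ ⟨g, rfl⟩)
  have : Nontrivial W := Submodule.nontrivial_iff_ne_bot.2 hW
  have hZW := hH.quasiCenter_restrict hcl hW hWρ
  have hHW := hH.restrict hcl hW hWρ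
  set ρW := restrictRep ρ W hWρ with hρW
  set uW : End F W := u.restrict hWu with huW
  have h0W : aeval uW f = 0 := by
    ext w
    rw [huW, coe_aeval_restrict, h0]
    rfl
  have hschur : finrank F (repCommutant F ρW ⊓ commutant F uW : Submodule F (End F W)) ≤ 1 := by
    rw [← finrank_span_singleton (K := F) (one_ne_zero (α := End F W))]
    refine Submodule.finrank_mono fun a ha => ?_
    obtain ⟨c, hc⟩ := schur_min (insert uW (Set.range ρW)) (W := ⊤) top_ne_bot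
      (fun _ _ _ _ => trivial) (by
        intro W' _ hW' hinv
        have := hWmin (W'.map W.subtype) (Submodule.map_subtype_le _ _) (by
          intro h
          apply hW'
          apply Submodule.map_injective_of_injective W.subtype_injective
          rw [h, Submodule.map_bot]) (by
          rintro a (rfl | ⟨k, rfl⟩) _ ⟨v, hv, rfl⟩
          · exact ⟨uW v, hinv _ (Set.mem_insert _ _) v hv, rfl⟩
          · exact ⟨ρW k v, hinv _ (Set.mem_insert_of_mem _ ⟨k, rfl⟩) v hv, rfl⟩)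
        apply Submodule.map_injective_of_injective W.subtype_injective
        rw [this, Submodule.map_subtype_top]) (b := a) (fun _ _ => trivial) (by
        rintro _ (rfl | ⟨k, rfl⟩) v _
        · exact congrArg (fun a : End F W => a v) (mem_commutant.1 ha.2)
        · exact congrArg (fun a : End F W => a v) (ha.1 k))
    rw [show a = c • 1 from LinearMap.ext fun v => hc v trivial]
    exact Submodule.smul_mem _ _ (Submodule.mem_span_singleton_self _)
  obtain ⟨h1, h2⟩ := finrank_sq_le_natDegree_mul uW hf h0W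
  obtain ⟨t, h3, h4, h5⟩ := exists_finrank_commutant_le' ρW hQ hcl hHW τ
    (isUnit_restrict hu1 hWu) (fun g => by
      ext w
      exact congrArg (fun a : End F E => a w) (hu g)) P (hZW ▸ hfree)
  have h6 := index_mul_finrank_le ρW hQ hcl (hHW.conjSum hcl)
  rw [Module.finrank_linearMap, ← sq] at h6
  obtain ⟨h7, h8, h9⟩ := hh_arith h1 h2 (h5.trans (Nat.add_le_add_right hschur _)) h3 h6
    (one_le_finrank_repCommutant ρW) (Nat.one_le_iff_ne_zero.2 fun ht => hZ (hZW ▸ h4 ht)) hdeg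
  rw [hZW] at h9
  refine ⟨h7, h8, h9, fun a ha => ?_⟩
  obtain ⟨-, k2⟩ := finrank_sq_le_natDegree_mul u hf h0
  obtain ⟨t, k3, -, k5⟩ := exists_finrank_commutant_le' ρ hQ hcl hH τ hu1 hu P hfree
  have k6 := index_mul_finrank_le ρ hQ hcl (hH.conjSum hcl)
  rw [Module.finrank_linearMap, ← sq] at k6
  have k7 : repCommutant F ρ ⊓ commutant F u = repCommutant F ρ := by
    refine Submodule.eq_of_le_of_finrank_le inf_le_left ?_
    rw [h9] at k3 k6
    obtain ⟨P, rfl⟩ : ∃ n, P = n + 2 := ⟨P - 2, by omega⟩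
    rw [show P + 2 - 1 = P + 1 from rfl] at k3 k6
    have ht : t ≤ P := by
      by_contra! h
      nlinarith
    have k8 : f.natDegree * finrank F (commutant F u) ≤ (P + 1) *
        (finrank F (repCommutant F ρ ⊓ commutant F u : Submodule F _) +
          P * finrank F (repCommutant F ρ)) :=
      Nat.mul_le_mul (by omega) (k5.trans (Nat.add_le_add_left (Nat.mul_le_mul_right _ ht) _))
    rw [sq, mul_assoc] at k6
    have k9 := Nat.le_of_mul_le_mul_left (k6.trans (k2.trans k8)) P.succ_pos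
    rw [add_mul, one_mul, add_comm] at k9
    exact Nat.le_of_add_le_add_right k9
  exact mem_commutant.1 ((k7.symm ▸ ha : a ∈ repCommutant F ρ ⊓ commutant F u).2)

/-- The restriction of an automorphism to an invariant finite subgroup. -/
noncomputable def restrictAut {G : Type*} [Group G] (τ : MulAut G) (H : Subgroup G) [Finite H]
    (h : ∀ x ∈ H, τ x ∈ H) : MulAut H :=
  MulEquiv.ofBijective ((τ.toMonoidHom.comp H.subtype).codRestrict H fun x => h x x.2)
    (Finite.injective_iff_bijective.1 fun _ _ hab =>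
      Subtype.ext (τ.injective (congrArg Subtype.val hab)))

theorem coe_restrictAut {G : Type*} [Group G] (τ : MulAut G) (H : Subgroup G) [Finite H]
    (h : ∀ x ∈ H, τ x ∈ H) (x : H) : (restrictAut τ H h x : G) = τ x := rfl

theorem coe_restrictAut_pow {G : Type*} [Group G] (τ : MulAut G) (H : Subgroup G) [Finite H]
    (h : ∀ x ∈ H, τ x ∈ H) (j : ℕ) (x : H) : ((restrictAut τ H h ^ j) x : G) = (τ ^ j) x := by
  induction j with
  | zero => rfl
  | succ j ih => rw [pow_succ', pow_succ', MulAut.mul_apply, MulAut.mul_apply, ← ih]; rfl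

theorem pow_apply_map {S : Type*} [Group S] (π : Q →* S) {τ : MulAut Q} {β : MulAut S}
    (hβ : ∀ g, β (π g) = π (τ g)) (j : ℕ) (g : Q) : (β ^ j) (π g) = π ((τ ^ j) g) := by
  induction j with
  | zero => rfl
  | succ j ih => rw [pow_succ', pow_succ', MulAut.mul_apply, MulAut.mul_apply, ih, hβ]

theorem Homog.comm_of_mem_cU {ρ : Q →* End F E} (hH : Homog F ρ)
    (hcl : ∀ a b c : Q, ⁅a, b⁆ * c = c * ⁅a, b⁆) (τ : MulAut Q) {u : End F E} (hu1 : IsUnit u)
    (hu : ∀ g, u * ρ g = ρ (τ g) * u) {S : Type*} [CommGroup S] (π : Q →* S)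
    (hπ : Function.Surjective π) (hk : π.ker = quasiCenter ρ) {β : MulAut S}
    (hβ : ∀ g, β (π g) = π (τ g)) {c y : Q} (hc : β (π c) = π c) (hy : π y ∈ cU β) :
    ρ y * ρ c = ρ c * ρ y := by
  obtain ⟨s, hs⟩ := hy
  obtain ⟨s, rfl⟩ := hπ s
  have h1 : (s⁻¹ * τ s)⁻¹ * y ∈ quasiCenter ρ := by
    rw [← hk, MonoidHom.mem_ker, map_mul, map_inv, map_mul, map_inv, ← hβ, ← dHom_apply, hs,
      inv_mul_cancel]
  have h2 := hH.comm_of_fix hcl τ hu1 hu (c := c) (by
    rw [← hk, MonoidHom.mem_ker, map_mul, map_inv, ← hβ, hc, inv_mul_cancel]) s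
  rw [← mul_inv_cancel_left (s⁻¹ * τ s) y, map_mul ρ (s⁻¹ * τ s), mul_assoc, ← h1 c,
    ← mul_assoc, h2, mul_assoc]

theorem hh_special [Fintype Q] [IsAlgClosed F] [FiniteDimensional F E] [Nontrivial E] (ρ : Q →* End F E)
    (hQ : (Fintype.card Q : F) ≠ 0) (hcl : ∀ a b c : Q, ⁅a, b⁆ * c = c * ⁅a, b⁆)
    (hH : Homog F ρ) (τ : MulAut Q) {u : End F E} (hu1 : IsUnit u)
    (hu : ∀ g, u * ρ g = ρ (τ g) * u) {S : Type*} [CommGroup S] (π : Q →* S)
    (hπ : Function.Surjective π) (hk : π.ker = quasiCenter ρ) {β : MulAut S}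
    (hβ : ∀ g, β (π g) = π (τ g)) {p k : ℕ} [hp : Fact p.Prime] (hS : p.Coprime (Nat.card S))
    (hβP : β ^ p ^ (k + 1) = 1) {f : F[X]} (hf : f ≠ 0) (h0 : aeval u f = 0)
    (hdeg : f.natDegree < p ^ (k + 1)) :
    β ^ p ^ k = 1 ∨ (Special β (p ^ (k + 1)) ∧ p ^ (k + 1) - 1 ≤ f.natDegree) := by
  classical
  have : Finite S := Finite.of_surjective π hπ
  have ht : (β ^ p ^ k) ^ p = 1 := by rw [← pow_mul, ← pow_succ, hβP]
  set t := β ^ p ^ k with htdef
  have hβU : ∀ s ∈ cU t, β s ∈ cU t := fun s hs =>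
    apply_mem_cU_of_commute (Commute.self_pow β _).eq hs
  let Q₁ := (cU t).comap π
  have hτ : ∀ x ∈ Q₁, τ x ∈ Q₁ := fun x hx => by
    rw [Subgroup.mem_comap, ← hβ]
    exact hβU _ hx
  let ρ₁ : Q₁ →* End F E := ρ.comp Q₁.subtype
  have hcomm : ∀ {c y : Q}, t (π c) = π c → π y ∈ cU t → ρ y * ρ c = ρ c * ρ y :=
    hH.comm_of_mem_cU hcl (τ ^ p ^ k) (hu1.pow _) (pow_mul_rep ρ τ hu _) π hπ hk
      (pow_apply_map π hβ _)
  have hZ : ∀ x : Q₁, x ∈ quasiCenter ρ₁ ↔ π x = 1 := by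
    intro x
    rw [← MonoidHom.mem_ker, hk]
    refine ⟨fun hx g => ?_, fun hx g => hx g⟩
    obtain ⟨s, hs, w, hw, h⟩ := exists_mul_fix hS ht (π g)
    obtain ⟨y, rfl⟩ := hπ s
    have h1 : ρ y * ρ x = ρ x * ρ y := hx ⟨y, hs⟩
    have h2 := hcomm (c := y⁻¹ * g) (y := x) (by simp [h, hw]) x.2
    rw [← mul_inv_cancel_left y g, map_mul ρ y, mul_assoc, ← h2, ← mul_assoc, h1, mul_assoc]
  have hfree : ∀ j, 0 < j → j < p ^ (k + 1) → ∀ s ∈ cU t, (β ^ j) s = s → s = 1 := by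
    intro j hj hjP s hs h
    obtain ⟨l, hl⟩ := exists_pow_mul_eq_pow_of_lt hp.out hβP hj hjP
    exact eq_one_of_mem_cU_of_fix hS ht hs (by rw [htdef, ← hl]; exact pow_apply_of_fix h l)
  have hQ₁ : (Fintype.card Q₁ : F) ≠ 0 := by
    intro h
    obtain ⟨c, hc⟩ := Q₁.card_subgroup_dvd_card
    rw [Nat.card_eq_fintype_card, Nat.card_eq_fintype_card] at hc
    exact hQ (by rw [hc, Nat.cast_mul, h, zero_mul])
  rcases hh_free ρ₁ hQ₁ (fun a b c => Subtype.ext (hcl a b c))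
    (fun x hx => hH x (mem_quasiCenter.1 (hk ▸ (hZ x).1 hx))) (restrictAut τ Q₁ hτ) hu1
    (fun g => hu g) (p ^ (k + 1)) (fun j hj hjP g hg => by
      rw [hZ] at hg ⊢
      refine hfree j hj hjP _ g.2 (dHom_eq_one.1 ?_)
      rw [dHom_apply, pow_apply_map π hβ, ← coe_restrictAut_pow τ Q₁ hτ, ← map_inv, ← map_mul]
      exact hg) hf h0 hdeg with h | ⟨h1, h2, h3, h4⟩
  · left
    refine eq_one_of_fix_cU hS ht fun s hs => ?_
    obtain ⟨y, rfl⟩ := hπ s
    rw [(hZ ⟨y, hs⟩).1 (h ▸ Subgroup.mem_top _), map_one]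
  refine Or.inr ⟨?_, h2⟩
  have hfix : ∀ w, t w = w → β w = w := by
    intro w hw
    obtain ⟨c, rfl⟩ := hπ w
    have h5 := h4 (ρ c) fun g => hcomm hw g.2
    rw [hu, hu1.mul_left_inj] at h5
    rw [hβ, ← inv_mul_eq_one, ← map_inv, ← map_mul, ← MonoidHom.mem_ker, hk]
    intro g
    rw [map_mul, h5.symm, ← map_mul, inv_mul_cancel, map_one, mul_one, one_mul]
  have hU : cU β = cU t := by
    refine le_antisymm ?_ (cU_pow_le β _)
    rintro _ ⟨s, rfl⟩
    obtain ⟨s, hs, w, hw, rfl⟩ := exists_mul_fix hS ht s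
    rw [map_mul, dHom_eq_one.2 (hfix w hw), mul_one]
    exact Subgroup.mul_mem _ (Subgroup.inv_mem _ hs) (hβU s hs)
  refine ⟨h1, ?_, hβP, hU ▸ hfree⟩
  have h5 : quasiCenter ρ₁ = (π.comp Q₁.subtype).ker := Subgroup.ext hZ
  rw [← h3, h5, Subgroup.index_ker, MonoidHom.range_comp, Subgroup.range_subtype,
    Subgroup.map_comap_eq_self_of_surjective hπ, hU]

end H76
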