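import Mathlib
import Cfsg.Agent.Base
import Cfsg.Agent.Lib.FGS.HHFree
import Cfsg.Agent.Lib.FGS.HHGroup
import Cfsg.Agent.Lib.Core.Coprime

/-! Weight spaces of a subgroup of class at most two in a linear representation. -/

set_option autoImplicit false

namespace H76

open Polynomial Module Subgroup
open scoped commutatorElement

variable {F : Type*} [Field F] {V : Type*} [AddCommGroup V] [Module F V] {G : Type*} [Group G]

/-- Nilpotency class at most two. -/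
class ClassTwo (Q : Subgroup G) : Prop where
  comm : ∀ a b c : Q, ⁅a, b⁆ * c = c * ⁅a, b⁆

variable (ρ : G →* End F V) (Q : Subgroup G) [Fintype Q]

/-- The class sum operators. -/
noncomputable def csum (g : G) : End F V := conjSum F (ρ.comp Q.subtype) (ρ g)

/-- The weight space. -/
noncomputable def wsp (lam : G → F) : Submodule F V :=
  ⨅ g : Q, LinearMap.ker (csum ρ Q g - lam g • (1 : End F V))

/-- The stabilizer of a weight. -/
def wstab (Q : Subgroup G) (lam : G → F) : Subgroup G where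
  carrier := {x | x ∈ normalizer (Q : Set G) ∧ ∀ g ∈ Q, lam (x * g * x⁻¹) = lam g}
  one_mem' := ⟨one_mem _, fun g _ => by simp⟩
  mul_mem' := by
    rintro a b ⟨ha, ha'⟩ ⟨hb, hb'⟩
    refine ⟨mul_mem ha hb, fun g hg => ?_⟩
    rw [← hb' g hg, ← ha' _ ((mem_normalizer_iff.1 hb g).1 hg)]
    congr 1
    group
  inv_mem' := by
    rintro a ⟨ha, ha'⟩
    refine ⟨inv_mem ha, fun g hg => ?_⟩
    rw [← ha' _ ((mem_normalizer_iff.1 (inv_mem ha) g).1 hg)]
    congr 1
    group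

variable {ρ Q} {lam : G → F}

theorem mem_wsp {v : V} : v ∈ wsp ρ Q lam ↔ ∀ g ∈ Q, csum ρ Q g v = lam g • v := by
  simp [wsp, sub_eq_zero]

omit [Field F] [Fintype Q] in
theorem mem_wstab {x : G} :
    x ∈ wstab Q lam ↔ x ∈ normalizer (Q : Set G) ∧ ∀ g ∈ Q, lam (x * g * x⁻¹) = lam g := Iff.rfl

omit [Field F] [Fintype Q] in
theorem wstab_le : wstab Q lam ≤ normalizer (Q : Set G) := fun _ h => h.1

omit [Field F] [Fintype Q] in
theorem centralizer_le_wstab : centralizer (Q : Set G) ≤ wstab Q lam := fun x hx =>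
  ⟨centralizer_le_normalizer _ hx, fun g hg => by rw [← hx g hg, mul_inv_cancel_right]⟩

theorem mul_csum {x : G} (hx : x ∈ normalizer (Q : Set G)) (g : G) :
    ρ x * csum ρ Q g = csum ρ Q (x * g * x⁻¹) * ρ x :=
  conjSum_intertwine (ρ.comp Q.subtype) (conjAut Q hx) (fun k => by
    simp [coe_conjAut, ← map_mul]) (by simp [← map_mul])

theorem apply_mem_wsp_conj {x : G} (hx : x ∈ normalizer (Q : Set G)) {v : V}
    (hv : v ∈ wsp ρ Q lam) : ρ x v ∈ wsp ρ Q fun g => lam (x⁻¹ * g * x) := by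
  rw [mem_wsp] at hv ⊢
  intro g hg
  have := LinearMap.congr_fun (mul_csum (ρ := ρ) hx (x⁻¹ * g * x)) v
  rw [End.mul_apply, End.mul_apply, hv _ ((mem_normalizer_iff''.1 hx g).1 hg), map_smul] at this
  rw [this]
  congr 2
  group

theorem wsp_congr {mu : G → F} (h : ∀ g ∈ Q, lam g = mu g) : wsp ρ Q lam = wsp ρ Q mu := by
  ext v
  simp only [mem_wsp]
  exact forall₂_congr fun g hg => by rw [h g hg]

theorem apply_mem_wsp {x : G} (hx : x ∈ wstab Q lam) {v : V} (hv : v ∈ wsp ρ Q lam) :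
    ρ x v ∈ wsp ρ Q lam := by
  have := apply_mem_wsp_conj hx.1 hv
  rwa [wsp_congr (mu := lam) fun g hg => by simpa using (inv_mem hx).2 g hg] at this

theorem apply_mem_wsp_of_mem (g : Q) (v : V) (hv : v ∈ wsp ρ Q lam) :
    (ρ.comp Q.subtype) g v ∈ wsp ρ Q lam := by
  rw [mem_wsp] at hv ⊢
  intro k hk
  rw [← End.mul_apply, csum, ← mul_conjSum, End.mul_apply, ← map_smul, ← hv k hk]
  rfl

theorem mem_wstab_of_mem (h0 : wsp ρ Q lam ≠ ⊥) {x : G} (hx : x ∈ Q) : x ∈ wstab Q lam := by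
  refine ⟨le_normalizer hx, fun g hg => ?_⟩
  obtain ⟨v, hv, hv0⟩ := Submodule.exists_mem_ne_zero_of_ne_bot h0
  have h1 : csum ρ Q (x * g * x⁻¹) = csum ρ Q g := by
    rw [csum, map_mul ρ, map_mul ρ]
    exact conjSum_conj (ρ.comp Q.subtype) ⟨x, hx⟩ (ρ g)
  have h2 := mem_wsp.1 hv _ (mul_mem (mul_mem hx hg) (inv_mem hx))
  rw [h1, mem_wsp.1 hv g hg] at h2
  exact (smul_left_injective F hv0 h2).symm

theorem wsp_conj_ne_bot {x : G} (hx : x ∈ normalizer (Q : Set G)) (h0 : wsp ρ Q lam ≠ ⊥) :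
    wsp ρ Q (fun g => lam (x⁻¹ * g * x)) ≠ ⊥ := by
  obtain ⟨v, hv, hv0⟩ := Submodule.exists_mem_ne_zero_of_ne_bot h0
  refine (Submodule.ne_bot_iff _).2 ⟨_, apply_mem_wsp_conj hx hv, fun h => hv0 ?_⟩
  simpa [← End.mul_apply, ← map_mul] using congrArg (ρ x⁻¹) h

open Classical in
theorem sum_filter_eq_zero {ι : Type*} (s : Finset ι) (mu : ι → G → F) (w : ι → V)
    (hw : ∀ i ∈ s, w i ∈ wsp ρ Q (mu i)) (h : ∑ i ∈ s, w i = 0) (lam : G → F) :
    ∑ i ∈ s with ∀ g ∈ Q, mu i g = lam g, w i = 0 := by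
  let r : (G → F) → Q → F := fun m g => m g
  have hr : ∀ i, (∀ g ∈ Q, mu i g = lam g) ↔ r (mu i) = r lam := fun i =>
    ⟨fun h => funext fun g => h g g.2, fun h g hg => congrFun h ⟨g, hg⟩⟩
  simp only [hr]
  by_cases hl : r lam ∈ s.image fun i => r (mu i)
  · refine joint_eigen_indep (fun g : Q => csum ρ Q g) id (s.image fun i => r (mu i))
      (Function.injective_id.injOn) (fun ν => ∑ i ∈ s with r (mu i) = ν, w i) (fun ν _ g => ?_)
      ?_ _ hl
    · rw [map_sum, Finset.smul_sum]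
      refine Finset.sum_congr rfl fun i hi => ?_
      obtain ⟨hi', rfl⟩ := Finset.mem_filter.1 hi
      exact mem_wsp.1 (hw i hi') g g.2
    · rw [Finset.sum_fiberwise_of_maps_to fun i hi => Finset.mem_image_of_mem _ hi, h]
  · refine Finset.sum_eq_zero fun i hi => absurd ?_ hl
    obtain ⟨hi, h1⟩ := Finset.mem_filter.1 hi
    exact h1 ▸ Finset.mem_image_of_mem _ hi

omit [Field F] [Fintype Q] in
theorem conj_eq_iff_mem_wstab {x : G} (hx : x ∈ normalizer (Q : Set G)) :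
    (∀ g ∈ Q, lam (x⁻¹ * g * x) = lam g) ↔ x ∈ wstab Q lam := by
  rw [← inv_mem_iff (x := x), mem_wstab, inv_inv, and_iff_right (inv_mem hx)]

open Classical in
theorem sum_stab_eq_zero {ι : Type*} (s : Finset ι) (x : ι → G) (c : ι → F)
    (hx : ∀ i ∈ s, x i ∈ normalizer (Q : Set G)) {v : V} (hv : v ∈ wsp ρ Q lam)
    (h : ∑ i ∈ s, c i • ρ (x i) v = 0) : ∑ i ∈ s with x i ∈ wstab Q lam, c i • ρ (x i) v = 0 := by
  rw [← sum_filter_eq_zero s (fun i g => lam ((x i)⁻¹ * g * x i)) _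
    (fun i hi => Submodule.smul_mem _ _ (apply_mem_wsp_conj (hx i hi) hv)) h lam]
  exact Finset.sum_congr (Finset.filter_congr fun i hi => (conj_eq_iff_mem_wstab (hx i hi)).symm)
    fun _ _ => rfl

theorem exists_wsp [IsAlgClosed F] [FiniteDimensional F V] (hQ : (Fintype.card Q : F) ≠ 0)
    {x : G} (hx : x ∈ Q) (h : ρ x ≠ 1) : ∃ lam : G → F, ∃ v ∈ wsp ρ Q lam, ρ x v ≠ v := by
  classical
  by_contra! hcon
  let K : Subgroup G :=
    { carrier := {k | k ∈ Q ∧ ∀ lam : G → F, ∀ v ∈ wsp ρ Q lam, ρ k v = v}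
      one_mem' := ⟨one_mem _, by simp⟩
      mul_mem' := fun {a b} ha hb => ⟨mul_mem ha.1 hb.1, fun lam v hv => by
        rw [map_mul, End.mul_apply, hb.2 lam v hv, ha.2 lam v hv]⟩
      inv_mem' := fun {a} ha => ⟨inv_mem ha.1, fun lam v hv => by
        conv_lhs => rw [← ha.2 lam v hv]
        rw [← End.mul_apply, ← map_mul, inv_mul_cancel, map_one, End.one_apply]⟩ }
  have hKQ : K ≤ Q := fun _ h => h.1
  let _ : Fintype K := Fintype.ofInjective (inclusion hKQ) (inclusion_injective hKQ)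
  have hK : (Fintype.card K : F) ≠ 0 := by
    intro h0
    obtain ⟨c, hc⟩ := card_dvd_of_le hKQ
    rw [Nat.card_eq_fintype_card, Nat.card_eq_fintype_card] at hc
    exact hQ (by rw [hc, Nat.cast_mul, h0, zero_mul])
  have hn : ∀ g ∈ Q, ∀ k ∈ K, g * k * g⁻¹ ∈ K := fun g hg k hk =>
    ⟨mul_mem (mul_mem hg hk.1) (inv_mem hg), fun lam v hv => by
      rw [map_mul, map_mul, End.mul_apply, End.mul_apply,
        hk.2 lam (ρ g⁻¹ v) (apply_mem_wsp_of_mem ⟨_, inv_mem hg⟩ v hv), ← End.mul_apply, ← map_mul]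
      simp⟩
  set e : End F V := ∑ k : K, ρ k with he
  have he1 : ∀ g ∈ Q, ρ g * e = e * ρ g := by
    intro g hg
    rw [he, Finset.mul_sum, Finset.sum_mul]
    refine Fintype.sum_equiv (conjAut K (mem_normalizer_iff.2 fun k =>
      ⟨hn g hg k, fun hk => by simpa [mul_assoc] using hn _ (inv_mem hg) _ hk⟩)).toEquiv _ _
      fun k => ?_
    simp [coe_conjAut, ← map_mul]
  have he2 : e * ρ x = e := by
    rw [he, Finset.sum_mul]
    exact Fintype.sum_equiv (Equiv.mulRight (⟨x, hx, hcon⟩ : K)) _ _ fun k => by simp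
  have hker0 : LinearMap.ker e ≠ ⊥ := by
    intro h0
    apply h
    ext v
    have : ρ x v - v ∈ LinearMap.ker e := by
      rw [LinearMap.mem_ker, map_sub, ← End.mul_apply, he2, sub_self]
    rw [h0, Submodule.mem_bot, sub_eq_zero] at this
    exact this
  obtain ⟨W, hWle, hW, hWinv, hWmin⟩ := exists_min_invariant (Set.range (ρ.comp Q.subtype)) hker0
    (by
      rintro _ ⟨g, rfl⟩ v hv
      change e (ρ g v) = 0
      rw [← End.mul_apply, ← he1 g g.2, End.mul_apply, LinearMap.mem_ker.1 hv, map_zero])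
  have hω : ∀ g : G, ∃ c : F, g ∈ Q → ∀ v ∈ W, csum ρ Q g v = c • v := by
    intro g
    by_cases hg : g ∈ Q
    swap
    · exact ⟨0, fun h => absurd h hg⟩
    obtain ⟨c, hc⟩ := schur_min _ hW hWinv hWmin (b := csum ρ Q g) (fun v hv => by
      rw [csum, conjSum_apply, LinearMap.sum_apply]
      exact W.sum_mem fun k _ => hWinv _ ⟨k, rfl⟩ _ (hWinv _ ⟨⟨g, hg⟩, rfl⟩ _
        (hWinv _ ⟨k⁻¹, rfl⟩ _ hv))) (by
      rintro _ ⟨k, rfl⟩ v _
      rw [← End.mul_apply, csum, mul_conjSum]; rfl)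
    exact ⟨c, fun _ => hc⟩
  choose ω hω using hω
  obtain ⟨v, hv, hv0⟩ := W.exists_mem_ne_zero_of_ne_bot hW
  have h1 : v ∈ wsp ρ Q ω := mem_wsp.2 fun g hg => hω g hg v hv
  have h2 : e v = 0 := hWle hv
  rw [he, LinearMap.sum_apply, Finset.sum_congr rfl fun (k : K) _ => k.2.2 ω v h1,
    Finset.sum_const, Finset.card_univ, ← Nat.cast_smul_eq_nsmul F, smul_eq_zero] at h2
  exact h2.elim hK hv0

variable (ρ Q lam)

/-- The representation on a weight space. -/
noncomputable def wrep : Q →* End F (wsp ρ Q lam) :=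
  restrictRep (ρ.comp Q.subtype) _ apply_mem_wsp_of_mem

/-- The symplectic section belonging to a weight. -/
def wS : Type _ := Q ⧸ quasiCenter (wrep ρ Q lam)

noncomputable instance [h : ClassTwo Q] : CommGroup (wS ρ Q lam) :=
  { (inferInstance : Group (Q ⧸ quasiCenter (wrep ρ Q lam))) with
    mul_comm := by
      intro a b
      obtain ⟨a, rfl⟩ := QuotientGroup.mk_surjective a
      obtain ⟨b, rfl⟩ := QuotientGroup.mk_surjective b
      have := (QuotientGroup.eq_one_iff _).2 (commutator_mem_quasiCenter (wrep ρ Q lam) h.comm a b)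
      exact commutatorElement_eq_one_iff_mul_comm
        (G := Q ⧸ quasiCenter (wrep ρ Q lam)).1 this }

instance : Finite (wS ρ Q lam) := inferInstanceAs (Finite (Q ⧸ quasiCenter (wrep ρ Q lam)))

/-- The projection onto the symplectic section. -/
noncomputable def wπ [ClassTwo Q] : Q →* wS ρ Q lam :=
  QuotientGroup.mk' (quasiCenter (wrep ρ Q lam))

variable {ρ Q lam}

theorem coe_wrep (g : Q) (v : wsp ρ Q lam) : (wrep ρ Q lam g v : V) = ρ g v := rfl

/-- The restriction of a stabilizing element to the weight space. -/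
noncomputable def wres {x : G} (hx : x ∈ wstab Q lam) : End F (wsp ρ Q lam) :=
  (ρ x).restrict fun _ => apply_mem_wsp hx

theorem coe_wres {x : G} (hx : x ∈ wstab Q lam) (v : wsp ρ Q lam) :
    (wres (ρ := ρ) hx v : V) = ρ x v := rfl

theorem wres_mul_wres_inv {x : G} (hx : x ∈ wstab Q lam) :
    wres (ρ := ρ) hx * wres (inv_mem hx) = 1 := by
  ext v
  change ρ x (ρ x⁻¹ v) = v
  rw [← End.mul_apply, ← map_mul, mul_inv_cancel, map_one, End.one_apply]

theorem isUnit_wres {x : G} (hx : x ∈ wstab Q lam) : IsUnit (wres (ρ := ρ) hx) :=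
  ⟨⟨_, _, wres_mul_wres_inv hx, by simpa using wres_mul_wres_inv (ρ := ρ) (inv_mem hx)⟩, rfl⟩

theorem wres_mul_wrep {x : G} (hx : x ∈ wstab Q lam) (g : Q) :
    wres hx * wrep ρ Q lam g = wrep ρ Q lam (conjAut Q hx.1 g) * wres hx := by
  ext v
  change ρ x (ρ g v) = ρ (x * g * x⁻¹) (ρ x v)
  rw [← End.mul_apply, ← map_mul, ← End.mul_apply, ← map_mul, inv_mul_cancel_right]

theorem homog_wrep (hQ : (Fintype.card Q : F) ≠ 0) : Homog F (wrep ρ Q lam) := fun _ hg =>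
  exists_smul_of_mem_quasiCenter _ hQ (fun g => ⟨lam g, by
    ext w
    rw [wrep, coe_conjSum_restrictRep]
    exact mem_wsp.1 w.2 g g.2⟩) hg

theorem wπ_surjective [ClassTwo Q] : Function.Surjective (wπ ρ Q lam) :=
  QuotientGroup.mk'_surjective _

theorem ker_wπ [ClassTwo Q] : (wπ ρ Q lam).ker = quasiCenter (wrep ρ Q lam) :=
  QuotientGroup.ker_mk' _

theorem card_wS_dvd : Nat.card (wS ρ Q lam) ∣ Nat.card Q := card_quotient_dvd_card _

theorem wπ_eq_one_iff [ClassTwo Q] {g : Q} :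
    wπ ρ Q lam g = 1 ↔ ∀ k ∈ Q, ∀ v ∈ wsp ρ Q lam, ρ ⁅k, (g : G)⁆ v = v := by
  rw [← MonoidHom.mem_ker, ker_wπ]
  simp only [mem_quasiCenter, ← map_commutatorElement_eq_one_iff]
  constructor
  · intro h k hk v hv
    exact congrArg Subtype.val (LinearMap.congr_fun (h ⟨k, hk⟩) ⟨v, hv⟩)
  · intro h k
    ext v
    exact h k k.2 v v.2

theorem wπ_eq_one_of_mem_centralizer [ClassTwo Q] {g : Q} (hg : (g : G) ∈ centralizer (Q : Set G)) :
    wπ ρ Q lam g = 1 := wπ_eq_one_iff.2 fun k hk v _ => by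
  rw [commutatorElement_eq_one_iff_mul_comm.2 (hg k hk), map_one, End.one_apply]

theorem exists_smul_of_wπ_eq_one [ClassTwo Q] (hQ : (Fintype.card Q : F) ≠ 0) {g : Q}
    (hg : wπ ρ Q lam g = 1) : ∃ c : F, ∀ v ∈ wsp ρ Q lam, ρ g v = c • v := by
  obtain ⟨c, hc⟩ := homog_wrep hQ g (mem_quasiCenter.1 (ker_wπ.le hg))
  exact ⟨c, fun v hv => congrArg Subtype.val (LinearMap.congr_fun hc ⟨v, hv⟩)⟩

theorem commutator_apply_of_wπ_eq_one [ClassTwo Q] (hQ : (Fintype.card Q : F) ≠ 0) {g : Q}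
    (hg : wπ ρ Q lam g = 1) {x : G} (hx : x ∈ wstab Q lam) {v : V} (hv : v ∈ wsp ρ Q lam) :
    ρ ⁅x, (g : G)⁆ v = v := by
  obtain ⟨c, hc⟩ := exists_smul_of_wπ_eq_one hQ hg
  have h1 : ρ (g : G)⁻¹ v ∈ wsp ρ Q lam := apply_mem_wsp_of_mem g⁻¹ v hv
  rw [commutatorElement_def, map_mul, map_mul, map_mul, End.mul_apply, End.mul_apply,
    End.mul_apply, hc _ (apply_mem_wsp (inv_mem hx) h1), map_smul, ← End.mul_apply (ρ x),
    ← map_mul, mul_inv_cancel, map_one, End.one_apply, ← hc _ h1, ← End.mul_apply, ← map_mul,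
    mul_inv_cancel, map_one, End.one_apply]

variable (ρ Q lam) in
/-- The action of the stabilizer on the symplectic section. -/
noncomputable def wact [ClassTwo Q] : wstab Q lam →* MulAut (wS ρ Q lam) :=
  H2.quotAut (H2.conjAut wstab_le) (quasiCenter (wrep ρ Q lam)) fun x _ hg =>
    apply_mem_quasiCenter _ (conjAut Q x.2.1) (isUnit_wres x.2) (wres_mul_wrep x.2) hg

theorem wact_wπ [ClassTwo Q] (x : wstab Q lam) (g : Q) :
    wact ρ Q lam x (wπ ρ Q lam g) = wπ ρ Q lam (conjAut Q x.2.1 g) := rfl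

theorem wact_wπ_eq_iff [ClassTwo Q] (x : wstab Q lam) (g : Q) :
    wact ρ Q lam x (wπ ρ Q lam g) = wπ ρ Q lam g ↔
      wπ ρ Q lam ⟨⁅(x : G), (g : G)⁆, mul_mem (conjAut Q x.2.1 g).2 (inv_mem g.2)⟩ = 1 := by
  rw [wact_wπ, ← mul_inv_eq_one, ← map_inv, ← map_mul]
  rfl

theorem wact_eq_one_of_mem_centralizer [ClassTwo Q] (x : wstab Q lam)
    (hx : (x : G) ∈ centralizer (Q : Set G)) : wact ρ Q lam x = 1 := by
  ext s
  obtain ⟨g, rfl⟩ := wπ_surjective s
  rw [wact_wπ, MulAut.one_apply]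
  congr 1
  exact Subtype.ext (by rw [coe_conjAut, ← hx g g.2, mul_inv_cancel_right])

theorem wact_eq_one_of_commutator [ClassTwo Q] (x : wstab Q lam)
    (hx : ∀ g ∈ Q, ⁅(x : G), g⁆ ∈ centralizer (Q : Set G)) : wact ρ Q lam x = 1 := by
  ext s
  obtain ⟨g, rfl⟩ := wπ_surjective s
  exact (wact_wπ_eq_iff x g).2 (wπ_eq_one_of_mem_centralizer (hx g g.2))

theorem mem_centralizer_of_forall_wact [IsAlgClosed F] [FiniteDimensional F V] [Finite G]
    [ClassTwo Q] (hQ : (Fintype.card Q : F) ≠ 0) (hf : ∀ g ∈ Q, ρ g = 1 → g = 1) {x : G}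
    (hx : x ∈ normalizer (Q : Set G)) (hc : (orderOf x).Coprime (Nat.card Q))
    (h : ∀ lam : G → F, wsp ρ Q lam ≠ ⊥ → ∃ hx : x ∈ wstab Q lam, wact ρ Q lam ⟨x, hx⟩ = 1) :
    x ∈ centralizer (Q : Set G) := by
  have key : ∀ c ∈ Q, (∀ lam : G → F, wsp ρ Q lam ≠ ⊥ → ∀ v ∈ wsp ρ Q lam, ρ c v = v) → c = 1 := by
    intro c hc h1
    by_contra h2
    obtain ⟨lam, v, hv, hv1⟩ := exists_wsp hQ hc fun h3 => h2 (hf c hc h3)
    exact hv1 (h1 lam (fun h0 => hv1 (by rw [(Submodule.mem_bot F (x := v)).1 (h0 ▸ hv), map_zero])) v hv)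
  have hm : ∀ g ∈ Q, ⁅x, g⁆ ∈ Q := fun g hg =>
    mul_mem ((mem_normalizer_iff.1 hx g).1 hg) (inv_mem hg)
  refine H2.le_centralizer_of_commutator_le (A := zpowers x) (N := Q ⊓ centralizer (Q : Set G))
    (H2.coprime_of_le_right (by rwa [Nat.card_zpowers]) inf_le_left) ?_ ?_ (mem_zpowers x)
  · rw [commutator_comm, zpowers_eq_closure]
    refine H2.commutator_closure_le (by
      rintro _ rfl
      exact H2.le_normalizer_inf le_rfl (H2.le_normalizer_centralizer le_rfl) hx) ?_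
    rintro _ rfl g hg
    refine ⟨hm g hg, fun k hk => commutatorElement_eq_one_iff_mul_comm.1 (key _ ?_ ?_)⟩
    · exact mul_mem (mul_mem (mul_mem hk (hm g hg)) (inv_mem hk)) (inv_mem (hm g hg))
    · intro lam h0
      obtain ⟨hx', h1⟩ := h lam h0
      exact wπ_eq_one_iff.1 ((wact_wπ_eq_iff ⟨_, hx'⟩ ⟨g, hg⟩).1 (by rw [h1]; rfl)) k hk
  · rw [zpowers_le]
    rintro z ⟨hz, hz'⟩
    refine (commutatorElement_eq_one_iff_mul_comm.1 (key _ (hm z hz) fun lam h0 v hv => ?_)).symm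
    obtain ⟨hx', -⟩ := h lam h0
    exact commutator_apply_of_wπ_eq_one hQ (g := ⟨z, hz⟩) (wπ_eq_one_of_mem_centralizer hz') hx' hv

theorem wact_special [IsAlgClosed F] [FiniteDimensional F V] [hcl : ClassTwo Q]
    (hQ : (Fintype.card Q : F) ≠ 0) (h0 : wsp ρ Q lam ≠ ⊥) {p k : ℕ} [Fact p.Prime]
    (hp : p.Coprime (Nat.card Q)) (b : wstab Q lam) (hb : wact ρ Q lam b ^ p ^ (k + 1) = 1)
    {f : F[X]} (hf : f ≠ 0) (h1 : ∀ v ∈ wsp ρ Q lam, aeval (ρ b) f v = 0)
    (hdeg : f.natDegree < p ^ (k + 1)) :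
    wact ρ Q lam b ^ p ^ k = 1 ∨
      (Special (wact ρ Q lam b) (p ^ (k + 1)) ∧ p ^ (k + 1) - 1 ≤ f.natDegree) := by
  have : Nontrivial (wsp ρ Q lam) := Submodule.nontrivial_iff_ne_bot.2 h0
  refine hh_special (wrep ρ Q lam) hQ hcl.comm (homog_wrep hQ) (conjAut Q b.2.1) (isUnit_wres b.2)
    (wres_mul_wrep b.2) (wπ ρ Q lam) wπ_surjective ker_wπ (wact_wπ b)
    (hp.coprime_dvd_right card_wS_dvd) hb hf ?_ hdeg
  ext v
  rw [wres, coe_aeval_restrict, h1 v v.2]
  rfl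

theorem exists_wact_special [IsAlgClosed F] [FiniteDimensional F V] [ClassTwo Q]
    (hQ : (Fintype.card Q : F) ≠ 0) (h0 : wsp ρ Q lam ≠ ⊥) {p n : ℕ} [hp' : Fact p.Prime]
    (hp : p.Coprime (Nat.card Q)) {x : G} (hx : x ∈ normalizer (Q : Set G))
    (hxn : x ^ p ^ (n + 1) ∈ centralizer (Q : Set G)) {f : F[X]} (hf : f ≠ 0)
    (h1 : aeval (ρ x) f = 0) (hdeg : f.natDegree < p ^ (n + 1)) :
    ∃ (j k : ℕ) (_ : j + k = n) (hb : x ^ p ^ j ∈ wstab Q lam),
      wact ρ Q lam ⟨_, hb⟩ ^ p ^ k = 1 ∨ (Special (wact ρ Q lam ⟨_, hb⟩) (p ^ (k + 1)) ∧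
        p ^ j * (p ^ (k + 1) - 1) ≤ f.natDegree) := by
  classical
  have hex : ∃ j, x ^ p ^ j ∈ wstab Q lam := ⟨n + 1, centralizer_le_wstab hxn⟩
  set j := Nat.find hex with hj
  have hb : x ^ p ^ j ∈ wstab Q lam := Nat.find_spec hex
  have hjn : j ≤ n + 1 := Nat.find_min' hex (centralizer_le_wstab hxn)
  have hmin : ∀ i, 0 < i → i < p ^ j → x ^ i ∉ wstab Q lam := by
    intro i hi hij h
    obtain ⟨e, m, hm, rfl⟩ := Nat.exists_eq_pow_mul_and_not_dvd hi.ne' p hp'.out.one_lt.ne'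
    have he : e < j := by
      by_contra! h2
      exact absurd hij (not_lt.2 ((Nat.pow_le_pow_right hp'.out.pos h2).trans
        (Nat.le_mul_of_pos_right _ (Nat.pos_of_ne_zero fun h3 => hm (h3 ▸ dvd_zero p)))))
    refine Nat.find_min hex he (mem_of_pow_mem_of_coprime
      (((Nat.Prime.coprime_iff_not_dvd hp'.out).2 hm).symm.pow_right (j - e)) ?_ ?_)
    · rwa [← pow_mul]
    · rwa [← pow_mul, ← pow_add, Nat.add_sub_cancel' he.le]
  obtain ⟨f1, hf1, hd, hf1W⟩ := exists_poly_pow (fun g : Q => csum ρ Q g) (ρ x)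
    ((End.isUnit_iff _).1 (isUnit_rep ρ x)).1 (d := p ^ j) (pow_pos hp'.out.pos j)
    (fun i g => lam ((x ^ i)⁻¹ * g * x ^ i)) (by
      have key : ∀ i i' : ℕ, i < i' → i' < p ^ j →
          (fun g : Q => lam ((x ^ i)⁻¹ * g * x ^ i)) ≠ fun g : Q => lam ((x ^ i')⁻¹ * g * x ^ i') := by
        intro i i' hii hi' H
        refine hmin (i' - i) (by omega) (by omega) ((conj_eq_iff_mem_wstab (pow_mem hx _)).1
          fun g hg => ?_)
        have := congrFun H ⟨_, (mem_normalizer_iff.1 (pow_mem hx i) g).1 hg⟩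
        simp only [mul_assoc, inv_mul_cancel_left, inv_mul_cancel, mul_one] at this
        rw [this]
        congr 1
        obtain ⟨d, rfl⟩ := Nat.exists_eq_add_of_le hii.le
        rw [Nat.add_sub_cancel_left, pow_add]
        group
      intro i hi i' hi' H
      simp only [Finset.coe_range, Set.mem_Iio] at hi hi'
      rcases lt_trichotomy i i' with h | h | h
      · exact absurd H (key i i' h hi')
      · exact h
      · exact absurd H.symm (key i' i h hi)) (W := wsp ρ Q lam)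
    (fun v hv => by rw [← map_pow]; exact apply_mem_wsp hb hv) (fun i _ v hv g => by
      rw [← map_pow]
      exact mem_wsp.1 (apply_mem_wsp_conj (pow_mem hx i) hv) g g.2) hf h1
  rw [← map_pow] at hf1W
  have hd1 : f1.natDegree ≠ 0 := by
    intro h
    obtain ⟨v, hv, hv0⟩ := Submodule.exists_mem_ne_zero_of_ne_bot h0
    have := hf1W v hv
    rw [eq_C_of_natDegree_eq_zero h] at this hf1
    simp only [aeval_C, Module.algebraMap_end_apply, smul_eq_zero] at this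
    exact this.elim (fun h2 => hf1 (by rw [h2, map_zero])) hv0
  have hjn' : j ≤ n := by
    by_contra! h
    exact absurd hdeg (not_lt.2 (((Nat.pow_le_pow_right hp'.out.pos h).trans
      (Nat.le_mul_of_pos_right (p ^ j) (Nat.pos_of_ne_zero hd1))).trans hd))
  obtain ⟨k, rfl⟩ := Nat.exists_eq_add_of_le hjn'
  refine ⟨j, k, rfl, hb, (wact_special hQ h0 hp ⟨_, hb⟩ ?_ hf1 hf1W ?_).imp id fun h =>
    ⟨h.1, (Nat.mul_le_mul_left _ h.2).trans hd⟩⟩
  · rw [← map_pow]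
    refine wact_eq_one_of_mem_centralizer _ ?_
    rwa [SubmonoidClass.coe_pow, ← pow_mul, ← pow_add]
  · refine Nat.lt_of_mul_lt_mul_left (a := p ^ j) (hd.trans_lt ?_)
    rwa [← pow_add]

end H76
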