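import Mathlib
import Cfsg.Agent.Base
import Cfsg.Agent.Lib.FGS.HHGroup

/-! Tools for the reduced situation: an elementary abelian self-centralizing normal `p`-subgroup
`V` with `O_p(H / V) = 1`. -/

set_option autoImplicit false

namespace H76

open Polynomial Module Subgroup Cfsg H46
open scoped commutatorElement

variable {H : Type*} [Group H] {p : ℕ}

theorem geom_sum_eq_sub_one_pow [hp : Fact p.Prime] {R : Type*} [Ring R] [Algebra (ZMod p) R]
    (u : R) (k : ℕ) : ∑ i ∈ Finset.range (p ^ k), u ^ i = (u - 1) ^ (p ^ k - 1) := by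
  have h : (∑ i ∈ Finset.range (p ^ k), (X : (ZMod p)[X]) ^ i) = (X - 1) ^ (p ^ k - 1) := by
    have h0 : (X - 1 : (ZMod p)[X]) ≠ 0 := by simpa using X_sub_one_pow_ne_zero (F := ZMod p) 1
    refine mul_right_cancel₀ h0 ?_
    rw [geom_sum_mul, ← pow_succ, Nat.sub_add_cancel (Nat.one_le_pow _ _ hp.out.pos),
      sub_pow_char_pow, one_pow]
  rw [← aeval_geom_poly (F := ZMod p), h]
  simp

theorem sub_one_pow_prime_pow [hp : Fact p.Prime] {R : Type*} [Ring R] [Algebra (ZMod p) R]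
    (u : R) (k : ℕ) : (u - 1) ^ p ^ k = u ^ p ^ k - 1 := by
  rw [← geom_sum_mul, geom_sum_eq_sub_one_pow, ← pow_succ,
    Nat.sub_add_cancel (Nat.one_le_pow _ _ hp.out.pos)]

theorem pow_eq_one_of_sub_one_pow_eq_zero [hp : Fact p.Prime] {R : Type*} [Ring R]
    [Algebra (ZMod p) R] {u : R} {n k : ℕ} (h : (u - 1) ^ n = 0) (hk : n ≤ p ^ k) :
    u ^ p ^ k = 1 := by
  rw [← sub_eq_zero, ← sub_one_pow_prime_pow, pow_eq_zero_of_le hk h]

variable (V : Subgroup H) [hN : V.Normal] (hV : IsMulCommutative V ∧ ∀ x : V, x ^ p = 1)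

theorem conjRep_eq_one_of_mem {v : H} (hv : v ∈ V) : conjRep V hV v = 1 :=
  (conjRep_eq_one_iff V hV).2 fun w hw =>
    congrArg Subtype.val (hV.1.is_comm.comm (⟨w, hw⟩ : V) ⟨v, hv⟩)

theorem conjRep_eq_one_iff_mem (hk : (QuotientGroup.mk' V).ker = centralizer (V : Set H))
    {g : H} : conjRep V hV g = 1 ↔ g ∈ V := by
  rw [conjRep_eq_one_iff, ← hk, QuotientGroup.ker_mk']

theorem conjRep_sub_one_of (g : H) (v : V) :
    (conjRep V hV g - 1) (EA.of hV v) =
      EA.of hV ⟨⁅g, (v : H)⁆, mul_mem (hN.conj_mem _ v.2 g) (inv_mem v.2)⟩ := by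
  rw [LinearMap.sub_apply, conjRep_of, End.one_apply, sub_eq_add_neg, ← EA.of_inv, ← EA.of_mul]
  rfl

theorem pow_mem_of_sub_one_pow_eq_zero [Fact p.Prime]
    (hk : (QuotientGroup.mk' V).ker = centralizer (V : Set H)) {c : H} {n k : ℕ}
    (h : (conjRep V hV c - 1) ^ n = 0) (hn : n ≤ p ^ k) : c ^ p ^ k ∈ V := by
  rw [← conjRep_eq_one_iff_mem V hV hk, map_pow]
  exact pow_eq_one_of_sub_one_pow_eq_zero h hn

/-- A `p`-element modulo `V` whose commutators with `O_{p,p'}` are `p`-elements modulo `V` lies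
in `V`. -/
theorem mem_of_forall_commutator_pow_mem [Finite H] [hp : Fact p.Prime]
    (hsol : IsPSolvable p (H ⧸ V)) (hO : pCore p (H ⧸ V) = ⊥) {a : H} {k : ℕ}
    (ha : a ^ p ^ k ∈ V)
    (h : ∀ r : H, (r : H ⧸ V) ∈ pPrimeCore p (H ⧸ V) → ∃ l, ⁅r, a⁆ ^ p ^ l ∈ V) : a ∈ V := by
  have hC := H23.centralizer_pPrimeCore_le_of_isPSolvable hsol (f := MonoidHom.id _)
    Function.surjective_id hO
  have key : ∀ {x : H} {l : ℕ}, (x : H ⧸ V) ∈ pPrimeCore p (H ⧸ V) → x ^ p ^ l ∈ V → x ∈ V := by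
    intro x l hx hl
    refine mem_of_pow_mem_of_coprime
      ((H1.coprime_orderOf_of_mem_pPrimeCore hx).pow_right l) ?_ hl
    rw [← QuotientGroup.eq_one_iff, QuotientGroup.mk_pow, pow_orderOf_eq_one]
  refine key (hC fun r hr => ?_) ha
  obtain ⟨r, rfl⟩ := QuotientGroup.mk_surjective r
  obtain ⟨l, hl⟩ := h r hr
  have h1 : ((⁅r, a⁆ : H) : H ⧸ V) = ⁅(r : H ⧸ V), (a : H ⧸ V)⁆ :=
    map_commutatorElement (QuotientGroup.mk' V) r a
  have h2 := key (x := ⁅r, a⁆) (by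
    rw [h1, commutatorElement_def, mul_assoc, mul_assoc, ← mul_assoc (a : H ⧸ V)]
    exact mul_mem hr (Normal.conj_mem inferInstance _ (inv_mem hr) _)) hl
  rw [← commutatorElement_eq_one_iff_mul_comm, ← h1, QuotientGroup.eq_one_iff]
  exact h2

include hV in
/-- A `p`-element modulo `V` acting quadratically with respect to a subgroup `W` normalized by
`O_{p,p'}` lies in `V`. -/
theorem mem_of_stabilizes [Finite H] [hp : Fact p.Prime]
    (hk : (QuotientGroup.mk' V).ker = centralizer (V : Set H))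
    (hsol : IsPSolvable p (H ⧸ V)) (hO : pCore p (H ⧸ V) = ⊥) {W : Subgroup H}
    (hW : (pPrimeCore p (H ⧸ V)).comap (QuotientGroup.mk' V) ≤ normalizer (W : Set H)) {a : H}
    (h1 : ∀ v ∈ V, ⁅a, v⁆ ∈ W) (h2 : ∀ w ∈ W, ⁅a, w⁆ = 1) : a ∈ V := by
  let U : Submodule (ZMod p) (EA p V hV) := EA.subgroupEquiv hV (W.subgroupOf V)
  let S : End (ZMod p) (EA p V hV) → Prop := fun n => (∀ v, n v ∈ U) ∧ ∀ w ∈ U, n w = 0
  have hS : ∀ b : H, (∀ v ∈ V, ⁅b, v⁆ ∈ W) → (∀ w ∈ W, ⁅b, w⁆ = 1) → S (conjRep V hV b - 1) := by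
    intro b h1 h2
    constructor
    · intro v
      obtain ⟨v, rfl⟩ := (EA.of hV).surjective v
      rw [conjRep_sub_one_of, EA.mem_subgroupEquiv]
      exact h1 v v.2
    · intro v hv
      obtain ⟨v, rfl⟩ := (EA.of hV).surjective v
      rw [conjRep_sub_one_of, EA.of_eq_zero]
      exact Subtype.ext (h2 v ((EA.mem_subgroupEquiv hV _ _).1 hv))
  have hmul : ∀ m n, S m → S n → m * n = 0 := fun m n hm hn =>
    LinearMap.ext fun v => hm.2 _ (hn.1 v)
  have hp2 := hp.out.two_le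
  have ha := hS a h1 h2
  refine mem_of_forall_commutator_pow_mem V hsol hO (k := 1)
    (pow_mem_of_sub_one_pow_eq_zero V hV hk (n := 2) (by rw [sq, hmul _ _ ha ha]) (by simpa))
    fun r hr => ⟨1, pow_mem_of_sub_one_pow_eq_zero V hV hk (n := 2) ?_ (by simpa)⟩
  have hrW := hW (show r ∈ _ from hr)
  have hb := hS (r * a * r⁻¹) (fun v hv => by
      have := (mem_normalizer_iff.1 hrW _).1 (h1 _ (hN.conj_mem' _ hv r))
      convert this using 1
      simp only [commutatorElement_def]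
      group) fun w hw => by
      have := h2 _ ((mem_normalizer_iff''.1 hrW _).1 hw)
      have h3 : ⁅r * a * r⁻¹, w⁆ = r * ⁅a, r⁻¹ * w * r⁆ * r⁻¹ := by
        simp only [commutatorElement_def]
        group
      rw [h3, this, mul_one, mul_inv_cancel]
  set m := conjRep V hV (r * a * r⁻¹) - 1 with hm
  set n := conjRep V hV a - 1 with hn
  have h3 : conjRep V hV a⁻¹ = 1 - n := by
    have h4 : conjRep V hV a * (1 - n) = 1 := by
      rw [show conjRep V hV a = n + 1 by rw [hn, sub_add_cancel], add_mul, mul_sub, hmul _ _ ha ha]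
      simp
    calc conjRep V hV a⁻¹ = conjRep V hV a⁻¹ * (conjRep V hV a * (1 - n)) := by rw [h4, mul_one]
      _ = 1 - n := by rw [← mul_assoc, ← map_mul, inv_mul_cancel, map_one, one_mul]
  have h5 : conjRep V hV ⁅r, a⁆ - 1 = m - n := by
    rw [commutatorElement_def, map_mul, h3, show conjRep V hV (r * a * r⁻¹) = m + 1 by
      rw [hm, sub_add_cancel], add_mul, mul_sub, hmul _ _ hb ha]
    simp only [mul_one, one_mul, sub_zero]
    abel
  rw [h5, sq, sub_mul, mul_sub m m, mul_sub n m, hmul _ _ hb hb, hmul _ _ hb ha, hmul _ _ ha hb,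
    hmul _ _ ha ha]
  simp

end H76
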