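import Mathlib
import Cfsg.Agent.Base
import Cfsg.Agent.Lib.FGS.HHWeight
import Cfsg.Agent.Lib.FGS.Reduced
import Cfsg.Agent.Lib.Core.CoprimeSylow
import Cfsg.Agent.Lib.PGroup.Critical

/-! Exceptional elements of linear groups and the bounds `2 e` and `2 e - 1` for the
`p`-length. -/

set_option autoImplicit false

namespace H76

open Polynomial Module Subgroup Cfsg H46
open scoped commutatorElement TensorProduct

universe u

variable {F : Type*} [Field F] {V : Type*} [AddCommGroup V] [Module F V] {G : Type*} [Group G]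

theorem exists_critical [Finite G] {q : ℕ} [hq : Fact q.Prime] {P : Subgroup G}
    (hP : IsPGroup q P) : ∃ Q ≤ P, ClassTwo Q ∧ normalizer (P : Set G) ≤ normalizer (Q : Set G) ∧
      (∀ x ∈ Q, x ^ q ∈ centralizer (Q : Set G)) ∧
      (∀ x ∈ Q, ∀ g ∈ P, ⁅g, x⁆ ∈ centralizer (Q : Set G)) ∧
      ∀ x ∈ normalizer (P : Set G), (orderOf x).Coprime (Nat.card P) →
        x ∈ centralizer (Q : Set G) → x ∈ centralizer (P : Set G) := by
  obtain ⟨C, hC⟩ := H5.exists_isCritical hP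
  have := hC.char
  have key : ∀ x : P, x ∈ centralizer (C : Set P) →
      (x : G) ∈ centralizer ((C.map P.subtype : Subgroup G) : Set G) := by
    rintro x hx _ ⟨c, hc, rfl⟩
    exact congrArg Subtype.val (hx c hc)
  have h1 : ∀ x ∈ C.map P.subtype, ∀ g ∈ P,
      ⁅g, x⁆ ∈ centralizer ((C.map P.subtype : Subgroup G) : Set G) := by
    rintro _ ⟨x, hx, rfl⟩ g hg
    rw [← commutatorElement_inv]
    exact inv_mem (key _ (hC.commutator_mem x hx ⟨g, hg⟩))
  refine ⟨C.map P.subtype, map_subtype_le _, ⟨fun a b c => Subtype.ext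
    (h1 b b.2 a (map_subtype_le _ a.2) c c.2).symm⟩,
    H1.normalizer_le_normalizer_map_subtype_of_characteristic P C, ?_, h1, fun x hx hc hxC => ?_⟩
  · rintro _ ⟨x, hx, rfl⟩
    exact key _ (hC.pow_mem x hx)
  · rcases eq_or_ne P ⊥ with rfl | hP0
    · intro g hg
      rw [mem_bot.1 hg, one_mul, mul_one]
    have h2 := hC.aut_eq_one hP (conjAut P hx) (((hc.coprime_dvd_right
      (H68.dvd_card_of_isPGroup_of_ne_bot hP hP0 le_rfl)).coprime_dvd_left
      (orderOf_dvd_of_pow_eq_one (by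
        ext g
        rw [coe_conjAut_pow, pow_orderOf_eq_one]
        simp)))) fun c hc => Subtype.ext (by
      rw [coe_conjAut]
      exact mul_inv_eq_iff_eq_mul.2 (hxC _ ⟨c, hc, rfl⟩).symm)
    intro g hg
    have := congrArg Subtype.val (MulEquiv.congr_fun h2 ⟨g, hg⟩)
    rw [coe_conjAut] at this
    exact (mul_inv_eq_iff_eq_mul.1 this).symm

theorem cast_card_ne_zero_of_le {K Q : Subgroup G} [Fintype Q] (hK : (Nat.card K : F) ≠ 0)
    (h : Q ≤ K) : (Fintype.card Q : F) ≠ 0 := by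
  intro h0
  obtain ⟨c, hc⟩ := card_dvd_of_le h
  rw [Nat.card_eq_fintype_card (α := Q)] at hc
  exact hK (by rw [hc, Nat.cast_mul, h0, zero_mul])

theorem coprime_orderOf_of_mem {p n : ℕ} {S : Subgroup G} (hS : IsPGroup p S) (hn : n.Coprime p)
    {x : G} (hx : x ∈ S) : (orderOf x).Coprime n := by
  simpa using (H5.coprime_orderOf_of_isPGroup hS hn ⟨x, hx⟩).symm

theorem aeval_conj_eq_zero (ρ : G →* End F V) {f : F[X]} {g : G} (h : aeval (ρ g) f = 0) (m : G) :
    aeval (ρ (m * g * m⁻¹)) f = 0 := by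
  have h1 : ∀ f : F[X], aeval (ρ (m * g * m⁻¹)) f * ρ m = ρ m * aeval (ρ g) f := by
    intro f
    induction f using Polynomial.induction_on' with
    | add a b ha hb => rw [map_add, map_add, add_mul, mul_add, ha, hb]
    | monomial n a =>
      simp only [aeval_monomial, ← map_pow, conj_pow, Algebra.algebraMap_eq_smul_one,
        smul_mul_assoc, one_mul, mul_smul_comm, ← map_mul, inv_mul_cancel_right]
  have h2 := h1 f
  rw [h, mul_zero] at h2
  exact (isUnit_rep ρ m).mul_left_eq_zero.1 h2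

theorem isPGroup_map_subgroupOf {G' : Type*} [Group G'] {p : ℕ} {S T : Subgroup G}
    (hS : IsPGroup p S) (φ : T →* G') : IsPGroup p ((S.subgroupOf T).map φ) :=
  (H68.isPGroup_subgroupOf hS T).map φ

/-- The top powers of two exceptional elements commute. -/
theorem commutator_pow_mem_centralizer [IsAlgClosed F] [FiniteDimensional F V] [Finite G]
    (ρ : G →* End F V) {p : ℕ} [hp : Fact p.Prime] {K S : Subgroup G}
    (hK : (Nat.card K).Coprime p) (hKF : (Nat.card K : F) ≠ 0) (hf : ∀ g ∈ K, ρ g = 1 → g = 1)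
    (hS : IsPGroup p S) (hSK : S ≤ normalizer (K : Set G)) {g g' : G} (hg : g ∈ S) (hg' : g' ∈ S)
    {n n' : ℕ} (hn : g ^ p ^ (n + 1) = 1) (hn' : g' ^ p ^ (n' + 1) = 1) {f f' : F[X]}
    (hf0 : f ≠ 0) (hf0' : f' ≠ 0) (h0 : aeval (ρ g) f = 0) (h0' : aeval (ρ g') f' = 0)
    (hd : f.natDegree < p ^ (n + 1)) (hd' : f'.natDegree < p ^ (n' + 1)) :
    ⁅g ^ p ^ n, g' ^ p ^ n'⁆ ∈ centralizer (K : Set G) := by
  have hc : ⁅g ^ p ^ n, g' ^ p ^ n'⁆ ∈ S :=
    mul_mem (mul_mem (mul_mem (pow_mem hg _) (pow_mem hg' _)) (inv_mem (pow_mem hg _)))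
      (inv_mem (pow_mem hg' _))
  have := H2.le_of_forall_invariant_sylowIn_le (M := centralizer {⁅g ^ p ^ n, g' ^ p ^ n'⁆}) hSK
    (H1.coprime_card_of_isPGroup_of_coprime hS hK) (Or.inl (H1.isSolvable_of_isPGroup hS))
    fun q _ P hP hSP => ?_
  · exact fun k hk => mem_centralizer_singleton_iff.1 (this hk)
  obtain ⟨Q, hQP, hcl, hN, -, -, hQ⟩ := exists_critical hP.isPGroup
  let _ := Fintype.ofFinite Q
  have hQK := hQP.trans hP.le
  have hQc : (Nat.card Q).Coprime p := hK.coprime_dvd_left (card_dvd_of_le hQK)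
  have hQF := cast_card_ne_zero_of_le hKF hQK
  have h1 := hQ _ (hSP hc) (coprime_orderOf_of_mem hS (hK.coprime_dvd_left (card_dvd_of_le hP.le))
    hc) (mem_centralizer_of_forall_wact (ρ := ρ) hQF (fun g hg => hf g (hQK hg)) (hN (hSP hc))
      (coprime_orderOf_of_mem hS hQc hc) fun lam hl => ?_)
  · exact fun x hx => mem_centralizer_singleton_iff.2 (h1 x hx)
  obtain ⟨j, k, rfl, hb, h⟩ := exists_wact_special hQF hl hQc.symm (hN (hSP hg))
    (hn ▸ one_mem _) hf0 h0 hd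
  obtain ⟨j', k', rfl, hb', h'⟩ := exists_wact_special hQF hl hQc.symm (hN (hSP hg'))
    (hn' ▸ one_mem _) hf0' h0' hd'
  have e : ((⁅(⟨_, hb⟩ : wstab Q lam) ^ p ^ k, (⟨_, hb'⟩ : wstab Q lam) ^ p ^ k'⁆ : wstab Q lam) :
      G) = ⁅g ^ p ^ (j + k), g' ^ p ^ (j' + k')⁆ := by
    simp [commutatorElement_def, pow_add, pow_mul]
  refine ⟨e ▸ Subtype.prop _, ?_⟩
  rw [show (⟨_, e ▸ Subtype.prop _⟩ : wstab Q lam) = _ from Subtype.ext e.symm,
    map_commutatorElement, map_pow, map_pow, commutatorElement_eq_one_iff_commute]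
  rcases h with h | ⟨h, -⟩
  · rw [h]; exact Commute.one_left _
  rcases h' with h' | ⟨h', -⟩
  · rw [h']; exact Commute.one_right _
  exact h.pow_commute h' (hQc.symm.coprime_dvd_right card_wS_dvd)
    (isPGroup_map_subgroupOf hS (wact ρ Q lam)) ⟨_, pow_mem hg _, rfl⟩ ⟨_, pow_mem hg' _, rfl⟩

theorem cast_ne_zero_of_coprime {p n : ℕ} [hp : Fact p.Prime] [CharP F p] (h : n.Coprime p) :
    (n : F) ≠ 0 := by
  rw [Ne, CharP.cast_eq_zero_iff F p]
  exact (Nat.Prime.coprime_iff_not_dvd hp.out).1 h.symm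

theorem commute_pow_of_exceptional [IsAlgClosed F] [FiniteDimensional F V] [Finite G]
    {p : ℕ} [hp : Fact p.Prime] [CharP F p] (hsol : IsPSolvable p G) (hO : pCore p G = ⊥)
    (ρ : G →* End F V) (hρ : Function.Injective ρ) {S : Subgroup G}
    (hS : IsPGroup p S) {g g' : G} (hg : g ∈ S) (hg' : g' ∈ S)
    {n n' : ℕ} (hn : g ^ p ^ (n + 1) = 1) (hn' : g' ^ p ^ (n' + 1) = 1) {f f' : F[X]}
    (hf0 : f ≠ 0) (hf0' : f' ≠ 0) (h0 : aeval (ρ g) f = 0) (h0' : aeval (ρ g') f' = 0)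
    (hd : f.natDegree < p ^ (n + 1)) (hd' : f'.natDegree < p ^ (n' + 1)) :
    Commute (g ^ p ^ n) (g' ^ p ^ n') := by
  have h1 := H23.centralizer_pPrimeCore_le_of_isPSolvable hsol (f := MonoidHom.id G)
    Function.surjective_id hO (commutator_pow_mem_centralizer ρ H1.coprime_card_pPrimeCore
      (cast_ne_zero_of_coprime H1.coprime_card_pPrimeCore)
      (fun g _ h => hρ (h.trans ρ.map_one.symm)) hS le_normalizer_of_normal hg hg' hn hn' hf0 hf0'
      h0 h0' hd hd')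
  rw [← commutatorElement_eq_one_iff_commute, ← mem_bot, ← H1.inf_pPrimeCore_eq_bot hS]
  exact mem_inf.2 ⟨mul_mem (mul_mem (mul_mem (pow_mem hg _) (pow_mem hg' _))
    (inv_mem (pow_mem hg _))) (inv_mem (pow_mem hg' _)), h1⟩

theorem natDegree_geom_poly_lt {N : ℕ} (hN : N ≠ 0) :
    (∑ i ∈ Finset.range N, (X : F[X]) ^ i).natDegree < N :=
  (natDegree_geom_poly_le N).trans_lt (by omega)

theorem pow_mem_pPrimePCore_odd [IsAlgClosed F] [FiniteDimensional F V] [Finite G]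
    {p : ℕ} [hp : Fact p.Prime] [CharP F p] (hp2 : p ≠ 2) (hsol : IsPSolvable p G)
    (hO : pCore p G = ⊥) (ρ : G →* End F V) (hρ : Function.Injective ρ) {e : ℕ}
    (h : ∀ (y : G) (k : ℕ), y ^ p ^ k = 1 →
      y ^ p ^ (e + 1) = 1 ∧ ∑ i ∈ Finset.range (p ^ (e + 1)), ρ y ^ i = 0)
    {y : G} {k : ℕ} (hy : y ^ p ^ k = 1) : y ^ p ^ e ∈ pPrimePCore p G := by
  obtain ⟨S, hS⟩ := (isPGroup_zpowers_of_pow_eq_one hy).exists_le_sylow
  have hyS := hS (mem_zpowers y)
  obtain ⟨H, _, _, f, W, _, hf, hW1, hW2, hW, hk, -, hs2, hO2⟩ := exists_reduced' hsol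
  by_contra hne
  have hp0 : p ^ (e + 1) ≠ 0 := pow_ne_zero _ hp.out.ne_zero
  have hc : ∀ u ∈ (S : Subgroup G), Commute (y ^ p ^ e) (u ^ p ^ e) := fun u hu => by
    obtain ⟨l, hl⟩ := H68.isPGroup_iff_forall.1 S.isPGroup' u hu
    exact commute_pow_of_exceptional hsol hO ρ hρ S.isPGroup' hyS hu (h y k hy).1 (h u l hl).1
      (geom_poly_ne_zero hp0) (geom_poly_ne_zero hp0) (by rw [aeval_geom_poly, (h y k hy).2])
      (by rw [aeval_geom_poly, (h u l hl).2]) (natDegree_geom_poly_lt hp0)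
      (natDegree_geom_poly_lt hp0)
  have h1 : (conjRep W hW (f y) - 1) ^ (p ^ e + (p ^ e - 1)) = 0 := by
    ext v
    obtain ⟨v, rfl⟩ := (EA.of hW).surjective v
    obtain ⟨u, hu, huv⟩ := pCore_le_map_sylow hf S (hW1.le v.2)
    obtain ⟨w, hw1, hw2⟩ := exists_mul_pow_eq W hW (f y) v (p ^ e)
    have h2 := (hc _ (mul_mem hu hyS)).map f
    rw [map_pow, map_pow, map_mul, huv, hw1] at h2
    rw [pow_add, End.mul_apply, ← geom_sum_eq_sub_one_pow, ← hw2, sub_one_pow_prime_pow, ← map_pow,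
      conjRep_sub_one_of, LinearMap.zero_apply, EA.of_eq_zero]
    refine Subtype.ext (commutatorElement_eq_one_iff_commute.2 ?_)
    simpa using h2.mul_right (Commute.refl (f y ^ p ^ e)).inv_right
  have h3 := hp.out.two_le
  have h4 := pow_pos hp.out.pos e
  rcases hh_elemAb W hW (QuotientGroup.mk'_surjective W) hk hs2 hO2 (x := f y) (n := e)
    (orderOf_eq_prime_pow (fun h2 => hne (by
      rw [← hW2, mem_comap, map_pow]
      exact (QuotientGroup.eq_one_iff _).1 h2)) (by rw [← map_pow, ← map_pow, (h y k hy).1]; simp))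
    (X_sub_one_pow_ne_zero (p ^ e + (p ^ e - 1))) (by simpa using h1) with h2 | h2
  · rw [natDegree_X_sub_one_pow, pow_succ] at h2
    have : p ^ e * 2 ≤ p ^ e * p := Nat.mul_le_mul_left _ h3
    omega
  · have h5 := (h2.two_pow hp2).2.1
    rw [natDegree_X_sub_one_pow, Nat.add_sub_cancel] at h5
    have : p ^ e * 2 ≤ p ^ e * (p - 1) := Nat.mul_le_mul_left _ (by omega)
    omega

theorem commutator_mem_of_le_normalizer {T : Subgroup G} {x y : G} (hx : x ∈ T)
    (hy : y ∈ normalizer (T : Set G)) : ⁅x, y⁆ ∈ T := by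
  rw [commutatorElement_def, mul_assoc, mul_assoc, ← mul_assoc y]
  exact mul_mem hx ((mem_normalizer_iff.1 hy _).1 (inv_mem hx))

theorem local_two [IsAlgClosed F] [FiniteDimensional F V] [Finite G] (ρ : G →* End F V)
    {Q : Subgroup G} [Fintype Q] [ClassTwo Q] (hQ : (Fintype.card Q : F) ≠ 0)
    (hf : ∀ g ∈ Q, ρ g = 1 → g = 1) (hQ2 : (Nat.card Q).Coprime 2) {N T : Subgroup G}
    (hNQ : N ≤ normalizer (Q : Set G)) (hTN : T ≤ N) (hNT : N ≤ normalizer (T : Set G))
    (hT : IsPGroup 2 T) {g : G} (hg : g ∈ N) {n : ℕ} (hn : g ^ 2 ^ (n + 1) = 1) {f : F[X]}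
    (hf0 : f ≠ 0) (h0 : aeval (ρ g) f = 0) (hd : f.natDegree < 2 ^ (n + 1)) {y : G}
    (hy : y ∈ closure {x | ∃ m ∈ N, x = m * g ^ 2 ^ n * m⁻¹}) (hyc : (orderOf y).Coprime 2) :
    ⁅T, zpowers y⁆ ≤ centralizer (Q : Set G) := by
  set L := closure {x | ∃ m ∈ N, x = m * g ^ 2 ^ n * m⁻¹} with hL
  have hLN : L ≤ N := (closure_le _).2 (by
    rintro _ ⟨m, hm, rfl⟩
    exact mul_mem (mul_mem hm (pow_mem hg _)) (inv_mem hm))
  have hNL : N ≤ normalizer (L : Set G) := H68.le_normalizer_of_forall_cj_le fun a ha => by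
    rw [hL, H68.cj, MonoidHom.map_closure, closure_le]
    rintro _ ⟨_, ⟨m, hm, rfl⟩, rfl⟩
    exact subset_closure ⟨a * m, mul_mem ha hm, by simp [mul_assoc]⟩
  have hNM : N ≤ normalizer ((T ⊓ L : Subgroup G) : Set G) := H2.le_normalizer_inf hNT hNL
  have key : ∀ y ∈ L, (orderOf y).Coprime 2 → ∀ m ∈ T ⊓ L, ⁅m, y⁆ ∈ centralizer (Q : Set G) := by
    intro y hy hyc m hm
    have hmy := commutator_mem_of_le_normalizer hm (hNM (hLN hy))
    refine mem_centralizer_of_forall_wact (ρ := ρ) hQ hf (hNQ (hTN hmy.1))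
      (coprime_orderOf_of_mem hT hQ2 hmy.1) fun lam hl => ?_
    have hsp := fun m (hm : m ∈ N) => exists_wact_special hQ hl hQ2.symm
      (hNQ (mul_mem (mul_mem hm hg) (inv_mem hm))) (n := n)
      (by rw [conj_pow, hn, mul_one, mul_inv_cancel]; exact one_mem _) hf0
      (aeval_conj_eq_zero ρ h0 m) hd
    have hLs : L ≤ wstab Q lam := (closure_le _).2 (by
      rintro _ ⟨m, hm, rfl⟩
      obtain ⟨j, k, rfl, hb, -⟩ := hsp m hm
      rw [← conj_pow, pow_add, pow_mul]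
      exact pow_mem hb _)
    set φ := wact ρ Q lam with hφ
    let M' := ((T ⊓ L).subgroupOf (wstab Q lam)).map φ
    have hM' : ∀ x : wstab Q lam, (x : G) ∈ N → φ x ∈ normalizer (M' : Set _) := by
      intro x hx
      refine mem_normalizer_fintype ?_
      rintro _ ⟨a, ha, rfl⟩
      exact ⟨x * a * x⁻¹, (mem_normalizer_iff.1 (hNM hx) (a : G)).1 ha, by simp⟩
    have hD : L ≤ ((H2.relCentralizer M' ((frattini M').map M'.subtype)).comap φ).map
        (wstab Q lam).subtype := (closure_le _).2 (by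
      clear hmy hm m
      rintro _ ⟨m, hm, rfl⟩
      obtain ⟨j, k, rfl, hb, h⟩ := hsp m hm
      have hbN : (m * g * m⁻¹) ^ 2 ^ j ∈ N := pow_mem (mul_mem (mul_mem hm hg) (inv_mem hm)) _
      refine ⟨⟨_, hb⟩ ^ 2 ^ k, ?_, by simp [pow_add, pow_mul]⟩
      rw [SetLike.mem_coe, mem_comap, map_pow]
      rcases h with h | ⟨h, -⟩
      · rw [h]; exact one_mem _
      refine ⟨H1.normalizer_le_normalizer_map_subtype_of_characteristic M' _
        (pow_mem (hM' _ hbN) _), fun z hz => ?_⟩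
      rw [← commutatorElement_inv]
      refine inv_mem (h.commutator_mem_frattini (hQ2.symm.coprime_dvd_right card_wS_dvd)
        (isPGroup_map_subgroupOf (S := T ⊔ zpowers (m * g * m⁻¹)) (IsPGroup.to_sup_of_normal_left'
          hT (isPGroup_zpowers_of_pow_eq_one (n := j + k + 1) (by
            rw [conj_pow, hn, mul_one, mul_inv_cancel]))
          (zpowers_le.2 (hNT (mul_mem (mul_mem hm hg) (inv_mem hm))))) φ)
        ⟨_, mem_sup_right (npow_mem_zpowers _ _), rfl⟩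
        (map_mono (subgroupOf_mono _ (inf_le_left.trans le_sup_left))) (hM' _ hbN) hz))
    obtain ⟨y', hy', rfl⟩ := hD hy
    have hM'p : IsPGroup 2 M' := isPGroup_map_subgroupOf (hT.to_inf_left) φ
    have h1 := H2.le_centralizer_of_commutator_le_frattini (A := zpowers (φ y')) (K := M')
      (zpowers_le.2 (hM' _ (hLN hy))) ((H2.coprime_card_of_isPGroup (by
        rw [Nat.card_zpowers]
        exact hyc.coprime_dvd_left ((orderOf_map_dvd φ y').trans (orderOf_coe y').symm.dvd))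
        hM'p).coprime_dvd_right (card_subgroup_dvd_card _)) (by
        rw [commutator_comm]
        exact (H2.le_relCentralizer_iff.1 (zpowers_le.2 hy')).2) (mem_zpowers _)
    refine ⟨hLs hmy.2, ?_⟩
    have h2 := h1 (φ ⟨m, hLs hm.2⟩) ⟨_, hm, rfl⟩
    rw [← commutatorElement_eq_one_iff_mul_comm, ← map_commutatorElement] at h2
    exact h2
  have hyT : zpowers y ≤ normalizer (T : Set G) := zpowers_le.2 (hNT (hLN hy))
  rw [← H2.commutator_commutator_eq hyT (H2.coprime_card_of_isPGroup (by rwa [Nat.card_zpowers]) hT),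
    commutator_le]
  intro m hm y' hy'
  refine key y' (zpowers_le.2 hy hy') (hyc.coprime_dvd_left (orderOf_dvd_of_mem_zpowers hy')) m
    (le_inf (H2.commutator_le_of_le_normalizer hyT) ?_ hm)
  rw [commutator_comm]
  exact (commutator_mono (zpowers_le.2 hy) le_rfl).trans
    (H2.commutator_le_of_le_normalizer (hTN.trans hNL))

theorem exists_pow_coprime [Finite G] (p : ℕ) [hp : Fact p.Prime] (g : G) :
    ∃ k, (orderOf (g ^ p ^ k)).Coprime p := by
  obtain ⟨k, m, hm, h⟩ := Nat.exists_eq_pow_mul_and_not_dvd (orderOf_pos g).ne' p hp.out.one_lt.ne'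
  refine ⟨k, ((Nat.Prime.coprime_iff_not_dvd hp.out).2 hm).symm.coprime_dvd_left ?_⟩
  rw [orderOf_dvd_iff_pow_eq_one, ← pow_mul, ← h, pow_orderOf_eq_one]

theorem exists_coprime_lift [Finite G] {G' : Type*} [Group G'] {p : ℕ} [Fact p.Prime]
    (f : G →* G') {L : Subgroup G} {z : G'} (hz : z ∈ L.map f) (hc : (orderOf z).Coprime p) :
    ∃ y ∈ L, f y = z ∧ (orderOf y).Coprime p := by
  obtain ⟨y, hy, rfl⟩ := hz
  obtain ⟨k, hk⟩ := exists_pow_coprime p y
  obtain ⟨m, hm⟩ := exists_pow_eq_self_of_coprime (hc.symm.pow_left k)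
  exact ⟨(y ^ p ^ k) ^ m, pow_mem (pow_mem hy _) _, by rw [map_pow, map_pow, hm],
    hk.coprime_dvd_left (orderOf_pow_dvd m)⟩

theorem pow_mem_pPrimePCore_two [IsAlgClosed F] [FiniteDimensional F V] [Finite G] [CharP F 2]
    (hsol : IsPSolvable 2 G) (hO : pCore 2 G = ⊥) (ρ : G →* End F V) (hρ : Function.Injective ρ)
    {e : ℕ} {y : G} (hy : y ^ 2 ^ (e + 1) = 1) {f : F[X]} (hf0 : f ≠ 0) (h0 : aeval (ρ y) f = 0)
    (hd : f.natDegree < 2 ^ (e + 1)) : y ^ 2 ^ e ∈ pPrimePCore 2 G := by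
  obtain ⟨S, hS⟩ := (isPGroup_zpowers_of_pow_eq_one hy).exists_le_sylow
  have hyS := hS (mem_zpowers y)
  set K := pPrimeCore 2 G with hK
  have hKc : (Nat.card K).Coprime 2 := H1.coprime_card_pPrimeCore
  let π := QuotientGroup.mk' K
  set T := (S : Subgroup G) ⊓ pPrimePCore 2 G with hTdef
  have hT : H68.SylowIn 2 T (pPrimePCore 2 G) :=
    (H68.sylowIn_top S).inf_of_normal_le le_normalizer_of_normal le_top
  have hTπ : T.map π = pCore 2 (G ⧸ K) := by
    have := hT.map π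
    rw [H23.map_mk'_pPrimePCore] at this
    exact (this.eq_of_le H1.isPGroup_pCore this.le le_rfl).symm
  have hST : (S : Subgroup G) ≤ normalizer (T : Set G) :=
    H2.le_normalizer_inf le_normalizer le_normalizer_of_normal
  have hTK : T ⊓ K = ⊥ := H1.inf_pPrimeCore_eq_bot hT.isPGroup
  have hCK : centralizer (K : Set G) ≤ K := H23.centralizer_pPrimeCore_le_of_isPSolvable hsol
    (f := MonoidHom.id G) Function.surjective_id hO
  have hC : centralizer (pCore 2 (G ⧸ K) : Set (G ⧸ K)) ≤ pCore 2 (G ⧸ K) :=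
    H23.isPConstrained_iff.1 (H23.isPConstrained_of_isPSolvable hsol)
  refine H1.le_pCore (N := normalClosure {π (y ^ 2 ^ e)}) ?_ (subset_normalClosure rfl)
  refine H68.isPGroup_iff_forall.2 fun z₀ hz₀ => ?_
  obtain ⟨k, hk⟩ := exists_pow_coprime 2 z₀
  refine ⟨k, ?_⟩
  have hz := pow_mem hz₀ (2 ^ k)
  generalize z₀ ^ 2 ^ k = z at hk hz
  suffices hzC : z ∈ centralizer (pCore 2 (G ⧸ K) : Set (G ⧸ K)) by
    obtain ⟨l, hl⟩ := H68.isPGroup_iff_forall.1 H1.isPGroup_pCore z (hC hzC)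
    exact mem_bot.1 (mem_of_pow_mem_of_coprime (hk.pow_right l)
      (by rw [pow_orderOf_eq_one]; exact one_mem _) (by rw [hl]; exact one_mem _))
  rw [← hTπ]
  rintro _ ⟨τ, hτ, rfl⟩
  obtain ⟨c, hc, hcπ⟩ : ⁅π τ, z⁆ ∈ T.map π :=
    commutator_mem_of_le_normalizer (mem_map_of_mem π hτ) (hTπ ▸ le_normalizer_of_normal (mem_top z))
  rw [← commutatorElement_eq_one_iff_mul_comm, ← hcπ]
  have := H2.le_of_forall_invariant_sylowIn_le (M := centralizer {c}) (K := K)
    (A := S) le_normalizer_of_normal (H1.coprime_card_of_isPGroup_of_coprime S.isPGroup' hKc)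
    (Or.inl (H1.isSolvable_of_isPGroup S.isPGroup')) fun q _ P hP hSP => ?_
  · exact (QuotientGroup.eq_one_iff _).2
      (hCK fun k hk => mem_centralizer_singleton_iff.1 (this hk))
  obtain ⟨Q, hQP, hcl, hN, -, -, hQ⟩ := exists_critical hP.isPGroup
  let _ := Fintype.ofFinite Q
  have hQK := hQP.trans hP.le
  have hNπ : (normalizer (T : Set G) ⊓ normalizer (P : Set G)).map π = ⊤ := by
    rw [eq_top_iff]
    rintro g -
    obtain ⟨g, rfl⟩ := QuotientGroup.mk'_surjective K g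
    obtain ⟨a, ha, x, hx, rfl⟩ := hT.frattini (g := g) (le_normalizer_of_normal (mem_top g))
    obtain ⟨t, ht, hta⟩ : π a ∈ T.map π := hTπ ▸ ha
    have hx' := mul_mem (le_normalizer ht) hx
    obtain ⟨d, hd, hdP⟩ := H2.exists_centralizer_cj_eq_of_sylowIn (A := T) le_normalizer_of_normal
      (H1.coprime_card_of_isPGroup_of_coprime hT.isPGroup hKc)
      (Or.inl (H1.isSolvable_of_isPGroup hT.isPGroup)) hP
      (hP.cj_of_mem_normalizer (le_normalizer_of_normal (mem_top (t * x))))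
      (inf_le_left.trans hSP) (by
        rw [← H68.cj_normalizer, ← H68.cj_eq_of_mem_normalizer hx']
        exact H68.cj_mono _ (inf_le_left.trans hSP))
    refine ⟨d⁻¹ * (t * x),
      mem_inf.2 ⟨mul_mem (inv_mem (centralizer_le_normalizer _ hd.2)) hx', ?_⟩, ?_⟩
    · rw [H68.mem_normalizer_iff_cj, H68.cj_mul, ← hdP, H68.cj_inv_cj]
    · rw [map_mul, map_mul, map_mul, hta, map_inv,
        show π d = 1 from (QuotientGroup.eq_one_iff d).2 hd.1, inv_one, one_mul]
  set N := normalizer (T : Set G) ⊓ normalizer (P : Set G) with hNdef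
  obtain ⟨w, hw, rfl, hwc⟩ := exists_coprime_lift π
    (L := closure {x | ∃ m ∈ N, x = m * y ^ 2 ^ e * m⁻¹}) (z := z) (by
      rw [normalClosure] at hz
      rw [MonoidHom.map_closure]
      refine closure_mono ?_ hz
      intro a ha
      obtain ⟨_, rfl, ha⟩ := Group.mem_conjugatesOfSet_iff.1 ha
      obtain ⟨b, rfl⟩ := isConj_iff.1 ha
      obtain ⟨m, hm, rfl⟩ : b ∈ N.map π := hNπ ▸ mem_top b
      exact ⟨_, ⟨m, hm, rfl⟩, by simp⟩) hk
  have h1 := local_two ρ (cast_card_ne_zero_of_le (cast_ne_zero_of_coprime hKc) hQK)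
    (fun g _ h => hρ (h.trans ρ.map_one.symm)) (hKc.coprime_dvd_left (card_dvd_of_le hQK))
    (N := N) (T := T) (inf_le_right.trans hN) (le_inf le_normalizer (inf_le_left.trans hSP))
    inf_le_left hT.isPGroup ⟨hST hyS, hSP hyS⟩ hy hf0 h0 hd hw hwc
    (commutator_mem_commutator hτ (mem_zpowers w))
  have hwN : w ∈ N := (closure_le N).2 (by
    rintro _ ⟨m, hm, rfl⟩
    exact mul_mem (mul_mem hm (pow_mem (show y ∈ N from ⟨hST hyS, hSP hyS⟩) _)) (inv_mem hm)) hw
  have h2 : c = ⁅τ, w⁆ := by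
    rw [← inv_mul_eq_one, ← mem_bot, ← hTK]
    refine mem_inf.2 ⟨mul_mem (inv_mem hc) (commutator_mem_of_le_normalizer hτ hwN.1), ?_⟩
    rw [← QuotientGroup.eq]
    exact hcπ.trans (map_commutatorElement π τ w).symm
  have h3 := hQ c (hSP hc.1) (coprime_orderOf_of_mem hT.isPGroup
    (hKc.coprime_dvd_left (card_dvd_of_le hP.le)) hc) (h2 ▸ h1)
  exact fun x hx => mem_centralizer_singleton_iff.2 (h3 x hx)

theorem exists_linear {G : Type u} [Group G] [Finite G] {p : ℕ} [hp : Fact p.Prime]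
    (hsol : IsPSolvable p G) {e : ℕ} (hexp : PExp p (e + 1) G) :
    ∃ (Y : Type u) (_ : Group Y) (_ : Finite Y) (φ : G →* Y) (W : Type u) (_ : AddCommGroup W)
      (_ : Module (AlgebraicClosure (ZMod p)) W)
      (_ : FiniteDimensional (AlgebraicClosure (ZMod p)) W)
      (ρ : Y →* End (AlgebraicClosure (ZMod p)) W), Function.Surjective φ ∧
      φ.ker = pPrimePCore p G ∧ IsPSolvable p Y ∧ pCore p Y = ⊥ ∧ Function.Injective ρ ∧
      ∀ (y : Y) (k : ℕ), y ^ p ^ k = 1 →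
        y ^ p ^ (e + 1) = 1 ∧ ∑ i ∈ Finset.range (p ^ (e + 1)), ρ y ^ i = 0 := by
  obtain ⟨H, _, _, f, V, _, hf, -, h1, hV, h2, -, h3, h4⟩ := exists_reduced' hsol
  obtain ⟨ρ, hρ, h5⟩ := exists_faithful_rep V hV (QuotientGroup.mk'_surjective V) h2
  let L := AlgebraicClosure (ZMod p)
  let bc := Module.End.baseChangeHom (ZMod p) L (EA p V hV)
  have hbc : Function.Injective bc := LinearMap.baseChangeHom_injective (ZMod p) _ L
  refine ⟨H ⧸ V, inferInstance, inferInstance, (QuotientGroup.mk' V).comp f,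
    L ⊗[ZMod p] EA p V hV, inferInstance, inferInstance, inferInstance,
    (bc : End (ZMod p) _ →* End L _).comp ρ, (QuotientGroup.mk'_surjective V).comp hf,
    by rw [← MonoidHom.comap_ker, QuotientGroup.ker_mk', h1], h3, h4, hbc.comp hρ, ?_⟩
  intro y k hy
  have hH := hexp.of_surjective hf
  obtain ⟨x, rfl, l, hl⟩ := exists_pElement_lift (QuotientGroup.mk'_surjective V) hy
  have hx := hH x l hl
  refine ⟨by rw [← map_pow, hx, map_one], ?_⟩
  have := conjRep_geom_sum_eq_zero V hV (x := x) (N := p ^ (e + 1)) fun v hv => by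
    obtain ⟨w, hw, -⟩ := exists_mul_pow_eq V hV x ⟨v, hv⟩ (p ^ (e + 1))
    rw [hx, mul_one] at hw
    rw [hx]
    apply hH _ (e + 1 + 1)
    rw [pow_succ, pow_mul, hw]
    exact congrArg Subtype.val (hV.2 w)
  rw [← h5] at this
  simpa using congrArg bc this

theorem pLengthLE_add_two {G Y : Type*} [Group G] [Finite G] [Group Y] [Finite Y] {p e k : ℕ}
    [Fact p.Prime] (φ : G →* Y) (hk : φ.ker = pPrimePCore p G)
    (h : ∀ (y : Y) (k : ℕ), y ^ p ^ k = 1 → y ^ p ^ e ∈ pPrimePCore p Y)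
    (ih : PExp p e (Y ⧸ pPrimePCore p Y) → PLengthLE p k (Y ⧸ pPrimePCore p Y)) :
    PLengthLE p (k + 2) G := by
  refine pLengthLE_succ_of_ker_le φ hk.le (pLengthLE_succ_iff.2 (ih fun y l hy => ?_))
  obtain ⟨x, rfl, l, hl⟩ := exists_pElement_lift (QuotientGroup.mk'_surjective _) hy
  rw [← map_pow]
  exact (QuotientGroup.eq_one_iff _).2 (h x l hl)

theorem pLengthLE_two_mul {p : ℕ} [hp : Fact p.Prime] (hp2 : p ≠ 2) (e : ℕ) :
    ∀ (G : Type u) [Group G] [Finite G], IsPSolvable p G → PExp p e G → PLengthLE p (2 * e) G := by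
  induction e with
  | zero => intro G _ _ _ h; exact pLengthLE_zero_iff.2 h.coprime
  | succ e ih =>
    intro G _ _ hsol hexp
    obtain ⟨Y, _, _, φ, W, _, _, _, ρ, -, h2, h3, h4, h5, h6⟩ := exists_linear hsol hexp
    exact pLengthLE_add_two φ h2 (fun y k hy => pow_mem_pPrimePCore_odd hp2 h3 h4 ρ h5 h6 hy)
      (ih _ (isPSolvable_quotient h3 _))

theorem pLengthLE_two_gross (e : ℕ) : ∀ (G : Type u) [Group G] [Finite G], IsPSolvable 2 G →
    PExp 2 (e + 1) G → PLengthLE 2 (2 * e + 1) G := by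
  induction e with
  | zero =>
    intro G _ _ hsol hexp
    obtain ⟨S⟩ : Nonempty (Sylow 2 G) := inferInstance
    have hs : ∀ x : (S : Subgroup G), x * x = 1 := fun x => Subtype.ext (by
      obtain ⟨k, hk⟩ := H68.isPGroup_iff_forall.1 S.isPGroup' x x.2
      simpa [sq] using hexp x k hk)
    have hi : ∀ x : (S : Subgroup G), x⁻¹ = x := fun x => inv_eq_of_mul_eq_one_right (hs x)
    have hab : IsMulCommutative (S : Subgroup G) :=
      ⟨⟨fun a b => by rw [← hi (a * b), mul_inv_rev, hi, hi]⟩⟩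
    refine pLengthLE_succ_iff.2 (pLengthLE_zero_iff.2 ?_)
    have h1 : (S : Subgroup G) ≤ pPrimePCore 2 G :=
      le_trans (le_centralizer_iff_isMulCommutative.2 hab) (inf_centralizer_sylow_le hsol S)
    rw [Nat.coprime_comm, Nat.Prime.coprime_iff_not_dvd Nat.prime_two]
    exact fun hd => S.not_dvd_index (hd.trans (index_dvd_of_le h1))
  | succ e ih =>
    intro G _ _ hsol hexp
    obtain ⟨Y, _, _, φ, W, _, _, _, ρ, -, h2, h3, h4, h5, h6⟩ := exists_linear hsol hexp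
    have h0 : 2 ^ (e + 1 + 1) ≠ 0 := by positivity
    exact pLengthLE_add_two φ h2 (fun y k hy => pow_mem_pPrimePCore_two h3 h4 ρ h5 (h6 y k hy).1
      (geom_poly_ne_zero h0) (by rw [aeval_geom_poly, (h6 y k hy).2]) (natDegree_geom_poly_lt h0))
      (ih _ (isPSolvable_quotient h3 _))

end H76
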