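import Mathlib
import Cfsg.Agent.Base
import Cfsg.Agent.Lib.FGS.HHGross
import Cfsg.Agent.Lib.FGS.Fpf
import Cfsg.Agent.Lib.Core.Permutable

/-! Fixed-point-free automorphisms of `2`-power order. -/

set_option autoImplicit false

namespace H76

open Polynomial Module Subgroup Cfsg H46
open scoped commutatorElement TensorProduct

universe u

variable {F : Type*} [Field F] {V : Type*} [AddCommGroup V] [Module F V] {G : Type*} [Group G]

theorem Special.isPGroup_commutator {S : Type*} [CommGroup S] [Finite S] {q : ℕ}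
    [hq : Fact q.Prime] (hS : ∀ s : S, s ^ q = 1) {b : MulAut S} {k : ℕ}
    (hb : Special b (2 ^ (k + 1))) {Y : Subgroup (MulAut S)} (hY : (Nat.card Y).Coprime 2)
    (hbY : b ∈ normalizer (Y : Set (MulAut S))) : IsPGroup q (⁅Y, zpowers (b ^ 2 ^ k)⁆ :) := by
  have hz : IsPGroup 2 (zpowers b) := isPGroup_zpowers_of_pow_eq_one hb.pow
  have hinv := fun (s : ℕ) [Fact s.Prime] => H2.exists_invariant_sylowIn (zpowers_le.2 hbY)
    (H1.coprime_card_of_isPGroup_of_coprime hz hY) (Or.inl (H2.isSolvable_zpowers b)) s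
  obtain ⟨Yq, hYq, hn⟩ := hinv q
  have hE : IsMulCommutative S ∧ ∀ s : S, s ^ q = 1 := ⟨inferInstance, hS⟩
  have hC : ∀ s : ℕ, s.Prime → s ≠ q → ¬ s ∣ (Y ⊓ centralizer {b ^ 2 ^ k}).relIndex Y := by
    intro s hs hsq
    have : Fact s.Prime := ⟨hs⟩
    obtain ⟨Ys, hYs, hns⟩ := hinv s
    suffices h : b ^ 2 ^ k ∈ centralizer (Ys : Set (MulAut S)) from fun hd =>
      hYs.not_dvd_relIndex (hd.trans (relIndex_dvd_of_le_left _ (le_inf hYs.le fun y hy =>
        mem_centralizer_singleton_iff.2 (h y hy))))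
    by_contra hcon
    obtain ⟨e, he⟩ := IsPGroup.iff_card.1 hYs.isPGroup
    have hm : ((X : (ZMod q)[X]) ^ 2 ^ k + 1).Monic := by
      simpa using monic_X_pow_add_C (1 : ZMod q) (n := 2 ^ k) (by positivity)
    have hm' : ((X : (ZMod q)[X]) - 1).Monic := by simpa using monic_X_sub_C (1 : ZMod q)
    have hdeg : (((X : (ZMod q)[X]) ^ 2 ^ k + 1) * (X - 1)).natDegree = 2 ^ k + 1 := by
      rw [hm.natDegree_mul hm', ← C_1, natDegree_X_pow_add_C, natDegree_X_sub_C]
    have h3 := hb.three_le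
    rcases hall_higman (EA.rep hE) hz (hns (Subgroup.mem_zpowers b))
      (hY.coprime_dvd_left (card_dvd_of_le hYs.le)) (cast_ne_zero_of_coprime (p := q) (by
        rw [he]
        exact ((Nat.coprime_primes hs hq.out).2 hsq).pow_left e))
      (fun k _ hk => EA.rep_injective hE (by rw [hk, map_one])) (n := k)
      (by rw [hb.pow]; exact one_mem _) hcon (hm.mul hm').ne_zero (by
        ext v
        obtain ⟨v, rfl⟩ := (EA.of hE).surjective v
        have h1 : EA.of hE (b v) - EA.of hE v = EA.of hE (dHom b v) := by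
          rw [dHom_apply, EA.of_mul, EA.of_inv, neg_add_eq_sub]
        rw [map_mul, map_add, map_sub, map_pow, aeval_X, map_one, End.mul_apply,
          LinearMap.sub_apply, EA.rep_of, End.one_apply, h1, LinearMap.add_apply, ← map_pow,
          EA.rep_of, hb.apply_pow_half (dHom_mem_cU b v), EA.of_inv, End.one_apply,
          neg_add_cancel, LinearMap.zero_apply]) with h | ⟨n₀, r, m, -, h1, hr, hm1, h2, h4, Q, hQ, -, -, h5, -⟩
    · rw [hdeg] at h
      omega
    rw [hdeg] at h4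
    have h6 : r = s := (Nat.prime_dvd_prime_iff_eq hr hs).1 (hr.dvd_of_dvd_pow
      (he ▸ (dvd_pow_self r (by omega)).trans (h5.trans (card_dvd_of_le hQ))))
    subst h6
    have h7 : 2 ^ (k + 1 - n₀) * 2 ^ n₀ = 2 ^ (k + 1) := by rw [← pow_add, Nat.sub_add_cancel h1]
    have h8 : 2 ≤ r ^ m := hr.two_le.trans (Nat.le_self_pow (by omega) r)
    have h9 : 4 ≤ 2 ^ n₀ := by
      rcases n₀ with _ | _ | n₀
      · omega
      · omega
      · have := Nat.one_le_two_pow (n := n₀)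
        omega
    have h10 := Nat.one_le_two_pow (n := k + 1 - n₀)
    obtain ⟨c, hc⟩ : ∃ c, 2 ^ n₀ = c + 4 := ⟨2 ^ n₀ - 4, by omega⟩
    obtain ⟨a, ha⟩ : ∃ a, 2 ^ (k + 1 - n₀) = a + 1 := ⟨2 ^ (k + 1 - n₀) - 1, by omega⟩
    rw [hc, ha] at h4 h7
    rw [show c + 4 - 1 = c + 3 from rfl, ← mul_le_mul_iff_left₀ two_pos, add_mul (2 ^ k),
      ← pow_succ, ← h7] at h4
    have hc0 : c = 0 := by nlinarith
    have ha0 : a = 0 := by nlinarith
    have h11 : r = 3 := (Nat.prime_dvd_prime_iff_eq hs Nat.prime_three).1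
      ((dvd_pow_self r (Nat.one_le_iff_ne_zero.1 hm1)).trans (by rw [← h2, hc, hc0]))
    obtain ⟨l, hl⟩ := IsPGroup.iff_card.1
      (IsPGroup.to_subgroup (fun s => ⟨1, by rw [pow_one, hS]⟩ : IsPGroup q S) (cU b))
    rw [hb.card, ← h7, hc0, ha0] at hl
    exact hsq (h11.trans ((Nat.prime_dvd_prime_iff_eq Nat.prime_three hq.out).1
      (Nat.prime_three.dvd_of_dvd_pow (n := l) (by rw [← hl]; norm_num))))
  refine hYq.isPGroup.to_le (commutator_le.2 fun y hy z hz => ?_)
  obtain ⟨a, ha, c, hc, rfl⟩ := H1.exists_mul_eq_of_coprime_relIndex hYq.le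
    (inf_le_left : Y ⊓ centralizer {b ^ 2 ^ k} ≤ Y) (Nat.coprime_of_dvd fun s hs h1 =>
      hC s hs (by rintro rfl; exact hYq.not_dvd_relIndex h1)) hy
  have h1 : Commute c z := by
    obtain ⟨j, rfl⟩ := hz
    exact Commute.zpow_right (mem_centralizer_singleton_iff.1 hc.2) j
  rw [commutatorElement_mul_left_eq_conj_mul, h1.commutator_eq, mul_one, mul_inv_cancel, one_mul]
  exact commutator_mem_of_le_normalizer ha
    (hn (zpowers_le.2 (npow_mem_zpowers b _) hz))

theorem le_fitting_of_forall_centralizer_pCore [Finite G] [Group.IsSolvable G] {X : Subgroup G}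
    [X.Normal] (h : ∀ q : ℕ, q.Prime → ∀ y ∈ X, (orderOf y).Coprime q →
      y ∈ centralizer (pCore q G : Set G)) : X ≤ fittingSubgroup G := by
  have key : ∀ {q s : ℕ}, q.Prime → s.Prime → q ≠ s → ∀ {R : Subgroup G}, IsPGroup s R → R ≤ X →
      R ≤ centralizer (pCore q G : Set G) := fun hq hs hqs R hR hRX y hy =>
    h _ hq y (hRX hy) (coprime_orderOf_of_mem hR ((Nat.coprime_primes hq hs).2 hqs) hy)
  refine H2.le_of_forall_sylowIn_le fun s hs => ?_
  have : Fact s.Prime := ⟨hs⟩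
  obtain ⟨R, hR⟩ := H68.exists_sylowIn s X
  refine ⟨R, hR, le_trans ?_ (H1.pCore_le_fitting s)⟩
  let D := X ⊓ ⨅ q : {q : ℕ // q.Prime ∧ q ≠ s}, centralizer (pCore q G : Set G)
  have hRD : R ≤ D := le_inf hR.le (le_iInf fun q => key q.2.1 hs q.2.2 hR.isPGroup hR.le)
  have hD : D ≤ normalizer (R : Set G) := by
    refine H2.le_of_forall_sylowIn_le fun u hu => ?_
    have : Fact u.Prime := ⟨hu⟩
    rcases eq_or_ne u s with rfl | hus
    · exact ⟨R, hR.mono hRD inf_le_left, le_normalizer⟩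
    obtain ⟨U, hU⟩ := H68.exists_sylowIn u D
    refine ⟨U, hU, le_trans ?_ (centralizer_le_normalizer _)⟩
    refine (H1.le_pCore_of_le_fitting hU.isPGroup (le_trans ?_ H1.centralizer_fitting_le)).trans
      (le_centralizer_iff.1 (key hu hs hus hR.isPGroup hR.le))
    rw [le_centralizer_iff, H1.fitting_eq_iSup_pCore, iSup_le_iff]
    rintro ⟨q, hq⟩
    rw [le_centralizer_iff]
    rcases eq_or_ne q s with rfl | hqs
    · exact key hq hu hus.symm hU.isPGroup (hU.le.trans inf_le_left)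
    · exact hU.le.trans (inf_le_right.trans (iInf_le (fun q : {q : ℕ // q.Prime ∧ q ≠ s} =>
        centralizer (pCore q G : Set G)) ⟨q, hq, hqs⟩))
  have : R.Normal := normalizer_eq_top_iff.1 (eq_top_iff.2 fun g _ => by
    obtain ⟨n, hn, x, hx, rfl⟩ := (hR.mono hRD inf_le_left).frattini
      (le_normalizer_of_normal (mem_top g))
    exact mul_mem (hD hn) hx)
  exact H1.le_pCore hR.isPGroup

theorem commutator_subgroupOf_of_le {A B W : Subgroup G} (hA : A ≤ W) (hB : B ≤ W) :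
    ⁅A, B⁆.subgroupOf W = ⁅A.subgroupOf W, B.subgroupOf W⁆ := by
  apply map_injective W.subtype_injective
  rw [map_commutator, subgroupOf_map_subtype, subgroupOf_map_subtype, subgroupOf_map_subtype,
    inf_eq_left.2 hA, inf_eq_left.2 hB, inf_eq_left]
  exact commutator_le.2 fun a ha b hb =>
    mul_mem (mul_mem (mul_mem (hA ha) (hB hb)) (inv_mem (hA ha))) (inv_mem (hB hb))

theorem wS_pow_eq_one (ρ : G →* End F V) {Q : Subgroup G} [Fintype Q] [ClassTwo Q] (lam : G → F)
    {q : ℕ} (h : ∀ x ∈ Q, x ^ q ∈ centralizer (Q : Set G)) (s : wS ρ Q lam) : s ^ q = 1 := by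
  obtain ⟨g, rfl⟩ := wπ_surjective s
  rw [← map_pow]
  exact wπ_eq_one_of_mem_centralizer (h g g.2)

theorem commutator_le_fitting_two [IsAlgClosed F] [FiniteDimensional F V] [Finite G]
    [Group.IsSolvable G] {r : ℕ} [hr : Fact r.Prime] [CharP F r] (hO : pCore r G = ⊥)
    (ρ : G →* End F V) (hρ : Function.Injective ρ) {N : Subgroup G} [N.Normal]
    (hN : (Nat.card N).Coprime 2) {x : G} {n : ℕ} (hx : x ^ 2 ^ (n + 1) = 1)
    [hX : (⁅N, zpowers (x ^ 2 ^ n)⁆).Normal] {f : F[X]} (hf0 : f ≠ 0) (h0 : aeval (ρ x) f = 0)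
    (hd : f.natDegree < 2 ^ (n + 1)) : ⁅N, zpowers (x ^ 2 ^ n)⁆ ≤ fittingSubgroup G := by
  refine le_fitting_of_forall_centralizer_pCore fun q hq y hy hyq => ?_
  have : Fact q.Prime := ⟨hq⟩
  rcases eq_or_ne q r with rfl | hqr
  · intro g hg
    rw [hO] at hg
    rw [mem_bot.1 hg, one_mul, mul_one]
  rcases eq_or_ne q 2 with rfl | hq2
  · intro g hg
    rw [← commutatorElement_eq_one_iff_mul_comm, ← mem_bot, ← H2.inf_eq_bot_of_coprime_card
      (H1.coprime_card_of_isPGroup_of_coprime H1.isPGroup_pCore hN)]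
    exact commutator_le_inf _ _ (commutator_mem_commutator hg (commutator_le_left _ _ hy))
  obtain ⟨Q, hQP, hcl, hn, hpow, -, hQ⟩ := exists_critical (H1.isPGroup_pCore (p := q) (G := G))
  let _ := Fintype.ofFinite Q
  have hn' : ∀ g, g ∈ normalizer (Q : Set G) := fun g => hn (le_normalizer_of_normal (mem_top g))
  obtain ⟨e, he⟩ := IsPGroup.iff_card.1 (H1.isPGroup_pCore.to_le hQP)
  have hQF : (Fintype.card Q : F) ≠ 0 := by
    rw [← Nat.card_eq_fintype_card, he]
    exact cast_ne_zero_of_coprime (((Nat.coprime_primes hq hr.out).2 hqr).pow_left e)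
  have hQ2 : (2 : ℕ).Coprime (Nat.card Q) :=
    he ▸ ((Nat.coprime_primes Nat.prime_two hq).2 hq2.symm).pow_right e
  obtain ⟨e', he'⟩ := IsPGroup.iff_card.1 (H1.isPGroup_pCore (p := q) (G := G))
  refine hQ y (le_normalizer_of_normal (mem_top y)) (he' ▸ hyq.pow_right e')
    (mem_centralizer_of_forall_wact (ρ := ρ) hQF (fun g _ h => hρ (h.trans ρ.map_one.symm)) (hn' y)
      (he ▸ hyq.pow_right e) fun lam hl => ?_)
  have hsp := fun m => exists_wact_special hQF hl hQ2 (hn' (m * x * m⁻¹)) (n := n)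
    (by rw [conj_pow, hx, mul_one, mul_inv_cancel]; exact one_mem _) hf0
    (aeval_conj_eq_zero ρ h0 m) hd
  have ht : ∀ m, m * x ^ 2 ^ n * m⁻¹ ∈ wstab Q lam := fun m => by
    obtain ⟨j, k, rfl, hb, -⟩ := hsp m
    rw [← conj_pow, pow_add, pow_mul]
    exact pow_mem hb _
  have ht1 : zpowers (x ^ 2 ^ n) ≤ wstab Q lam := by simpa using ht 1
  have hXs : ⁅N, zpowers (x ^ 2 ^ n)⁆ ≤ wstab Q lam := commutator_le.2 fun m _ z hz => by
    refine mul_mem ?_ (inv_mem (ht1 hz))
    obtain ⟨i, rfl⟩ := hz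
    rw [← conj_zpow]
    exact zpow_mem (ht m) i
  refine ⟨hXs hy, ?_⟩
  set φ := wact ρ Q lam
  set X := ⁅N, zpowers (x ^ 2 ^ n)⁆ with hXdef
  have hXX : ⁅X, zpowers (x ^ 2 ^ n)⁆ = X := H2.commutator_commutator_eq le_normalizer_of_normal
    (H1.coprime_card_of_isPGroup_of_coprime (isPGroup_zpowers_of_pow_eq_one (n := 1) (by
      rw [← pow_mul, ← pow_add, hx])) hN)
  obtain ⟨j, k, rfl, hb, h⟩ := exists_wact_special hQF hl hQ2 (hn' x) (n := n)
    (by rw [hx]; exact one_mem _) hf0 h0 hd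
  have hY : ⁅(X.subgroupOf (wstab Q lam)).map φ, zpowers (φ ⟨_, hb⟩ ^ 2 ^ k)⁆ =
      (X.subgroupOf (wstab Q lam)).map φ := by
    conv_rhs => rw [← hXX, commutator_subgroupOf_of_le hXs ht1, map_commutator]
    rw [← map_pow, ← MonoidHom.map_zpowers]
    congr 2
    apply map_injective (wstab Q lam).subtype_injective
    rw [subgroupOf_map_subtype, inf_eq_left.2 ht1, MonoidHom.map_zpowers, map_pow, pow_add, pow_mul]
    rfl
  have hYq : IsPGroup q ((X.subgroupOf (wstab Q lam)).map φ) := by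
    rw [← hY]
    rcases h with h | ⟨h, -⟩
    · rw [h, zpowers_one_eq_bot, commutator_bot_right]
      exact IsPGroup.of_bot
    refine h.isPGroup_commutator (wS_pow_eq_one ρ lam hpow) (hN.coprime_dvd_left
      ((card_map_dvd _ _).trans ?_)) (mem_normalizer_fintype ?_)
    · rw [H2.card_subgroupOf_of_le hXs]
      exact card_dvd_of_le (commutator_le_left _ _)
    · rintro _ ⟨a, ha, rfl⟩
      exact ⟨⟨_, hb⟩ * a * ⟨_, hb⟩⁻¹, hX.conj_mem _ ha _, by simp [φ]⟩
  obtain ⟨l, hl⟩ := H68.isPGroup_iff_forall.1 hYq (φ ⟨y, hXs hy⟩) ⟨_, hy, rfl⟩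
  exact mem_bot.1 (mem_of_pow_mem_of_coprime (hyq.pow_right l) (by
    rw [← map_pow, show (⟨y, hXs hy⟩ : wstab Q lam) ^ orderOf y = 1 from
      Subtype.ext (pow_orderOf_eq_one y), map_one]; exact one_mem _) (by rw [hl]; exact one_mem _))

theorem exists_linear_fpf {G : Type u} [Group G] [Finite G] [Group.IsSolvable G] {p r : ℕ}
    [hp : Fact p.Prime] [hr : Fact r.Prime] (hrp : r ≠ p) {N A : Subgroup G} [N.Normal]
    (hN : (Nat.card N).Coprime p) (hNp : RelP p N ⊤) (hA : IsPGroup p A)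
    (hfpf : N ⊓ centralizer (A : Set G) = ⊥) :
    ∃ (Y : Type u) (_ : Group Y) (_ : Finite Y) (φ : G →* Y) (W : Type u) (_ : AddCommGroup W)
      (_ : Module (AlgebraicClosure (ZMod r)) W)
      (_ : FiniteDimensional (AlgebraicClosure (ZMod r)) W)
      (ρ : Y →* End (AlgebraicClosure (ZMod r)) W), Function.Surjective φ ∧
      φ.ker = pPrimePCore r G ∧ pCore r Y = ⊥ ∧ Function.Injective ρ ∧
      ∀ w : W, (∀ a ∈ A, ρ (φ a) w = w) → w = 0 := by
  obtain ⟨H, _, _, f, V, _, hf, hVe, h1, hV, h2, -, -, h4⟩ :=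
    exists_reduced' (p := r) (G := G) isPSolvable_of_isSolvable
  obtain ⟨ρ, hρ, h5⟩ := exists_faithful_rep V hV (QuotientGroup.mk'_surjective V) h2
  let L := AlgebraicClosure (ZMod r)
  let bc := Module.End.baseChangeHom (ZMod r) L (EA r V hV)
  have hbc : Function.Injective bc := LinearMap.baseChangeHom_injective (ZMod r) _ L
  refine ⟨H ⧸ V, inferInstance, inferInstance, (QuotientGroup.mk' V).comp f,
    L ⊗[ZMod r] EA r V hV, inferInstance, inferInstance, inferInstance,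
    (bc : End (ZMod r) _ →* End L _).comp ρ, (QuotientGroup.mk'_surjective V).comp hf,
    by rw [← MonoidHom.comap_ker, QuotientGroup.ker_mk', h1], h4, hbc.comp hρ, fun w hw => ?_⟩
  let _ := Fintype.ofFinite A
  have hVN : V ≤ N.map f := by
    rw [hVe]
    refine pCore_le_of_isPGroup_quotient hrp ?_
    have := hNp.map f
    rwa [map_top_of_surjective f hf] at this
  have h6 := H2.map_inf_centralizer_of_coprime (A := A) (K := N) le_normalizer_of_normal
    (H1.coprime_card_of_isPGroup_of_coprime hA hN) (Or.inr inferInstance) f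
  rw [hfpf, Subgroup.map_bot] at h6
  have h7 : ∑ a : A, conjRep V hV (f a) = 0 := by
    ext v
    obtain ⟨u, hu⟩ := (EA.of hV).surjective ((∑ a : A, conjRep V hV (f a)) v)
    rw [← hu, LinearMap.zero_apply, EA.of_eq_zero, ← Subtype.coe_inj, OneMemClass.coe_one,
      ← mem_bot, h6]
    refine mem_inf.2 ⟨hVN u.2, ?_⟩
    rintro _ ⟨b, hb, rfl⟩
    have h8 : conjRep V hV (f b) (EA.of hV u) = EA.of hV u := by
      rw [hu, ← End.mul_apply, Finset.mul_sum]
      congr 1
      exact Fintype.sum_equiv (Equiv.mulLeft (⟨b, hb⟩ : A)) _ _ fun a => by simp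
    rw [conjRep_of] at h8
    exact mul_inv_eq_iff_eq_mul.1 (congrArg Subtype.val ((EA.of hV).injective h8))
  have h8 := congrArg bc h7
  rw [map_sum, map_zero] at h8
  have h9 := LinearMap.congr_fun h8 w
  rw [LinearMap.sum_apply, Finset.sum_congr rfl fun (a : A) _ => (h5 (f a) ▸ hw a a.2 :
    bc (conjRep V hV (f a)) w = w), Finset.sum_const, Finset.card_univ, LinearMap.zero_apply,
    ← Nat.cast_smul_eq_nsmul L, smul_eq_zero] at h9
  refine h9.resolve_left (cast_ne_zero_of_coprime (p := r) ?_)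
  obtain ⟨k, hk⟩ := IsPGroup.iff_card.1 hA
  rw [← Nat.card_eq_fintype_card, hk]
  exact ((Nat.coprime_primes hp.out hr.out).2 hrp.symm).pow_left k

theorem geom_sum_eq_zero_of_fixed (ρ : G →* End F V) {x : G} {n : ℕ} (hx : x ^ n = 1)
    (h : ∀ w, ρ x w = w → w = 0) : ∑ i ∈ Finset.range n, ρ x ^ i = 0 := by
  ext v
  refine h _ ?_
  have := mul_geom_sum (ρ x) n
  rw [← map_pow, hx, map_one, sub_self, sub_mul, one_mul, sub_eq_zero] at this
  exact LinearMap.congr_fun this v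

theorem exists_lowerCentralSeries_le_fitting [Finite G] {M : Subgroup G}
    (h : ∀ r : ℕ, r.Prime → ∃ k, M.lowerCentralSeries k ≤ pPrimePCore r G) :
    ∃ k, M.lowerCentralSeries k ≤ fittingSubgroup G := by
  obtain ⟨_, ⟨k, rfl⟩, hmin⟩ := wellFounded_lt.has_min (Set.range M.lowerCentralSeries) ⟨_, 0, rfl⟩
  refine ⟨k, le_fitting_of_forall_le_pPrimePCore fun r hr => ?_⟩
  obtain ⟨l, hl⟩ := h r hr
  refine le_trans ?_ ((M.lowerCentralSeries_antitone (le_max_right k l)).trans hl)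
  exact (eq_of_le_of_not_lt (M.lowerCentralSeries_antitone (le_max_left k l))
    (hmin _ ⟨_, rfl⟩)).ge

theorem exists_lowerCentralSeries_le_ker {G' : Type*} [Group G'] {M : Subgroup G} (f : G →* G')
    (h : Group.IsNilpotent (M.map f)) : ∃ k, M.lowerCentralSeries k ≤ f.ker := by
  obtain ⟨k, hk⟩ := (isNilpotent_iff_lowerCentralSeries _).1 h
  exact ⟨k, by rw [← Subgroup.map_eq_bot_iff, map_lowerCentralSeries, hk]⟩

theorem isNilpotent_map_of_le_ker {G' : Type*} [Group G'] {M : Subgroup G} (f : G →* G') {k : ℕ}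
    (h : M.lowerCentralSeries k ≤ f.ker) : Group.IsNilpotent (M.map f) :=
  (isNilpotent_iff_lowerCentralSeries _).2
    ⟨k, by rwa [← map_lowerCentralSeries, Subgroup.map_eq_bot_iff]⟩

theorem lowerCentralSeries_commutator_le_fitting {G : Type u} [Group G] [Finite G]
    [Group.IsSolvable G] {N : Subgroup G} [N.Normal] (hN : (Nat.card N).Coprime 2)
    (hNp : RelP 2 N ⊤) {x : G} {n : ℕ} (hx : x ^ 2 ^ (n + 1) = 1)
    (hfpf : N ⊓ centralizer (zpowers x : Set G) = ⊥) [hX : (⁅N, zpowers (x ^ 2 ^ n)⁆).Normal] :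
    ∃ k, (⁅N, zpowers (x ^ 2 ^ n)⁆).lowerCentralSeries k ≤ fittingSubgroup G := by
  refine exists_lowerCentralSeries_le_fitting fun r hr => ?_
  have : Fact r.Prime := ⟨hr⟩
  rcases eq_or_ne r 2 with rfl | hr2
  · exact ⟨0, (commutator_le_left _ _).trans
      ((H1.le_pPrimeCore hN).trans H23.pPrimeCore_le_pPrimePCore)⟩
  obtain ⟨Y, _, _, φ, W, _, _, _, ρ, h1, h2, h3, h4, h5⟩ := exists_linear_fpf hr2 hN hNp
    (isPGroup_zpowers_of_pow_eq_one hx) hfpf
  have := Group.isSolvable_of_surjective h1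
  have := (inferInstance : N.Normal).map φ h1
  have h6 := hX.map φ h1
  rw [← h2]
  apply exists_lowerCentralSeries_le_ker
  rw [map_commutator, MonoidHom.map_zpowers, map_pow] at h6 ⊢
  have h0 : 2 ^ (n + 1) ≠ 0 := by positivity
  have hx' : φ x ^ 2 ^ (n + 1) = 1 := by rw [← map_pow, hx, map_one]
  refine H1.isNilpotent_of_le_fitting (commutator_le_fitting_two h3 ρ h4
    (hN.coprime_dvd_left (card_map_dvd _ _)) hx' (geom_poly_ne_zero h0) ?_
    (natDegree_geom_poly_lt h0))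
  rw [aeval_geom_poly]
  refine geom_sum_eq_zero_of_fixed ρ hx' fun w hw => h5 w fun a ha => ?_
  obtain ⟨k, rfl⟩ := mem_powers_iff_mem_zpowers.2 ha
  simp only [map_pow]
  induction k with
  | zero => rfl
  | succ k ih => rw [pow_succ, End.mul_apply, hw, ih (npow_mem_zpowers x k)]

theorem quotAut_quotAut_pow_eq_one {G : Type u} [Group G] [Finite G] (hG : Group.IsSolvable G)
    (σ : MulAut G) {n : ℕ} (hσ : σ ^ 2 ^ (n + 1) = 1) (hfpf : ∀ g : G, σ g = g → g = 1) :
    quotAut (fittingSubgroup _) (quotAut (fittingSubgroup G) σ) ^ 2 ^ n = 1 := by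
  have hA := isPGroup_zpowers_of_pow_eq_one hσ
  let φ : zpowers σ →* MulAut G := (zpowers σ).subtype
  have : Group.IsSolvable (G ⋊[φ] zpowers σ) :=
    isSolvable_semidirect φ hG (H2.isSolvable_zpowers σ)
  have hN : (H2.sdL φ ⊤).Normal := by rw [sdL_top_eq_ker]; infer_instance
  let s : zpowers σ := ⟨σ, mem_zpowers σ⟩
  have hs : s ^ 2 ^ (n + 1) = 1 := Subtype.ext hσ
  set x : G ⋊[φ] zpowers σ := SemidirectProduct.inr s with hxdef
  have hx : x ^ 2 ^ (n + 1) = 1 := by rw [← map_pow, hs, map_one]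
  have hX : (⁅H2.sdL φ ⊤, zpowers (x ^ 2 ^ n)⁆).Normal := by
    refine normalizer_eq_top_iff.1 (eq_top_iff.2 fun g _ => ?_)
    rw [← SemidirectProduct.inl_left_mul_inr_right g]
    refine mul_mem (normalizer_commutator_ge_left _ _ ⟨_, mem_top _, rfl⟩)
      (H68.normalizer_inf_le_normalizer_commutator _ _ ⟨le_normalizer_of_normal (mem_top _),
        centralizer_le_normalizer _ ?_⟩)
    rintro _ ⟨i, rfl⟩
    obtain ⟨_, j, rfl⟩ := g.right
    rw [show (⟨σ ^ j, j, rfl⟩ : zpowers σ) = s ^ j from rfl, map_zpow]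
    exact (((Commute.refl x).pow_left _).zpow_zpow i j).eq
  obtain ⟨k, hk⟩ := lowerCentralSeries_commutator_le_fitting (N := H2.sdL φ ⊤) (by
      rw [H2.card_sdL, card_top]
      exact coprime_card_of_fixed hA fun g h => hfpf g (h σ (mem_zpowers σ))) (by
      rw [sdL_top_eq_ker, relP_ker_iff]
      exact hA.to_subgroup _) hx (by
      rw [eq_bot_iff]
      rintro _ ⟨⟨g, -, rfl⟩, hg⟩
      rw [hfpf g (H2.inl_mul_inr_comm_iff.1 (hg _ (mem_zpowers x))), map_one]
      exact one_mem _)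
  rw [hxdef, ← map_pow, ← MonoidHom.map_zpowers, ← H2.sdL_actComm] at hk hX
  set M := H2.actComm φ ⊤ (zpowers (s ^ 2 ^ n))
  have hM : M.Normal := normalizer_eq_top_iff.1 (eq_top_iff.2
    (H2.sdL_le_normalizer_iff.1 (le_normalizer_of_normal (H := H2.sdL φ M))))
  have h1 := H1.le_fitting (isNilpotent_map_of_le_ker (M := M)
    (QuotientGroup.mk' (fittingSubgroup G)) (k := k) (by
      intro g hg
      rw [QuotientGroup.ker_mk']
      apply mem_fitting_of_injective (SemidirectProduct.inl_injective (φ := φ))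
      apply hk
      rw [← map_lowerCentralSeries]
      exact mem_map_of_mem _ hg)) (hN := hM.map _ (QuotientGroup.mk'_surjective _))
  rw [← map_pow, ← map_pow]
  refine quotAut_eq_one _ fun g => ?_
  obtain ⟨g, rfl⟩ := QuotientGroup.mk_surjective g
  exact h1 ⟨_, H2.mem_actComm (mem_zpowers _) (mem_top g), rfl⟩

theorem fitLE_of_fpf_two (n : ℕ) :
    ∀ (G : Type u) [Group G] [Finite G], Group.IsSolvable G → ∀ σ : MulAut G,
      σ ^ 2 ^ (n + 2) = 1 → (∀ g : G, σ g = g → g = 1) → FitLE (2 * n + 2) G := by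
  induction n with
  | zero =>
    intro G _ _ hG σ hσ hfpf
    have h2 := quotAut_eq_one _ (mem_fitting_of_fpf hG (p := 2) σ (n := 1) hσ hfpf (Or.inr le_rfl))
    rw [pow_one, map_pow] at h2
    have h3 : MonoidHom.FixedPointFree (quotAut (fittingSubgroup G) σ) := quotAut_fpf _ hfpf
    exact fitLE_two_iff.2 (H1.isNilpotent_of_isMulCommutative (h := ⟨⟨fun a b =>
      h3.commute_all_of_involutive (fun x => by rw [← MulAut.mul_apply, ← sq, h2]; rfl) a b⟩⟩))
  | succ n ih =>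
    intro G _ _ hG σ hσ hfpf
    exact ih _ inferInstance _ (quotAut_quotAut_pow_eq_one hG σ hσ hfpf)
      (quotAut_fpf _ (quotAut_fpf _ hfpf))

end H76
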