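import Mathlib
import Cfsg.Agent.Base
import Cfsg.Agent.Lib.FGS.Friendship

/-!
A configuration of involutions that the friendship theorem forbids (helper79).
-/

set_option autoImplicit false

namespace H79

open Subgroup

variable {G : Type*} [Group G]

theorem mul_self_of_orderOf_eq_two {u : G} (hu : orderOf u = 2) : u * u = 1 := by
  have := pow_orderOf_eq_one u
  rwa [hu, sq] at this

theorem ne_one_of_orderOf_eq_two {u : G} (hu : orderOf u = 2) : u ≠ 1 := by
  rintro rfl
  simp at hu

theorem inv_eq_of_orderOf_eq_two {u : G} (hu : orderOf u = 2) : u⁻¹ = u :=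
  inv_eq_of_mul_eq_one_right (mul_self_of_orderOf_eq_two hu)

theorem orderOf_conj_eq (a x : G) : orderOf (a * x * a⁻¹) = orderOf x :=
  (MulAut.conj a).orderOf_eq x

/-- An involution `u` inverts every power of `u * v` when `v` is an involution. -/
theorem invol_inverts_zpowers {u v y : G} (hu : orderOf u = 2) (hv : orderOf v = 2)
    (hy : y ∈ zpowers (u * v)) : u * y * u⁻¹ = y⁻¹ := by
  obtain ⟨k, rfl⟩ := mem_zpowers_iff.mp hy
  rw [← conj_zpow, ← inv_zpow]
  congr 1
  rw [mul_inv_rev, inv_eq_of_orderOf_eq_two hu, inv_eq_of_orderOf_eq_two hv, ← mul_assoc,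
    mul_self_of_orderOf_eq_two hu, one_mul]

theorem invol_not_mem_zpowers {u v : G} (hu : orderOf u = 2) (hv : orderOf v = 2) :
    u ∉ zpowers (u * v) := by
  intro h
  have h1 : Commute u (u * v) := by
    obtain ⟨k, hk⟩ := mem_zpowers_iff.mp h
    have := (Commute.refl (u * v)).zpow_left k
    rwa [hk] at this
  have h2 : u * v = v * u := by
    have := h1.eq
    rw [mul_assoc] at this
    exact mul_left_cancel this
  have h3 : (u * v) ^ 2 = 1 := by
    rw [(show Commute u v from h2).mul_pow, sq, sq, mul_self_of_orderOf_eq_two hu,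
      mul_self_of_orderOf_eq_two hv, one_mul]
  obtain ⟨k, hk⟩ := mem_zpowers_iff.mp h
  rcases Int.even_or_odd' k with ⟨j, rfl | rfl⟩
  · rw [zpow_mul, zpow_ofNat, h3, one_zpow] at hk
    exact ne_one_of_orderOf_eq_two hu hk.symm
  · rw [zpow_add, zpow_mul, zpow_ofNat, h3, one_zpow, one_mul, zpow_one] at hk
    exact ne_one_of_orderOf_eq_two hv (by simpa using hk)

/-- Let `b` be an involution to which all involutions are conjugate and `C` a subgroup of index at
most two in `C(b)` whose only involution is `b`, meeting its conjugates by elements outside `C(b)`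
trivially, such that the product of any two distinct involutions has a nontrivial power conjugate
into `C`. Then `b` commutes with all involutions. -/
theorem friend_config [Finite G] {b : G} (hb : orderOf b = 2) (C : Subgroup G)
    (hCD : ∀ x ∈ C, x * b = b * x)
    (hconj : ∀ u : G, orderOf u = 2 → IsConj b u)
    (huniq : ∀ u ∈ C, orderOf u = 2 → u = b)
    (hidx : ∀ x y : G, x * b = b * x → y * b = b * y → x ∉ C → y ∉ C → x * y ∈ C)
    (hTI : ∀ g y : G, y ∈ C → g * y * g⁻¹ ∈ C → y ≠ 1 → g * b = b * g)
    (hprod : ∀ u v : G, orderOf u = 2 → orderOf v = 2 → u ≠ v →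
      ∃ y ∈ zpowers (u * v), y ≠ 1 ∧ ∃ g : G, g * y * g⁻¹ ∈ C) :
    ∀ u : G, orderOf u = 2 → u * b = b * u := by
  obtain ⟨a, ha, hall⟩ := Friend.exists_politician {u : G | orderOf u = 2} (Set.toFinite _)
    ⟨b, hb⟩ (fun x y => x * y = y * x) (fun _ _ h => h.symm) (by
      intro u hu v hv huv
      have hu : orderOf u = 2 := hu
      have hv : orderOf v = 2 := hv
      have hw1 : u * v ≠ 1 := fun h => huv (by
        rw [← inv_eq_of_orderOf_eq_two hv]; exact eq_inv_of_mul_eq_one_left h)
      -- any common neighbour `g⁻¹ b g` forces `u * v` into the conjugate of `C`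
      have key : ∀ g : G, g⁻¹ * b * g ≠ u → g⁻¹ * b * g ≠ v →
          u * (g⁻¹ * b * g) = (g⁻¹ * b * g) * u → v * (g⁻¹ * b * g) = (g⁻¹ * b * g) * v →
          g * (u * v) * g⁻¹ ∈ C := by
        intro g h1 h2 h3 h4
        have e : g * (u * v) * g⁻¹ = (g * u * g⁻¹) * (g * v * g⁻¹) := by group
        rw [e]
        refine hidx _ _ ?_ ?_ (fun h => h1 ?_) (fun h => h2 ?_)
        · calc g * u * g⁻¹ * b = g * (u * (g⁻¹ * b * g)) * g⁻¹ := by group
            _ = _ := by rw [h3]; group
        · calc g * v * g⁻¹ * b = g * (v * (g⁻¹ * b * g)) * g⁻¹ := by group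
            _ = _ := by rw [h4]; group
        · rw [← huniq _ h ((orderOf_conj_eq g u).trans hu)]; group
        · rw [← huniq _ h ((orderOf_conj_eq g v).trans hv)]; group
      obtain ⟨y, hy, hy1, g, hg⟩ := hprod u v hu hv huv
      have hy' : y ∈ zpowers (v * u) := by
        have : v * u = (u * v)⁻¹ := by
          rw [mul_inv_rev, inv_eq_of_orderOf_eq_two hu, inv_eq_of_orderOf_eq_two hv]
        rwa [this, zpowers_inv]
      have hgy1 : g * y * g⁻¹ ≠ 1 := fun h => hy1 (by simpa using h)
      have hcomm : ∀ t : G, t * y * t⁻¹ = y⁻¹ → t * (g⁻¹ * b * g) = (g⁻¹ * b * g) * t := by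
        intro t ht
        have := hTI (g * t * g⁻¹) _ hg (by
          have e : g * t * g⁻¹ * (g * y * g⁻¹) * (g * t * g⁻¹)⁻¹ = (g * y * g⁻¹)⁻¹ := by
            calc _ = g * (t * y * t⁻¹) * g⁻¹ := by group
              _ = _ := by rw [ht]; group
          rw [e]
          exact C.inv_mem hg) hgy1
        calc t * (g⁻¹ * b * g) = g⁻¹ * (g * t * g⁻¹ * b) * g := by group
          _ = _ := by rw [this]; group
      have hne : ∀ t : G, t * y * t⁻¹ = y⁻¹ → t ∉ zpowers y → g⁻¹ * b * g ≠ t := by
        intro t ht htn he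
        have h1 := hCD _ hg
        have h2 : t * y = y * t := by
          rw [← he]
          calc g⁻¹ * b * g * y = g⁻¹ * (b * (g * y * g⁻¹)) * g := by group
            _ = _ := by rw [← h1]; group
        have h3 : y⁻¹ = y := by rw [← ht, h2]; group
        have h4 : orderOf y = 2 := orderOf_eq_prime (by
          rw [sq]; nth_rewrite 1 [← h3]; exact inv_mul_cancel y) hy1
        have h5 := huniq _ hg ((orderOf_conj_eq g y).trans h4)
        apply htn
        have : t = y := by rw [← he, ← h5]; group
        rw [this]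
        exact mem_zpowers y
      have hcu := invol_inverts_zpowers hu hv hy
      have hcv := invol_inverts_zpowers hv hu hy'
      have n1 := hne u hcu fun h => invol_not_mem_zpowers hu hv (zpowers_le.mpr hy h)
      have n2 := hne v hcv fun h => invol_not_mem_zpowers hv hu (zpowers_le.mpr hy' h)
      refine ⟨g⁻¹ * b * g, ⟨?_, n1, n2, hcomm u hcu, hcomm v hcv⟩, ?_⟩
      · have := orderOf_conj_eq g⁻¹ b
        rw [inv_inv] at this
        exact this.trans hb
      · rintro c ⟨hc, hc1, hc2, hc3, hc4⟩
        obtain ⟨k, rfl⟩ := isConj_iff.mp (hconj c hc)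
        have k1 := key k⁻¹ (by simpa using hc1) (by simpa using hc2) (by simpa using hc3)
          (by simpa using hc4)
        have k2 := key g n1 n2 (hcomm u hcu) (hcomm v hcv)
        have := hTI (g * k) _ k1 (by convert k2 using 1; group)
          (fun h => hw1 (conj_eq_one_iff.mp h))
        calc k * b * k⁻¹ = g⁻¹ * (g * k * b) * k⁻¹ := by group
          _ = _ := by rw [this]; group)
  intro u hu
  obtain ⟨k, rfl⟩ := isConj_iff.mp (hconj a ha)
  by_cases h : k * b * k⁻¹ = k * u * k⁻¹
  · have : b = u := by simpa using h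
    rw [this]
  · have := hall (k * u * k⁻¹) ((orderOf_conj_eq k u).trans hu) h
    calc u * b = k⁻¹ * (k * u * k⁻¹ * (k * b * k⁻¹)) * k := by group
      _ = _ := by rw [← this]; group

end H79
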