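import Mathlib
import Cfsg.Agent.Base
import Cfsg.Agent.S3779
import Cfsg.Agent.Lib.SL2.Triangle

/-!
Extensions of a `2`-group by `A₅` in which the elements of order three act without fixed points
(Higman): the `2`-group is elementary abelian.  Index two overgroups of `A₆` have an element of
order greater than five.
-/

set_option autoImplicit false

namespace H76.Spec5

open Subgroup Equiv
open scoped commutatorElement

abbrev A5 := alternatingGroup (Fin 5)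

def h0 : A5 := ⟨c[0, 1, 2], Perm.mem_alternatingGroup.2 (by decide)⟩
def t1 : A5 := ⟨swap 0 1 * swap 2 3, Perm.mem_alternatingGroup.2 (by decide)⟩
def t2 : A5 := ⟨swap 1 2 * swap 0 3, Perm.mem_alternatingGroup.2 (by decide)⟩
def t3 : A5 := ⟨swap 2 0 * swap 1 3, Perm.mem_alternatingGroup.2 (by decide)⟩

theorem six_eq_zero {R : Type*} [Ring R] (ρ : A5 →* R)
    (H : ∀ g : A5, g ^ 3 = 1 → g ≠ 1 → 1 + ρ g + ρ g * ρ g = 0) : (6 : R) = 0 := by
  have h3 : ρ h0 * ρ h0 * ρ h0 = 1 := by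
    rw [← map_mul, ← map_mul, show h0 * h0 * h0 = 1 by decide, map_one]
  have e0 := H h0 (by decide) (by decide)
  have step : ∀ a b : A5, (h0 * a) ^ 3 = 1 → h0 * a ≠ 1 → h0 * a * (h0 * a) = h0 * h0 * b →
      ρ a - 1 = -(ρ h0 * (ρ b - 1)) := fun a b h1 h2 h => by
    have e := H _ h1 h2
    rw [← map_mul, h, map_mul, map_mul, map_mul] at e
    have e' : ρ h0 * ρ a + ρ h0 * ρ h0 * ρ b = ρ h0 + ρ h0 * ρ h0 := by
      rw [← sub_eq_zero, ← sub_zero (0 : R)]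
      nth_rewrite 1 [← e]
      rw [← e0]
      abel
    have e'' := congrArg (fun x => ρ h0 * ρ h0 * x) e'
    simp only [mul_add, ← mul_assoc, h3, one_mul] at e''
    rw [mul_sub, mul_one, eq_neg_iff_add_eq_zero, ← sub_eq_zero.2 e'']
    abel
  have a1 := step t1 t2 (by decide) (by decide) (by decide)
  have a2 := step t2 t3 (by decide) (by decide) (by decide)
  have a3 := step t3 t1 (by decide) (by decide) (by decide)
  have key : 2 * (ρ t1 - 1) = 0 := by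
    have : ρ t1 - 1 = -(ρ t1 - 1) := by
      nth_rewrite 1 [a1, a2, a3]
      simp only [mul_neg, neg_neg, ← mul_assoc, h3, one_mul]
    rw [two_mul]
    nth_rewrite 1 [this]
    abel
  let K : Subgroup A5 :=
    { carrier := {g | 2 * (ρ g - 1) = 0}
      one_mem' := by simp
      mul_mem' := fun {a b} ha hb => by
        change 2 * (ρ (a * b) - 1) = 0
        have : 2 * (ρ (a * b) - 1) = 2 * (ρ a - 1) * ρ b + 2 * (ρ b - 1) := by
          rw [map_mul]; noncomm_ring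
        rw [this, ha, hb, zero_mul, zero_add]
      inv_mem' := fun {a} ha => by
        change 2 * (ρ a⁻¹ - 1) = 0
        have : 2 * (ρ a⁻¹ - 1) = -(2 * (ρ a - 1) * ρ a⁻¹) := by
          rw [mul_assoc, sub_mul, ← map_mul, mul_inv_cancel, map_one]; noncomm_ring
        rw [this, ha, zero_mul, neg_zero] }
  have hK : K.Normal := ⟨fun a ha g => by
    change 2 * (ρ (g * a * g⁻¹) - 1) = 0
    have h1 : ρ g * ρ g⁻¹ = 1 := by rw [← map_mul, mul_inv_cancel, map_one]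
    have : 2 * (ρ (g * a * g⁻¹) - 1) = ρ g * (2 * (ρ a - 1)) * ρ g⁻¹ := by
      rw [map_mul, map_mul]
      nth_rewrite 1 [← h1]
      noncomm_ring
    rw [this, ha, mul_zero, zero_mul]⟩
  have htop : K = ⊤ := (hK.eq_bot_or_eq_top).resolve_left fun h => by
    have : t1 ∈ K := key
    rw [h, mem_bot] at this
    exact absurd this (by decide)
  have b1 : 2 * (ρ h0 - 1) = 0 := (htop ▸ mem_top h0 : h0 ∈ K)
  have b2 : 2 * (ρ (h0 * h0) - 1) = 0 := (htop ▸ mem_top _ : h0 * h0 ∈ K)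
  rw [map_mul] at b2
  have : (6 : R) = 2 * (1 + ρ h0 + ρ h0 * ρ h0) - 2 * (ρ h0 - 1) - 2 * (ρ h0 * ρ h0 - 1) := by
    noncomm_ring
    norm_num
  rw [this, e0, b1, b2]
  simp

variable {G : Type*} [Group G]

/-- automorphisms of a commutative group as additive endomorphisms -/
def toEnd (M : Type*) [CommGroup M] : MulAut M →* AddMonoid.End (Additive M) where
  toFun g := MonoidHom.toAdditive (g : M →* M)
  map_one' := rfl
  map_mul' _ _ := rfl

theorem pow_six {M : Type*} [CommGroup M] {f : G →* A5} (hf : Function.Surjective f)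
    (φ : G →* MulAut M) (hker : ∀ g, f g = 1 → φ g = 1)
    (H : ∀ g, f g ^ 3 = 1 → f g ≠ 1 → ∀ x, x * φ g x * φ g (φ g x) = 1) (x : M) : x ^ 6 = 1 := by
  let φ' : A5 →* MulAut M := f.liftOfSurjective hf ⟨φ, fun g hg => hker g hg⟩
  let ρ := (toEnd M).comp φ'
  have hρ : ∀ g, ρ (f g) = toEnd M (φ g) := fun g =>
    congrArg (toEnd M) (f.liftOfRightInverse_comp_apply _ _ _ g)
  have h6 := six_eq_zero ρ (fun g h1 h2 => by
    obtain ⟨g, rfl⟩ := hf g
    rw [hρ]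
    exact AddMonoidHom.ext fun x => H g h1 h2 x.toMul)
  have e : (6 : AddMonoid.End (Additive M)) = 1 + 1 + 1 + 1 + 1 + 1 := by norm_num
  rw [e] at h6
  have h : x * x * x * x * x * x = 1 := DFunLike.congr_fun h6 (Additive.ofMul x)
  rw [← h]; simp only [pow_succ, pow_zero, one_mul]

theorem norm_eq_one {f : G →* A5} (H3 : ∀ g, f g ^ 3 = 1 → f g ≠ 1 → g ^ 3 = 1) {h x : G}
    (h1 : f h ^ 3 = 1) (h2 : f h ≠ 1) (hx : f x = 1) :
    x * (h * x * h⁻¹) * (h * (h * x * h⁻¹) * h⁻¹) = 1 := by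
  have e1 := H3 h h1 h2
  have e2 := H3 (x * h) (by rwa [map_mul, hx, one_mul]) (by rwa [map_mul, hx, one_mul])
  calc _ = (x * h) ^ 3 * (h ^ 3)⁻¹ := by simp only [pow_succ, pow_zero]; group
    _ = 1 := by rw [e1, e2, inv_one, mul_one]

theorem eq_one_of_cube {Q : Subgroup G} (hQ : IsPGroup 2 Q) {x : G} (hx : x ∈ Q) (h : x ^ 3 = 1) :
    x = 1 := by
  obtain ⟨k, hk⟩ := hQ ⟨x, hx⟩
  have hk' : x ^ 2 ^ k = 1 := congrArg Subtype.val hk
  have := pow_gcd_eq_one.2 ⟨h, hk'⟩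
  rwa [(Nat.Coprime.pow_right k (by norm_num : Nat.Coprime 3 2)).gcd_eq_one, pow_one] at this

theorem eq_top_of_mem {f : G →* A5} (hf : Function.Surjective f) (K : Subgroup G) [hK : K.Normal]
    (h : f.ker ≤ K) {c : G} (hc : c ∈ K) (h1 : f c ≠ 1) : K = ⊤ := by
  have : K.map f = ⊤ := ((hK.map f hf).eq_bot_or_eq_top).resolve_left fun e =>
    h1 (mem_bot.1 (e ▸ mem_map_of_mem f hc))
  rw [← comap_map_eq_self h, this, comap_top]

theorem sq_eq_one_of_central {f : G →* A5} (hf : Function.Surjective f) (hQ : IsPGroup 2 f.ker)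
    (H3 : ∀ g, f g ^ 3 = 1 → f g ≠ 1 → g ^ 3 = 1) {z : G} (hz : z ∈ f.ker)
    (hc : z ∈ centralizer (f.ker : Set G)) : z ^ 2 = 1 := by
  set A := f.ker ⊓ centralizer (f.ker : Set G)
  letI : CommGroup A := { (inferInstance : Group A) with
    mul_comm := fun a b => Subtype.ext (b.2.2 a a.2.1) }
  have h := pow_six (M := A) hf (MulAut.conjNormal : G →* MulAut A) (fun g hg => by
      ext x
      change g * (x : G) * g⁻¹ = x
      rw [x.2.2 g hg, mul_inv_cancel_right])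
    (fun g h1 h2 x => Subtype.ext (norm_eq_one H3 h1 h2 x.2.1)) ⟨z, hz, hc⟩
  have h' : z ^ 6 = 1 := congrArg Subtype.val h
  refine eq_one_of_cube hQ (pow_mem hz 2) ?_
  rw [← pow_mul]; exact h'

theorem elemAb [Finite G] {f : G →* A5} (hf : Function.Surjective f) (hQ : IsPGroup 2 f.ker)
    (H3 : ∀ g, f g ^ 3 = 1 → f g ≠ 1 → g ^ 3 = 1) : Cfsg.IsElementaryAbelian 2 f.ker := by
  set Q := f.ker with hQdef
  obtain ⟨h, hh⟩ := hf h0
  have hh1 : f h ^ 3 = 1 := by rw [hh]; decide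
  have hh2 : f h ≠ 1 := by rw [hh]; decide
  -- class at most two
  have cl : ∀ x ∈ Q, ∀ y ∈ Q, x * y * x⁻¹ * y⁻¹ ∈ centralizer (Q : Set G) := by
    by_cases hb : Q = ⊥
    · intro x hx y _
      rw [hb, mem_bot] at hx
      simp [hx]
    have hfpf : ∀ q : Q, MulAut.conjNormal h q = q → q = 1 := fun q hq => by
      have e : h * q * h⁻¹ = q := congrArg Subtype.val hq
      have := norm_eq_one H3 hh1 hh2 (x := q) q.2
      rw [e, e] at this
      exact Subtype.ext (eq_one_of_cube hQ q.2 (by rw [← this]; simp only [pow_succ, pow_zero, one_mul]))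
    haveI : Fact (Nat.Prime 3) := ⟨Nat.prime_three⟩
    have ho : orderOf (MulAut.conjNormal h : MulAut Q) = 3 := by
      apply orderOf_eq_prime
      · rw [← map_pow, H3 h hh1 hh2, map_one]
      · intro e
        apply hb
        rw [eq_bot_iff]
        intro q hq
        exact mem_bot.2 (congrArg Subtype.val (hfpf ⟨q, hq⟩ (by rw [e]; rfl)))
    have h2 := (Cfsg.Agent.S3779.result Nat.prime_three _ ho hfpf).2.1 rfl
    intro x hx y hy w hw
    have m1 : ⁅(⟨x, hx⟩ : Q), (⟨y, hy⟩ : Q)⁆ ∈ (⊤ : Subgroup Q).lowerCentralSeries 1 :=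
      commutator_mem_commutator (mem_top _) (mem_top _)
    have m2 : ⁅⁅(⟨x, hx⟩ : Q), (⟨y, hy⟩ : Q)⁆, (⟨w, hw⟩ : Q)⁆ ∈
        (⊤ : Subgroup Q).lowerCentralSeries 2 := commutator_mem_commutator m1 (mem_top _)
    rw [h2, mem_bot, commutatorElement_eq_one_iff_mul_comm] at m2
    exact (congrArg Subtype.val m2).symm
  have nQ : ∀ g x, x ∈ Q → g * x * g⁻¹ ∈ Q := fun g x hx => Normal.conj_mem inferInstance x hx g
  have mQ : ∀ x ∈ Q, ∀ y ∈ Q, ⁅x, y⁆ ∈ Q := fun x hx y hy =>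
    mul_mem (mul_mem (mul_mem hx hy) (inv_mem hx)) (inv_mem hy)
  have cc : ∀ x ∈ Q, ∀ y ∈ Q, ∀ w ∈ Q, w * ⁅x, y⁆ = ⁅x, y⁆ * w := fun x hx y hy w hw =>
    cl x hx y hy w hw
  have sq : ∀ x ∈ Q, ∀ y ∈ Q, ⁅x, y⁆ * ⁅x, y⁆ = 1 := fun x hx y hy => by
    rw [← sq]; exact sq_eq_one_of_central hf hQ H3 (mQ x hx y hy) (cl x hx y hy)
  have bl : ∀ x ∈ Q, ∀ x' ∈ Q, ∀ y ∈ Q, ⁅x * x', y⁆ = ⁅x, y⁆ * ⁅x', y⁆ :=
    fun x hx x' hx' y hy => by
      calc ⁅x * x', y⁆ = x * ⁅x', y⁆ * x⁻¹ * ⁅x, y⁆ := by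
            simp only [commutatorElement_def]; group
        _ = _ := by
            rw [cc x' hx' y hy x hx, mul_inv_cancel_right, cc x hx y hy _ (mQ x' hx' y hy)]
  have br : ∀ x ∈ Q, ∀ y ∈ Q, ∀ y' ∈ Q, ⁅x, y * y'⁆ = ⁅x, y⁆ * ⁅x, y'⁆ :=
    fun x hx y hy y' hy' => by
      calc ⁅x, y * y'⁆ = ⁅x, y⁆ * (y * ⁅x, y'⁆ * y⁻¹) := by
            simp only [commutatorElement_def]; group
        _ = _ := by rw [cc x hx y' hy' y hy, mul_inv_cancel_right]
  have bi : ∀ x ∈ Q, ∀ y ∈ Q, ⁅x⁻¹, y⁻¹⁆ = ⁅x, y⁆ := fun x hx y hy => by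
    calc ⁅x⁻¹, y⁻¹⁆ = (y * x)⁻¹ * ⁅x, y⁆ * (y * x) := by
          simp only [commutatorElement_def]; group
      _ = _ := by rw [cc x hx y hy _ (inv_mem (mul_mem hy hx)), inv_mul_cancel_right]
  have cj : ∀ g x y : G, g * ⁅x, y⁆ * g⁻¹ = ⁅g * x * g⁻¹, g * y * g⁻¹⁆ := fun g x y => by
    simp only [commutatorElement_def]; group
  have adj : ∀ g, f g ^ 3 = 1 → f g ≠ 1 → ∀ x ∈ Q, ∀ y ∈ Q,
      ⁅g * x * g⁻¹, y⁆ = ⁅x, g * y * g⁻¹⁆ := fun g h1 h2 x hx y hy => by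
    have e := norm_eq_one H3 h1 h2 (mQ x hx y hy)
    have ex := (eq_inv_of_mul_eq_one_right (norm_eq_one H3 h1 h2 hx))
    have ey := (eq_inv_of_mul_eq_one_right (norm_eq_one H3 h1 h2 hy))
    have hx1 := nQ g x hx
    have hy1 := nQ g y hy
    rw [cj, cj, ex, ey, bi _ (mul_mem hx hx1) _ (mul_mem hy hy1), bl _ hx _ hx1 _ (mul_mem hy hy1),
      br _ hx _ hy _ hy1, br _ hx1 _ hy _ hy1] at e
    set a := ⁅x, y⁆
    set b := ⁅g * x * g⁻¹, g * y * g⁻¹⁆
    set c := ⁅x, g * y * g⁻¹⁆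
    set d := ⁅g * x * g⁻¹, y⁆
    have hba : b * a = a * b := cc x hx y hy _ (mQ _ hx1 _ hy1)
    have hbc : b * c = c * b := cc x hx _ hy1 _ (mQ _ hx1 _ hy1)
    have hbd : b * d = d * b := cc _ hx1 y hy _ (mQ _ hx1 _ hy1)
    have haa : a * a = 1 := sq x hx y hy
    have hbb : b * b = 1 := sq _ hx1 _ hy1
    have hcc : c * c = 1 := sq x hx _ hy1
    have e2 : c * d = 1 := by
      calc c * d = (a * a) * c * d * (b * b) := by rw [haa, hbb, one_mul, mul_one]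
        _ = a * (a * (c * (d * b))) * b := by simp only [mul_assoc]
        _ = a * (a * (c * b) * d) * b := by rw [← hbd]; simp only [mul_assoc]
        _ = a * (a * b * c * d) * b := by rw [← hbc]; simp only [mul_assoc]
        _ = 1 := by rw [← hba, ← e]; simp only [mul_assoc]
    rw [← hcc, mul_left_cancel_iff] at e2
    exact e2
  have act : ∀ g, f g ^ 3 = 1 → f g ≠ 1 → ∀ x ∈ Q, ∀ y ∈ Q,
      g * ⁅x, y⁆ * g⁻¹ = ⁅x, g⁻¹ * y * g⁻¹⁻¹⁆ := fun g h1 h2 x hx y hy => by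
    rw [cj, adj g h1 h2 x hx _ (nQ g y hy)]
    have : g⁻¹ = g * g := by
      rw [inv_eq_iff_mul_eq_one, ← H3 g h1 h2]; simp only [pow_succ, pow_zero, one_mul, mul_assoc]
    congr 1
    nth_rewrite 3 4 [this]
    group
  let K : Subgroup G :=
    { carrier := {g | ∀ x ∈ Q, ∀ y ∈ Q, ⁅x, g * y * g⁻¹⁆ = ⁅x, y⁆}
      one_mem' := fun x _ y _ => by simp
      mul_mem' := fun {a b} ha hb x hx y hy => by
        rw [← hb x hx y hy, ← ha x hx _ (nQ b y hy)]
        congr 1; group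
      inv_mem' := fun {a} ha x hx y hy => by
        rw [← ha x hx _ (nQ a⁻¹ y hy)]
        congr 1; group }
  haveI hK : K.Normal := ⟨fun a ha g x hx y hy => by
    have e := ha _ (nQ g⁻¹ x hx) _ (nQ g⁻¹ y hy)
    have e' := congrArg (fun z => g * z * g⁻¹) e
    simp only [cj] at e'
    convert e' using 2 <;> group⟩
  have hQK : Q ≤ K := fun q hq x hx y hy => by
    have : q * y * q⁻¹ = ⁅q, y⁆ * y := by simp only [commutatorElement_def]; group
    rw [this, br x hx _ (mQ q hq y hy) y hy,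
      commutatorElement_eq_one_iff_mul_comm.2 (cc q hq y hy x hx), one_mul]
  obtain ⟨k, hk⟩ := hf (h0 * t1)
  have hk1 : f k ^ 3 = 1 := by rw [hk]; decide
  have hk2 : f k ≠ 1 := by rw [hk]; decide
  have hl1 : f (h * k)⁻¹ ^ 3 = 1 := by rw [map_inv, map_mul, hh, hk]; decide +kernel
  have hl2 : f (h * k)⁻¹ ≠ 1 := by rw [map_inv, map_mul, hh, hk]; decide
  have hc : h⁻¹ * k⁻¹ * (h * k) ∈ K := fun x hx y hy => by
    have e1 := act _ hl1 hl2 x hx y hy
    have e2 := act _ hk1 hk2 x hx _ (nQ (h * k)⁻¹⁻¹ y hy)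
    have e3 := act _ hh1 hh2 x hx _ (nQ k⁻¹ _ (nQ (h * k)⁻¹⁻¹ y hy))
    rw [← e2, ← e1] at e3
    convert e3.symm using 2 <;> group
  have htop : K = ⊤ := eq_top_of_mem hf K hQK hc (by
    simp only [map_mul, map_inv, hh, hk]; decide)
  have comm : ∀ x ∈ Q, ∀ y ∈ Q, x * y = y * x := fun x hx y hy => by
    have hhK : h ∈ K := htop ▸ mem_top h
    have e1 := hhK x hx y hy
    have e2 := hhK x hx _ (nQ h y hy)
    have e : ⁅x, y * (h * y * h⁻¹) * (h * (h * y * h⁻¹) * h⁻¹)⁆ = 1 := by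
      rw [norm_eq_one H3 hh1 hh2 hy, commutatorElement_one_right]
    rw [br x hx _ (mul_mem hy (nQ h y hy)) _ (nQ h _ (nQ h y hy)), br x hx y hy _ (nQ h y hy), e2,
      e1, sq x hx y hy, one_mul] at e
    exact commutatorElement_eq_one_iff_mul_comm.1 e
  exact ⟨⟨⟨fun a b => Subtype.ext (comm a a.2 b b.2)⟩⟩, fun a ha =>
    sq_eq_one_of_central hf hQ H3 ha fun b hb => comm b hb a ha⟩

abbrev A6 := alternatingGroup (Fin 6)

def z0 : A6 := ⟨swap 0 1 * swap 2 3, Perm.mem_alternatingGroup.2 (by decide)⟩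
def a0 : A6 := ⟨swap 0 2 * swap 2 1 * swap 1 3 * swap 4 5, Perm.mem_alternatingGroup.2 (by decide)⟩
def b0 : A6 := ⟨swap 0 1 * swap 4 5, Perm.mem_alternatingGroup.2 (by decide)⟩
def y0 : A6 := ⟨c[0, 2, 4] * c[1, 3, 5], Perm.mem_alternatingGroup.2 (by decide)⟩

theorem a6_conj (σ : A6) (h1 : σ * σ = 1) (h2 : σ ≠ 1) : ∃ τ : A6, τ * z0 = σ * τ := by
  have h : ∀ σ : Perm (Fin 6), σ * σ = 1 → σ ≠ 1 → Perm.sign σ = 1 →
      ∃ τ : Perm (Fin 6), Perm.sign τ = 1 ∧ τ * (swap 0 1 * swap 2 3) = σ * τ := by decide +kernel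
  obtain ⟨τ, hτ, e⟩ := h σ.1 (congrArg Subtype.val h1) (fun e => h2 (Subtype.ext e)) σ.2
  exact ⟨⟨τ, hτ⟩, Subtype.ext e⟩

theorem a6_b : ∀ σ : A6, σ * z0 = z0 * σ → σ * σ = 1 → σ ≠ 1 → σ ≠ z0 →
    σ = b0 ∨ σ = b0 * z0 ∨ σ = a0 * b0 ∨ σ = a0⁻¹ * b0 := by decide +kernel

theorem a6_a : ∀ σ : A6, σ * σ = z0 → σ = a0 ∨ σ = a0⁻¹ := by decide +kernel

theorem a6_u : ∀ u : A6, u * u = 1 → u * a0 = a0 * u → u * b0 ≠ z0 * b0 * u := by decide +kernel

theorem a6_v : ∀ v : A6, v * z0 = z0 * v → v * b0 = b0 * v →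
    v = 1 ∨ v = z0 ∨ v = b0 ∨ v = z0 * b0 := by decide +kernel

theorem no_ext {N : Subgroup G} [N.Normal] (hN : N.index = 2) (e : N ≃* A6)
    (h : ∀ g : G, g ^ 4 = 1 ∨ g ^ 3 = 1 ∨ g ^ 5 = 1) : False := by
  let ι : A6 →* G := N.subtype.comp e.symm.toMonoidHom
  have hι : Function.Injective ι := N.subtype_injective.comp e.symm.injective
  have hm : ∀ x, ι x ∈ N := fun x => (e.symm x).2
  have hs : ∀ g ∈ N, ∃ x, ι x = g := fun g hg => ⟨e ⟨g, hg⟩, by simp [ι]⟩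
  have hc : ∀ g x, ∃ x', ι x' = g * ι x * g⁻¹ := fun g x =>
    hs _ (Normal.conj_mem inferInstance _ (hm x) g)
  have h4 : ∀ w, w ∉ N → w ^ 4 = 1 := fun w hw => by
    have h2 : w ^ 2 ∈ N := sq_mem_of_index_two hN w
    rcases h w with e | e | e
    · exact e
    · refine absurd ?_ hw
      have : w = (w ^ 2)⁻¹ := by rw [eq_inv_iff_mul_eq_one, ← pow_succ', e]
      exact this ▸ inv_mem h2
    · refine absurd ?_ hw
      have : w = ((w ^ 2) ^ 2)⁻¹ := by rw [eq_inv_iff_mul_eq_one, ← pow_mul, ← pow_succ', e]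
      exact this ▸ inv_mem (pow_mem h2 2)
  have out : ∀ x w, w ∉ N → ι x * w ∉ N := fun x w hw e => hw ((N.mul_mem_cancel_left (hm x)).1 e)
  obtain ⟨g, hg⟩ : ∃ g, g ∉ N := by
    by_contra! hh
    rw [(eq_top_iff' N).2 hh, index_top] at hN
    omega
  obtain ⟨w, hw, hwz⟩ : ∃ w, w ∉ N ∧ w * ι z0 * w⁻¹ = ι z0 := by
    obtain ⟨σ, hσ⟩ := hc g z0
    obtain ⟨τ, hτ⟩ := a6_conj σ (hι (by
        rw [map_mul, hσ, conj_mul, ← map_mul, show z0 * z0 = 1 by decide +kernel]; simp))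
      (fun e => by
        rw [e, map_one, eq_comm, conj_eq_one_iff, map_eq_one_iff ι hι] at hσ
        exact absurd hσ (by decide +kernel))
    refine ⟨ι τ⁻¹ * g, out _ _ hg, ?_⟩
    calc _ = ι τ⁻¹ * (g * ι z0 * g⁻¹) * (ι τ⁻¹)⁻¹ := by group
      _ = ι (τ⁻¹ * (σ * τ)) := by rw [← hσ]; simp [mul_assoc]
      _ = _ := by rw [← hτ, inv_mul_cancel_left]
  have bad : ∀ w, w ∉ N → w * ι a0 * w⁻¹ = ι a0 → ∀ c : A6, c * c = z0 → c * a0 = a0 * c →
      (c = a0 ∨ c = a0⁻¹) → w * ι b0 * w⁻¹ ≠ ι (c * b0) := fun w hw ha c hc1 hc2 hc3 hb => by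
    obtain ⟨u, hu⟩ := hs _ (sq_mem_of_index_two hN w)
    have hwc : w * ι c * w⁻¹ = ι c := by
      rcases hc3 with rfl | rfl
      · exact ha
      · rw [map_inv, ← conj_inv, ha]
    refine a6_u u (hι ?_) (hι ?_) (hι ?_)
    · rw [map_mul, hu, ← pow_add, map_one, h4 w hw]
    · rw [map_mul, map_mul, hu, ← mul_inv_eq_iff_eq_mul]
      calc _ = w * (w * ι a0 * w⁻¹) * w⁻¹ := by simp only [sq]; group
        _ = _ := by rw [ha, ha]
    · rw [map_mul, map_mul, hu, ← mul_inv_eq_iff_eq_mul]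
      calc _ = w * (w * ι b0 * w⁻¹) * w⁻¹ := by simp only [sq]; group
        _ = (w * ι c * w⁻¹) * (w * ι b0 * w⁻¹) := by rw [conj_mul, ← map_mul, ← hb]
        _ = _ := by rw [hwc, hb, ← map_mul, ← mul_assoc, hc1]
  have cj : ∀ (x : A6) (w : G) (y y' : A6), w * ι y * w⁻¹ = ι y' →
      ι x * w * ι y * (ι x * w)⁻¹ = ι (x * y' * x⁻¹) := fun x w y y' e => by
    rw [map_mul, map_mul, ← e, map_inv]; group
  obtain ⟨w, hw, hwz, hwb⟩ : ∃ w, w ∉ N ∧ w * ι z0 * w⁻¹ = ι z0 ∧ w * ι b0 * w⁻¹ = ι b0 := by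
    obtain ⟨σ, hσ⟩ := hc w b0
    obtain ⟨α, hα⟩ := hc w a0
    have hα' := a6_a α (hι (by
      rw [map_mul, hα, conj_mul, ← map_mul, show a0 * a0 = z0 by decide, hwz]))
    rcases a6_b σ (hι (by
        rw [map_mul, map_mul, hσ, ← hwz, conj_mul, conj_mul, ← map_mul, ← map_mul,
          show b0 * z0 = z0 * b0 by decide +kernel]))
      (hι (by rw [map_mul, hσ, conj_mul, ← map_mul, show b0 * b0 = 1 by decide +kernel]; simp))
      (fun e => by
        rw [e, map_one, eq_comm, conj_eq_one_iff, map_eq_one_iff ι hι] at hσ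
        exact absurd hσ (by decide +kernel))
      (fun e => by
        rw [e, ← hwz, mul_left_inj, mul_right_inj] at hσ
        exact absurd (hι hσ) (by decide +kernel)) with rfl | rfl | rfl | rfl
    · exact ⟨w, hw, hwz, hσ.symm⟩
    · refine ⟨ι a0 * w, out _ _ hw, ?_, ?_⟩
      · rw [cj _ _ _ _ hwz]; exact congrArg ι (by decide +kernel)
      · rw [cj _ _ _ _ hσ.symm]; exact congrArg ι (by decide +kernel)
    · exfalso
      rcases hα' with rfl | rfl
      · exact bad w hw hα.symm a0 (by decide +kernel) rfl (Or.inl rfl) hσ.symm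
      · refine bad (ι b0 * w) (out _ _ hw) ?_ a0⁻¹ (by decide +kernel) (by decide +kernel) (Or.inr rfl) ?_
        · rw [cj _ _ _ _ hα.symm]; exact congrArg ι (by decide +kernel)
        · rw [cj _ _ _ _ hσ.symm]; exact congrArg ι (by decide +kernel)
    · exfalso
      rcases hα' with rfl | rfl
      · exact bad w hw hα.symm a0⁻¹ (by decide +kernel) (by decide +kernel) (Or.inr rfl) hσ.symm
      · refine bad (ι b0 * w) (out _ _ hw) ?_ a0 (by decide +kernel) rfl (Or.inl rfl) ?_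
        · rw [cj _ _ _ _ hα.symm]; exact congrArg ι (by decide +kernel)
        · rw [cj _ _ _ _ hσ.symm]; exact congrArg ι (by decide +kernel)
  have cz : Commute w (ι z0) := mul_inv_eq_iff_eq_mul.1 hwz
  have cb : Commute w (ι b0) := mul_inv_eq_iff_eq_mul.1 hwb
  have czb : Commute w (ι (z0 * b0)) := map_mul ι z0 b0 ▸ cz.mul_right cb
  obtain ⟨y', hy'⟩ := hc w y0⁻¹
  have cy : ∀ x x' : A6, Commute w (ι x) → Commute w (ι x') → x * y0 = y0 * x' →
      y0 * y' * x = x * (y0 * y') := fun x x' h1 h2 e => hι (by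
    have e' : ι x * ι y0 = ι y0 * ι x' := by rw [← map_mul, e, map_mul]
    have e'' : (ι y0)⁻¹ * ι x = ι x' * (ι y0)⁻¹ := by
      rw [inv_mul_eq_iff_eq_mul, ← mul_assoc, ← e', mul_inv_cancel_right]
    simp only [map_mul, hy', map_inv]
    calc _ = ι y0 * w * (ι y0)⁻¹ * (w⁻¹ * ι x) := by group
      _ = ι y0 * w * ((ι y0)⁻¹ * ι x) * w⁻¹ := by rw [h1.inv_left.eq]; group
      _ = ι y0 * (w * ι x') * (ι y0)⁻¹ * w⁻¹ := by rw [e'']; group
      _ = (ι y0 * ι x') * w * (ι y0)⁻¹ * w⁻¹ := by rw [h2.eq]; group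
      _ = _ := by rw [← e']; group)
  have hv := a6_v (y0 * y') (cy z0 b0 cz cb (by decide +kernel))
    (cy b0 (z0 * b0) cb czb (by decide +kernel))
  obtain ⟨v, hv⟩ : ∃ v : A6, y0 * v * y0⁻¹ * (y0 * y') = v := by
    rcases hv with e | e | e | e <;> rw [e]
    · exact ⟨1, by decide +kernel⟩
    · exact ⟨z0 * b0, by decide +kernel⟩
    · exact ⟨z0, by decide +kernel⟩
    · exact ⟨b0, by decide +kernel⟩
  have cu : Commute (ι y0) (ι v * w) := by
    have := congrArg ι hv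
    simp only [map_mul, hy', map_inv] at this
    change ι y0 * (ι v * w) = ι v * w * ι y0
    nth_rewrite 2 [← this]
    group
  have e1 := h4 _ (out v w hw)
  have e2 := h4 _ (out y0 _ (out v w hw))
  rw [cu.mul_pow, e1, mul_one, ← map_pow, map_eq_one_iff ι hι] at e2
  exact absurd e2 (by decide +kernel)

end H76.Spec5
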