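import Mathlib
import Cfsg.Agent.Base
import Cfsg.Agent.Lib.FGS83.LieLCS
import Cfsg.Agent.Lib.Core.Frobenius
import Cfsg.Agent.S0032
import Cfsg.Agent.Lib.FGS.Spec5

/-!
The Frobenius group `13 : 3` acting on a `2`-group; the norm of a Frobenius complement on a module;
modules for the binary octahedral group over `F₁₃`.
-/

set_option autoImplicit false

namespace H76.Frob13

open H83.Krek TensorProduct Polynomial Subgroup
open scoped commutatorElement

universe u

theorem proj_zero {A V ι : Type*} [CommRing A] [AddCommGroup V] [Module A V] [Fintype ι] {p : ℕ}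
    [hp : Fact p.Prime] {ω : A} (h0 : ∑ i ∈ Finset.range p, ω ^ i = 0) (β : Module.End A V)
    (v : ι → V) (d : ι → ZMod p) (hv : ∀ i, β (v i) = ω ^ (d i).val • v i) (hs : ∑ i, v i = 0)
    (i₀ : ι) (hd : ∀ i, d i = d i₀ → i = i₀) : p • v i₀ = 0 := by
  classical
  have h1 : ω ^ p = 1 := by
    have := mul_geom_sum ω p
    rw [h0, mul_zero] at this
    exact (sub_eq_zero.1 this.symm)
  have h2 : ∑ k : ZMod p, ω ^ k.val = 0 := by
    rw [← h0]
    refine Finset.sum_bij (fun k _ => k.val) (fun k _ => Finset.mem_range.2 (ZMod.val_lt k))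
      (fun a _ b _ h => ZMod.val_injective p h) (fun b hb => ?_) (fun _ _ => rfl)
    exact ⟨(b : ZMod p), Finset.mem_univ _, ZMod.val_cast_of_lt (Finset.mem_range.1 hb)⟩
  have hpow : ∀ i (k : ℕ), (β ^ k) (v i) = ω ^ ((d i) * k).val • v i := by
    intro i k
    induction k with
    | zero => simp
    | succ k ih =>
      rw [pow_succ', Module.End.mul_apply, ih, map_smul, hv, smul_smul, ← pow_val_add h1]
      congr 3
      push_cast; ring
  let P : Module.End A V := ∑ s : ZMod p, ω ^ (-(d i₀ * s)).val • β ^ s.val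
  have hP : ∀ i, P (v i) = (∑ s : ZMod p, ω ^ ((d i - d i₀) * s).val) • v i := by
    intro i
    rw [LinearMap.sum_apply, Finset.sum_smul]
    refine Finset.sum_congr rfl fun s _ => ?_
    rw [LinearMap.smul_apply, hpow, smul_smul, ← pow_val_add h1, ZMod.natCast_zmod_val]
    congr 3
    ring
  have h3 := congrArg P hs
  rw [map_sum, map_zero, Finset.sum_eq_single i₀, hP] at h3
  · simpa [Nat.cast_smul_eq_nsmul] using h3
  · intro i _ hi
    have hne : d i - d i₀ ≠ 0 := fun e => hi (hd i (sub_eq_zero.1 e))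
    have : ∑ s : ZMod p, ω ^ ((d i - d i₀) * s).val = 0 := by
      rw [← h2]
      exact Fintype.sum_equiv (Equiv.mulLeft₀ _ hne) _ _ fun s => by simp
    rw [hP, this, zero_smul]
  · simp

set_option synthInstance.maxSize 2000 in
theorem deg1 : ∀ a b : ZMod 13, a + b ≠ 0 → b ≠ 3 * a → b ≠ 9 * a → a ≠ 0 → b ≠ 0 →
    ∀ i j : Fin 3, 3 ^ i.val * a + 3 ^ j.val * b = a + b → i = 0 ∧ j = 0 := by decide +kernel

theorem deg2 : ∀ a b e : ZMod 13, a ≠ 0 → (b = 3 * a ∨ b = 9 * a) →
    (e = 3 * (a + b) ∨ e = 9 * (a + b)) →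
    e ≠ 3 * a ∧ e ≠ 9 * a ∧ e ≠ 3 * b ∧ e ≠ 9 * b := by decide +kernel

theorem deg3 : ∀ a : ZMod 13, a ≠ 0 → ∀ i : Fin 3, 3 ^ i.val * a = a → i = 0 := by decide +kernel

theorem lie_ext {A : Type} [CommRing A] {ω : A} (h0 : ∑ i ∈ Finset.range 13, ω ^ i = 0)
    {L : Type u} [LieRing L] [LieAlgebra A L] (β γ : Module.End A L)
    (hβ : ∀ x y, β ⁅x, y⁆ = ⁅β x, β y⁆) (hβp : β ^ 13 = 1) (hfix : ∀ x, β x = x → x = 0)
    (hc : ∀ x, β (γ x) = γ (β (β (β x))))
    (hN : ∀ x y, ⁅x + γ x + γ (γ x), y + γ y + γ (γ y)⁆ = 0)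
    (hN2 : ∀ x, 2 • (x + γ x + γ (γ x)) = 0)
    (h13 : ∀ x : L, 13 • x = 0 → x = 0) :
    (∀ x y z : L, ⁅⁅x, y⁆, z⁆ = 0) ∧ ∀ x : L, 2 • x = 0 := by
  have : Fact (Nat.Prime 13) := ⟨by norm_num⟩
  have h1 : ω ^ 13 = 1 := by
    have := mul_geom_sum ω 13
    rw [h0, mul_zero] at this
    exact (sub_eq_zero.1 this.symm)
  let M : ZMod 13 → L → Prop := fun a x => β x = ω ^ a.val • x
  have M0 : ∀ x, M 0 x → x = 0 := fun x hx => hfix x (by simpa [M] using hx)
  have Mγ : ∀ a x, M a x → M (3 * a) (γ x) := by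
    intro a x hx
    simp only [M] at hx ⊢
    rw [hc]
    simp only [hx, map_smul, smul_smul]
    rw [← pow_val_add h1, ← pow_val_add h1]
    congr 3
    ring
  have Mγ' : ∀ a x, M a x → ∀ i : Fin 3, M (3 ^ i.val * a) ((γ ^ i.val) x) := by
    intro a x hx i
    fin_cases i
    · simpa using hx
    · simpa using Mγ a x hx
    · have := Mγ _ _ (Mγ a x hx)
      rw [← mul_assoc] at this
      simpa [pow_two] using this
  have Mlie : ∀ a b x y, M a x → M b y → M (a + b) ⁅x, y⁆ := by
    intro a b x y hx hy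
    simp only [M] at hx hy ⊢
    rw [hβ, hx, hy, smul_lie, lie_smul, smul_smul, pow_val_add h1]
  have hsum : ∀ x : L, ∑ i : Fin 3, (γ ^ i.val) x = x + γ x + γ (γ x) := by
    intro x
    simp [Fin.sum_univ_three, pow_two]
  have key : ∀ a b x y, M a x → M b y → b ≠ 3 * a → b ≠ 9 * a → ⁅x, y⁆ = 0 := by
    intro a b x y hx hy h3 h9
    by_cases ha : a = 0
    · rw [M0 x (ha ▸ hx), zero_lie]
    by_cases hb : b = 0
    · rw [M0 y (hb ▸ hy), lie_zero]
    by_cases hab : a + b = 0
    · exact M0 _ (hab ▸ Mlie a b x y hx hy)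
    apply h13
    have := proj_zero h0 β (fun q : Fin 3 × Fin 3 => ⁅(γ ^ q.1.val) x, (γ ^ q.2.val) y⁆)
      (fun q => 3 ^ q.1.val * a + 3 ^ q.2.val * b)
      (fun q => Mlie _ _ _ _ (Mγ' a x hx q.1) (Mγ' b y hy q.2)) (by
        rw [Fintype.sum_prod_type, ← hN x y, ← hsum, ← hsum, sum_lie]
        exact Finset.sum_congr rfl fun i _ => by rw [lie_sum]) (0, 0) (by
        rintro ⟨i, j⟩ h
        obtain ⟨rfl, rfl⟩ := deg1 a b hab h3 h9 ha hb i j (by simpa using h)
        rfl)
    simpa using this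
  have dec : ∀ (P : L → Prop), P 0 → (∀ x y, P x → P y → P (x + y)) → (∀ a x, M a x → P x) →
      ∀ x, P (13 • x) := by
    intro P p0 padd pM x
    obtain ⟨g, hg, e⟩ := sum_proj h0 β hβp x
    rw [← e]
    exact Finset.sum_induction _ P padd p0 fun a _ => pM a _ (hg a)
  constructor
  · have k3 : ∀ a b e x y z, M a x → M b y → M e z → ⁅⁅x, y⁆, z⁆ = 0 := by
      intro a b e x y z hx hy hz
      by_cases ha : a = 0
      · rw [M0 x (ha ▸ hx), zero_lie, zero_lie]
      by_cases hb : b = 3 * a ∨ b = 9 * a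
      swap
      · rw [key a b x y hx hy (fun h => hb (.inl h)) (fun h => hb (.inr h)), zero_lie]
      by_cases he : e = 3 * (a + b) ∨ e = 9 * (a + b)
      swap
      · exact key _ e _ z (Mlie a b x y hx hy) hz (fun h => he (.inl h)) (fun h => he (.inr h))
      obtain ⟨e1, e2, e3, e4⟩ := deg2 a b e ha hb he
      rw [lie_lie, key a e x z hx hz e1 e2, key b e y z hy hz e3 e4, lie_zero, lie_zero, sub_zero]
    intro x y z
    apply h13; apply h13; apply h13
    rw [← lie_nsmul, ← nsmul_lie, ← nsmul_lie, ← lie_nsmul, ← nsmul_lie]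
    refine dec (fun x => ⁅⁅x, 13 • y⁆, 13 • z⁆ = 0) (by simp) (fun _ _ h h' => by
      simp only [add_lie] at *; rw [h, h', add_zero]) (fun a x hx => ?_) x
    refine dec (fun y => ⁅⁅x, y⁆, 13 • z⁆ = 0) (by simp) (fun _ _ h h' => by
      simp only [add_lie, lie_add] at *; rw [h, h', add_zero]) (fun b y hy => ?_) y
    exact dec (fun z => ⁅⁅x, y⁆, z⁆ = 0) (by simp) (fun _ _ h h' => by
      simp only [lie_add] at *; rw [h, h', add_zero]) (fun e z hz => k3 a b e x y z hx hy hz) z
  · intro x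
    apply h13
    rw [smul_comm]
    refine dec (fun x => 2 • x = 0) (by simp) (fun _ _ h h' => by
      simp only [smul_add] at *; rw [h, h', add_zero]) (fun a x hx => ?_) x
    by_cases ha : a = 0
    · rw [M0 x (ha ▸ hx), smul_zero]
    apply h13
    have := proj_zero h0 β (fun i : Fin 3 => 2 • (γ ^ i.val) x) (fun i => 3 ^ i.val * a)
      (fun i => by rw [map_nsmul, Mγ' a x hx i, smul_comm]) (by
        rw [← Finset.smul_sum, hsum, hN2]) 0 (fun i h => deg3 a ha i (by simpa using h))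
    simpa using this

theorem lie_aux {R A : Type} [CommRing R] [CommRing A] [Algebra R A] {ι : Type}
    (bs : Module.Basis ι R A) {i₀ : ι} (hi₀ : bs i₀ = 1) {ω : A}
    (h0 : ∑ i ∈ Finset.range 13, ω ^ i = 0)
    {L : Type u} [LieRing L] [LieAlgebra R L] (α γ : L →ₗ[R] L)
    (hα : ∀ x y, α ⁅x, y⁆ = ⁅α x, α y⁆) (hαp : ∀ x, α^[13] x = x) (hfix : ∀ x, α x = x → x = 0)
    (hc : ∀ x, α (γ x) = γ (α (α (α x))))
    (hN : ∀ x y, ⁅x + γ x + γ (γ x), y + γ y + γ (γ y)⁆ = 0)
    (hN2 : ∀ x, 2 • (x + γ x + γ (γ x)) = 0)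
    (h13 : ∀ x : L, 13 • x = 0 → x = 0) :
    (∀ x y z : L, ⁅⁅x, y⁆, z⁆ = 0) ∧ ∀ x : L, 2 • x = 0 := by
  classical
  let E := TensorProduct.equivFinsuppOfBasisLeft (N := L) bs
  let β : Module.End A (A ⊗[R] L) := LinearMap.baseChange A α
  let δ : Module.End A (A ⊗[R] L) := LinearMap.baseChange A γ
  have hβt : ∀ (a : A) (x : L), β (a ⊗ₜ x) = a ⊗ₜ α x := fun _ _ => rfl
  have hδt : ∀ (a : A) (x : L), δ (a ⊗ₜ x) = a ⊗ₜ γ x := fun _ _ => rfl
  have hβl : ∀ f g, β ⁅f, g⁆ = ⁅β f, β g⁆ := by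
    intro f g
    induction f using TensorProduct.induction_on with
    | zero => simp
    | add a b ha hb => rw [add_lie, map_add, map_add, add_lie, ha, hb]
    | tmul a x =>
      induction g using TensorProduct.induction_on with
      | zero => simp
      | add a b ha hb => rw [lie_add, map_add, map_add, lie_add, ha, hb]
      | tmul b y =>
        rw [LieAlgebra.ExtendScalars.bracket_tmul, hβt, hβt, hβt,
          LieAlgebra.ExtendScalars.bracket_tmul, hα]
  have hβp : β ^ 13 = 1 := by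
    have : ∀ (k : ℕ) (a : A) (x : L), (β ^ k) (a ⊗ₜ x) = a ⊗ₜ α^[k] x := by
      intro k
      induction k with
      | zero => exact fun _ _ => rfl
      | succ k ih =>
        intro a x
        rw [pow_succ, Module.End.mul_apply, hβt, ih, Function.iterate_succ_apply]
    apply LinearMap.ext
    intro f
    induction f using TensorProduct.induction_on with
    | zero => simp
    | add a b ha hb => rw [map_add, map_add, ha, hb]
    | tmul a x => rw [this, hαp]; rfl
  have hE : ∀ (φ : L →ₗ[R] L) f i, E (LinearMap.baseChange A φ f) i = φ (E f i) := by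
    intro φ f i
    induction f using TensorProduct.induction_on with
    | zero => simp
    | add a b ha hb => simp only [map_add, Finsupp.add_apply, ha, hb]
    | tmul a x =>
      rw [LinearMap.baseChange_tmul, TensorProduct.equivFinsuppOfBasisLeft_apply_tmul_apply,
        TensorProduct.equivFinsuppOfBasisLeft_apply_tmul_apply, map_smul]
  have hext : ∀ f g : A ⊗[R] L, (∀ i, E f i = E g i) → f = g := fun f g h =>
    E.injective (Finsupp.ext h)
  have hone : ∀ x : L, (1 : A) ⊗ₜ[R] x = 0 → x = 0 := by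
    intro x h3
    have h4 := congrArg (fun f => E f i₀) h3
    simp only [map_zero, Finsupp.zero_apply] at h4
    rw [TensorProduct.equivFinsuppOfBasisLeft_apply_tmul_apply] at h4
    rwa [← hi₀, bs.repr_self, Finsupp.single_eq_same, one_smul] at h4
  let N : Module.End A (A ⊗[R] L) := 1 + δ + δ * δ
  have hNa : ∀ f, N f = f + δ f + δ (δ f) := fun _ => rfl
  have hNt : ∀ (a : A) (x : L), N (a ⊗ₜ x) = a ⊗ₜ (x + γ x + γ (γ x)) := fun a x => by
    rw [hNa, hδt, hδt, tmul_add, tmul_add]
  obtain ⟨r1, r2⟩ := lie_ext h0 β δ hβl hβp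
    (fun f hf => hext _ _ fun i => by
      rw [map_zero, Finsupp.zero_apply]
      exact hfix _ (by rw [← hE α]; exact congrArg (fun g => E g i) hf))
    (fun f => hext _ _ fun i => by simp only [β, δ, hE, hc])
    (fun f g => by
      rw [← hNa, ← hNa]
      induction f using TensorProduct.induction_on with
      | zero => simp
      | add a b ha hb => rw [map_add, add_lie, ha, hb, add_zero]
      | tmul a x =>
        induction g using TensorProduct.induction_on with
        | zero => simp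
        | add a b ha hb => rw [map_add, lie_add, ha, hb, add_zero]
        | tmul b y => rw [hNt, hNt, LieAlgebra.ExtendScalars.bracket_tmul, hN, tmul_zero])
    (fun f => hext _ _ fun i => by
      simp only [map_nsmul, map_add, Finsupp.smul_apply, Finsupp.add_apply, δ, hE, map_zero,
        Finsupp.zero_apply]
      exact hN2 _)
    (fun f hf => hext _ _ fun i => by
      rw [map_zero, Finsupp.zero_apply]
      apply h13
      have := congrArg (fun g => E g i) hf
      simpa only [map_nsmul, Finsupp.smul_apply, map_zero, Finsupp.zero_apply] using this)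
  refine ⟨fun x y z => hone _ ?_, fun x => hone _ ?_⟩
  · have := r1 (1 ⊗ₜ x) (1 ⊗ₜ y) (1 ⊗ₜ z)
    rwa [LieAlgebra.ExtendScalars.bracket_tmul, LieAlgebra.ExtendScalars.bracket_tmul, mul_one,
      mul_one] at this
  · have := r2 (1 ⊗ₜ x)
    rwa [two_nsmul, ← tmul_add, ← two_nsmul] at this

theorem lie_int {L : Type u} [LieRing L] (α γ : L →+ L)
    (hα : ∀ x y, α ⁅x, y⁆ = ⁅α x, α y⁆) (hαp : ∀ x, α^[13] x = x) (hfix : ∀ x, α x = x → x = 0)
    (hc : ∀ x, α (γ x) = γ (α (α (α x))))
    (hN : ∀ x y, ⁅x + γ x + γ (γ x), y + γ y + γ (γ y)⁆ = 0)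
    (hN2 : ∀ x, 2 • (x + γ x + γ (γ x)) = 0)
    (h13 : ∀ x : L, 13 • x = 0 → x = 0) :
    (∀ x y z : L, ⁅⁅x, y⁆, z⁆ = 0) ∧ ∀ x : L, 2 • x = 0 := by
  have hp : Fact (Nat.Prime 13) := ⟨by norm_num⟩
  have h0 : ∑ i ∈ Finset.range 13, AdjoinRoot.root (cyclotomic 13 ℤ) ^ i = 0 := by
    have h := AdjoinRoot.aeval_eq (f := cyclotomic 13 ℤ) (∑ i ∈ Finset.range 13, X ^ i)
    rw [← cyclotomic_prime ℤ 13, AdjoinRoot.mk_self] at h
    have h' : aeval (AdjoinRoot.root (cyclotomic 13 ℤ))
        (∑ i ∈ Finset.range 13, (X : ℤ[X]) ^ i) = 0 := by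
      rw [← cyclotomic_prime ℤ 13]; exact h
    simpa only [map_sum, map_pow, aeval_X] using h'
  let pb := AdjoinRoot.powerBasis' (cyclotomic.monic 13 ℤ)
  have hd : 0 < pb.dim := by
    change 0 < (cyclotomic 13 ℤ).natDegree
    rw [natDegree_cyclotomic, Nat.totient_pos]
    norm_num
  exact lie_aux pb.basis (i₀ := ⟨0, hd⟩) (by rw [pb.basis_eq_pow]; simp) h0
    α.toIntLinearMap γ.toIntLinearMap hα hαp hfix hc hN hN2 h13

theorem exists_fixed {X : Type u} [Group X] [Finite X] (hX : IsPGroup 2 X) (γ : MulAut X)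
    (hγ : γ ^ 3 = 1) (N : Subgroup X) (hN : ∀ n ∈ N, γ n ∈ N) {x : X} (hx : x⁻¹ * γ x ∈ N) :
    ∃ n ∈ N, γ (x * n) = x * n := by
  classical
  have := Fintype.ofFinite N
  have : Fact (Nat.Prime 3) := ⟨by norm_num⟩
  let s : N → N := fun n => ⟨x⁻¹ * γ x * γ n, mul_mem hx (hN _ n.2)⟩
  have hs : ∀ (k : ℕ) (n : N), x * (s^[k] n : N) = (γ ^ k) (x * n) := by
    intro k
    induction k with
    | zero => intro n; rfl
    | succ k ih =>
      intro n
      rw [Function.iterate_succ_apply', pow_succ', MulAut.mul_apply, ← ih, map_mul]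
      simp [s, mul_assoc]
  have hs3 : ∀ n, s (s (s n)) = n := fun n =>
    Subtype.ext (mul_left_cancel (a := x) ((hs 3 n).trans (by rw [hγ]; rfl)))
  let σ : Equiv.Perm N := ⟨s, fun n => s (s n), hs3, hs3⟩
  obtain ⟨k, hk⟩ := IsPGroup.iff_card.1 (hX.to_subgroup N)
  obtain ⟨n, hn⟩ := Equiv.Perm.exists_fixed_point_of_prime (p := 3) (n := 1) (σ := σ) (by
    rw [← Nat.card_eq_fintype_card, hk]
    intro h
    have := (Nat.prime_dvd_prime_iff_eq Nat.prime_three Nat.prime_two).1
      (Nat.prime_three.dvd_of_dvd_pow h)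
    omega) (Equiv.ext fun n => hs3 n)
  refine ⟨n, n.2, ?_⟩
  have := hs 1 n
  rw [Function.iterate_one, show s n = n from hn, pow_one] at this
  exact this.symm

/-- A `2`-group acted on by `13 : 3` such that the kernel acts without fixed points and the fixed
points of the complement have exponent two has exponent dividing four. -/
theorem pow_four {X : Type u} [Group X] [Finite X] (hX : IsPGroup 2 X) (α γ : MulAut X)
    (hα : α ^ 13 = 1) (hfix : ∀ x, α x = x → x = 1) (hc : α * γ = γ * α ^ 3) (hγ : γ ^ 3 = 1)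
    (h2 : ∀ x, γ x = x → x ^ 2 = 1) (g : X) : g ^ 4 = 1 := by
  let N : Gr X →+ Gr X := AddMonoidHom.id _ + grAut γ + (grAut γ).comp (grAut γ)
  have hNa : ∀ x, N x = x + grAut γ x + grAut γ (grAut γ x) := fun _ => rfl
  have hN : ∀ i, ∀ a ∈ lc X i, ∃ u ∈ lc X i, γ u = u ∧ N (cls i a) = cls i u := by
    intro i a ha
    have m1 := aut_mem_lc γ ha
    have m2 := aut_mem_lc γ m1
    have m3 : a * γ a * γ (γ a) ∈ lc X i := mul_mem (mul_mem ha m1) m2
    have e3 : γ (γ (γ a)) = a := by
      have := congrArg (fun φ : MulAut X => φ a) hγ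
      simpa [pow_succ] using this
    obtain ⟨n, hn, e⟩ := exists_fixed hX γ hγ (lc X (i + 1)) (fun n hn => aut_mem_lc γ hn)
      (x := a * γ a * γ (γ a)) (by
        rw [← cls_eq_zero_iff (mul_mem (inv_mem m3) (aut_mem_lc γ m3)),
          cls_mul (inv_mem m3) (aut_mem_lc γ m3), cls_inv m3, map_mul, map_mul, e3,
          cls_mul (mul_mem ha m1) m2, cls_mul ha m1, cls_mul (mul_mem m1 m2) ha, cls_mul m1 m2]
        abel)
    have m4 : n ∈ lc X i := lc_anti (Nat.le_succ i) hn
    refine ⟨_, mul_mem m3 m4, e, ?_⟩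
    rw [hNa, grAut_cls γ ha, grAut_cls γ m1, cls_mul m3 m4, cls_zero hn, add_zero,
      cls_mul (mul_mem ha m1) m2, cls_mul ha m1]
  obtain ⟨k, hk⟩ := IsPGroup.iff_card.1 hX
  obtain ⟨r1, r2⟩ := lie_int (grAut α) (grAut γ) (grAut_lie α) (fun x => by
      induction x using gr_induction with
      | h0 => exact iterate_map_zero _ _
      | h2 a b ha hb => rw [iterate_map_add, ha, hb]
      | h1 i a ha => rw [grAut_iterate α 13 ha, hα, MulAut.one_apply])
    (fun x hx => by
      refine gr_ext fun i => ?_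
      have h1 : secAut α i (grPr i x) = grPr i x := by
        conv_rhs => rw [← hx]
        exact (DirectSum.map_apply (secAut α) i x).symm
      rw [map_zero]
      generalize grPr i x = y at h1 ⊢
      obtain ⟨a, ha⟩ := secMk_surjective i (Additive.toMul y)
      have e : y = Additive.ofMul (secMk i a) := by rw [ha]; rfl
      rw [e, secAut_mk] at h1
      rw [e, ofMul_eq_zero, secMk_eq_one]
      have h2 := Additive.ofMul.injective h1
      rw [← inv_mul_eq_one, ← map_inv, ← map_mul, secMk_eq_one] at h2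
      exact Cfsg.Agent.S0032.result α hfix (lc X (i + 1)) (fun n hn => aut_mem_lc α hn) a h2)
    (fun x => by
      induction x using gr_induction with
      | h0 => simp
      | h2 a b ha hb => simp only [map_add, ha, hb]
      | h1 i a ha =>
        have m1 := aut_mem_lc α ha
        have m2 := aut_mem_lc α m1
        rw [grAut_cls γ ha, grAut_cls α (aut_mem_lc γ ha), grAut_cls α ha, grAut_cls α m1,
          grAut_cls α m2, grAut_cls γ (aut_mem_lc α m2)]
        have := congrArg (fun φ : MulAut X => φ a) hc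
        simp only [pow_succ, pow_zero, one_mul, MulAut.mul_apply] at this
        rw [this])
    (fun x y => by
      rw [← hNa, ← hNa]
      induction x using gr_induction with
      | h0 => simp
      | h2 a b ha hb => rw [map_add, add_lie, ha, hb, add_zero]
      | h1 i a ha =>
        induction y using gr_induction with
        | h0 => simp
        | h2 a b ha hb => rw [map_add, lie_add, ha, hb, add_zero]
        | h1 j b hb =>
          obtain ⟨u, hu, e1, e2⟩ := hN i a ha
          obtain ⟨v, hv, e3, e4⟩ := hN j b hb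
          have k1 := h2 u e1
          have k2 := h2 v e3
          have k3 := h2 (u * v) (by rw [map_mul, e1, e3])
          rw [pow_two] at k1 k2 k3
          rw [e2, e4, lie_cls hu hv, commutatorElement_def, inv_eq_of_mul_eq_one_right k1,
            inv_eq_of_mul_eq_one_right k2, mul_assoc (u * v), k3, cls_one])
    (fun x => by
      rw [← hNa]
      induction x using gr_induction with
      | h0 => simp
      | h2 a b ha hb => rw [map_add, smul_add, ha, hb, add_zero]
      | h1 i a ha =>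
        obtain ⟨u, hu, e1, e2⟩ := hN i a ha
        rw [e2, ← cls_pow hu, h2 u e1, cls_one])
    (fun x hx => by
      have h1 : ∀ y : Gr X, 2 ^ k • y = 0 := by
        intro y
        induction y using gr_induction with
        | h0 => simp
        | h2 a b ha hb => rw [smul_add, ha, hb, add_zero]
        | h1 i a ha => rw [← cls_pow ha, ← hk, pow_card_eq_one', cls_one]
      have h3 := Nat.dvd_gcd (addOrderOf_dvd_of_nsmul_eq_zero hx)
        (addOrderOf_dvd_of_nsmul_eq_zero (h1 x))
      rwa [(Nat.Coprime.pow_right k (by norm_num : Nat.Coprime 13 2)).gcd_eq_one, Nat.dvd_one,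
        AddMonoid.addOrderOf_eq_one_iff] at h3)
  have h4 : lc X 2 ≤ lc X (2 + 1) := by
    intro a ha
    rw [← cls_eq_zero_iff ha, ← AddSubgroup.mem_bot]
    exact br_br_le (D := ⊥) (fun a _ b _ c _ => r1 a b c) (cls_mem_it 2 a ha)
  have h5 : ∀ k, lc X 2 ≤ lc X (2 + k) := by
    intro k
    induction k with
    | zero => exact le_rfl
    | succ k ih => exact h4.trans (Subgroup.commutator_mono ih le_rfl)
  obtain ⟨n, hn⟩ := Subgroup.nilpotent_iff_lowerCentralSeries.1 hX.isNilpotent
  have h6 : lc X 2 = ⊥ := by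
    rw [eq_bot_iff, ← hn]
    exact (h5 n).trans (lc_anti (by omega))
  have sq : ∀ i, ∀ a ∈ lc X i, a ^ 2 ∈ lc X (i + 1) := fun i a ha => by
    rw [← cls_eq_zero_iff (pow_mem ha 2), cls_pow ha, r2]
  have := sq 1 _ (sq 0 g (mem_top g))
  rwa [h6, ← pow_mul, mem_bot] at this

theorem frob_sum {G R : Type*} [Group G] [Ring R] (ρ : G →* R) (P : Subgroup G) [Fintype P]
    {c : G} {d : ℕ} (hd : 0 < d) (hc : c ∈ normalizer (P : Set G))
    (hf : ∀ j, 0 < j → j < d → P ⊓ centralizer {c ^ j} = ⊥) (h0 : ∑ x : P, ρ x = 0) :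
    ∑ x : P, ρ x * (∑ j ∈ Finset.range d, ρ (c ^ j)) * ρ (x : G)⁻¹ = Fintype.card P := by
  simp only [Finset.mul_sum, Finset.sum_mul]
  rw [Finset.sum_comm, Finset.sum_eq_single 0]
  · simp [← map_mul]
  · intro j hj h1
    have hcj : c ^ j ∈ normalizer (P : Set G) := pow_mem hc j
    let s : P → P := fun x => ⟨x * c ^ j * (x : G)⁻¹ * (c ^ j)⁻¹, by
      rw [mul_assoc, mul_assoc, ← mul_assoc (c ^ j)]
      exact mul_mem x.2 ((mem_normalizer_iff.1 hcj _).1 (inv_mem x.2))⟩
    have hs : Function.Surjective s := fun y => by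
      obtain ⟨x, hx, e⟩ := H2.exists_commutator_eq_of_fpf hcj
        (hf j (Nat.pos_of_ne_zero h1) (Finset.mem_range.1 hj)) y.2
      exact ⟨⟨x, hx⟩, Subtype.ext e⟩
    have e : ∀ x : P, ρ x * ρ (c ^ j) * ρ (x : G)⁻¹ = ρ (s x) * ρ (c ^ j) := fun x => by
      simp only [← map_mul, s, inv_mul_cancel_right]
    simp only [e]
    rw [← Finset.sum_mul, (Finite.surjective_iff_bijective.1 hs).sum_comp (fun x : P => ρ x), h0,
      zero_mul]
  · intro h; exact absurd (Finset.mem_range.2 hd) h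

/-- A Frobenius group `P ⟨c⟩` whose kernel acts without fixed points on a normal elementary abelian
`q`-subgroup gives an element of order `d q`. -/
theorem exists_order {G : Type*} [Group G] [Finite G] {V P : Subgroup G} [V.Normal]
    (hV : IsMulCommutative V) {q : ℕ} (hq : q.Prime) (hVq : ∀ v ∈ V, v ^ q = 1) (hne : V ≠ ⊥)
    (hP : (Nat.card P).Coprime q) (hfix : V ⊓ centralizer (P : Set G) = ⊥)
    {c : G} {d : ℕ} (hd : 0 < d) (hcd : c ^ d = 1) (hc : c ∈ normalizer (P : Set G))
    (hf : ∀ j, 0 < j → j < d → P ⊓ centralizer {c ^ j} = ⊥) :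
    ∃ v ∈ V, orderOf ((v * c) ^ d) = q ∧ ∀ n, ∃ w ∈ V, (v * c) ^ n = w * c ^ n := by
  classical
  have := Fintype.ofFinite P
  have := Fact.mk hq
  let _ : CommGroup V := { (inferInstance : Group V) with mul_comm := hV.is_comm.comm }
  let ρ : G →* AddMonoid.End (Additive V) := (Spec5.toEnd V).comp MulAut.conjNormal
  have hρ : ∀ (g : G) (v : Additive V), ((ρ g v).toMul : G) = g * v.toMul * g⁻¹ := fun _ _ => rfl
  have hadd : ∀ (φ ψ : AddMonoid.End (Additive V)) (v : Additive V), (φ + ψ) v = φ v + ψ v :=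
    fun _ _ _ => rfl
  have h0 : ∑ x : P, ρ x = 0 := by
    refine AddMonoidHom.ext fun v => ?_
    have h1 : ∀ y : P, ρ y * ∑ x : P, ρ x = ∑ x : P, ρ x := fun y => by
      rw [Finset.mul_sum]
      exact Fintype.sum_equiv (Equiv.mulLeft y) _ _ fun x => by simp
    have h2 : (((∑ x : P, ρ x) v).toMul : G) ∈ V ⊓ centralizer (P : Set G) := by
      refine ⟨Subtype.prop _, fun y hy => ?_⟩
      have := congrArg (fun φ : AddMonoid.End (Additive V) => ((φ v).toMul : G)) (h1 ⟨y, hy⟩)
      simp only [AddMonoid.End.coe_mul, Function.comp_apply, hρ] at this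
      exact mul_inv_eq_iff_eq_mul.1 this
    rw [hfix, mem_bot] at h2
    exact Subtype.ext h2
  have hn : ∀ (v : V) (n : ℕ), ((v : G) * c) ^ n =
      (((∑ j ∈ Finset.range n, ρ (c ^ j)) (Additive.ofMul v)).toMul : G) * c ^ n := by
    intro v n
    induction n with
    | zero => simp
    | succ n ih =>
      rw [pow_succ, ih, Finset.sum_range_succ, hadd, toMul_add, Subgroup.coe_mul, hρ,
        pow_succ]
      simp [mul_assoc]
  by_contra hcon
  push Not at hcon
  have h3 : ∑ j ∈ Finset.range d, ρ (c ^ j) = 0 := by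
    refine AddMonoidHom.ext fun v => ?_
    by_contra hv
    obtain ⟨n, h⟩ := hcon (v.toMul : V) v.toMul.2 (by
      rw [hn, hcd, mul_one]
      refine orderOf_eq_prime (hVq _ (Subtype.prop _)) fun e => hv (Subtype.ext e))
    exact h _ (Subtype.prop _) (hn _ n)
  have h4 := frob_sum ρ P hd hc hf h0
  rw [h3] at h4
  simp only [mul_zero, zero_mul, Finset.sum_const_zero] at h4
  apply hne
  rw [eq_bot_iff]
  intro v hv
  have h5 := congrArg (fun φ : AddMonoid.End (Additive V) =>
    ((φ (Additive.ofMul ⟨v, hv⟩)).toMul : G)) h4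
  simp only [AddMonoid.End.natCast_apply, toMul_nsmul, toMul_ofMul, Subgroup.coe_pow] at h5
  have h6 : v ^ Nat.card P = 1 := by rw [Nat.card_eq_fintype_card]; exact h5.symm
  have := pow_gcd_eq_one.2 ⟨h6, hVq v hv⟩
  rwa [hP.gcd_eq_one, pow_one] at this

theorem dim4 {V : Type*} [AddCommGroup V] [Module (ZMod 13) V] [Nontrivial V]
    (A B : Module.End (ZMod 13) V) (ε : ZMod 13) (hε : ε * ε = 1)
    (h1 : A * A * (A * A) = -1) (h2 : B * B + B + 1 = 0) (h3 : A * B * (A * B) = -1)
    (h4 : A * A * B * (A * A * B) + ε • (A * A * B) + 1 = 0)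
    (irr : ∀ W : Submodule (ZMod 13) V, W ≠ ⊥ → (∀ v ∈ W, A v ∈ W) → (∀ v ∈ W, B v ∈ W) → W = ⊤) :
    Module.finrank (ZMod 13) V ≤ 4 := by
  have h55 : (5 * 5 : ZMod 13) = -1 := by decide
  have : Fact (Nat.Prime 13) := ⟨by norm_num⟩
  obtain ⟨I, hI⟩ : ∃ I, I = A * A := ⟨_, rfl⟩
  rw [← hI] at h1 h4
  have hB : B * B = -B - 1 := by rw [← sub_eq_zero, ← h2]; abel
  have r1 : I * B = -(B * I) - I - ε • 1 := by
    have e : (I * B * (I * B) + ε • (I * B) + 1) * (B * B) * I = 0 := by rw [h4]; simp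
    have b3 : B * (B * B) = 1 := by rw [hB, mul_sub, mul_neg, hB]; abel_nf; simp
    have e1 : (I * B * (I * B) + ε • (I * B) + 1) * (B * B) * I =
        I * B * I * (B * (B * B)) * I + ε • (I * (B * (B * B)) * I) + (B * B) * I := by
      simp only [add_mul, smul_mul_assoc, mul_assoc, one_mul]
    rw [e1, b3, hB, mul_one, mul_one, mul_assoc (I * B), h1] at e
    rw [← sub_eq_zero, ← neg_eq_zero, ← e]
    simp only [mul_neg, mul_one, sub_mul, neg_mul, one_mul, smul_neg]
    abel
  have r2 : B * A * B = A * I := by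
    have e : A * I * (A * B * (A * B)) = -(A * I) := by rw [h3]; simp
    have e' : A * I * (A * B * (A * B)) = (I * I) * (B * A * B) := by
      rw [hI]; simp only [mul_assoc]
    rw [e', h1] at e
    simpa using e
  have r3 : B * A = -(A * I) - A * (I * B) := by
    have b3 : B * (B * B) = 1 := by rw [hB, mul_sub, mul_neg, hB]; abel_nf; simp
    calc B * A = B * A * B * (B * B) := by rw [mul_assoc (B * A), b3, mul_one]
      _ = _ := by rw [r2, hB]; simp only [mul_sub, mul_neg, mul_one, mul_assoc]; abel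
  obtain ⟨v, hv, c, hc⟩ : ∃ v : V, v ≠ 0 ∧ ∃ c : ZMod 13, I v = c • v := by
    obtain ⟨w, hw⟩ := exists_ne (0 : V)
    by_cases h : I w + (5 : ZMod 13) • w = 0
    · exact ⟨w, hw, -5, by rw [neg_smul, ← add_eq_zero_iff_eq_neg, h]⟩
    · refine ⟨_, h, 5, ?_⟩
      have e : I (I w) = -w := by rw [← Module.End.mul_apply, h1]; rfl
      rw [map_add, map_smul, e, smul_add, smul_smul, h55,
        neg_smul, one_smul, add_comm]
  let b : Fin 4 → V := ![v, A v, B v, A (B v)]
  let W := Submodule.span (ZMod 13) (Set.range b)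
  have m0 : v ∈ W := Submodule.subset_span ⟨0, rfl⟩
  have m1 : A v ∈ W := Submodule.subset_span ⟨1, rfl⟩
  have m2 : B v ∈ W := Submodule.subset_span ⟨2, rfl⟩
  have m3 : A (B v) ∈ W := Submodule.subset_span ⟨3, rfl⟩
  have e1 : I (B v) = -(c • B v) - c • v - ε • v := by
    rw [← Module.End.mul_apply, r1]
    simp [hc]
  have inv : ∀ φ : Module.End (ZMod 13) V, φ v ∈ W → φ (A v) ∈ W → φ (B v) ∈ W →
      φ (A (B v)) ∈ W → ∀ w ∈ W, φ w ∈ W := by
    intro φ k0 k1 k2 k3 w hw
    have : W ≤ W.comap φ := Submodule.span_le.2 (by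
      rintro _ ⟨i, rfl⟩
      fin_cases i
      exacts [k0, k1, k2, k3])
    exact this hw
  have hW := irr W (fun e => hv (by rwa [e] at m0))
    (inv A m1 (by
        rw [← Module.End.mul_apply, ← hI, hc]; exact W.smul_mem _ m0) m3 (by
        rw [← Module.End.mul_apply, ← hI, e1]
        exact sub_mem (sub_mem (neg_mem (W.smul_mem _ m2)) (W.smul_mem _ m0)) (W.smul_mem _ m0)))
    (inv B m2 (by
        rw [← Module.End.mul_apply, r3]
        simp only [LinearMap.sub_apply, LinearMap.neg_apply, Module.End.mul_apply, hc, e1, map_sub,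
          map_neg, map_smul]
        exact sub_mem (neg_mem (W.smul_mem _ m1))
          (sub_mem (sub_mem (neg_mem (W.smul_mem _ m3)) (W.smul_mem _ m1)) (W.smul_mem _ m1))) (by
        rw [← Module.End.mul_apply, hB]
        exact sub_mem (neg_mem m2) m0) (by
        rw [← Module.End.mul_apply, ← Module.End.mul_apply, r2, Module.End.mul_apply, hc, map_smul]
        exact W.smul_mem _ m1))
  rw [← finrank_top, ← hW]
  exact (finrank_range_le_card b).trans (by simp)

end H76.Frob13
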