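import Mathlib
import Cfsg.Agent.Base
import Cfsg.Agent.Lib.FGS.HHGross
import Cfsg.Agent.Lib.Core.CoprimeAbelian

/-! More on weight spaces: kernels, scalar subgroups and stabilizers. -/

set_option autoImplicit false

namespace H76

open Polynomial Module Subgroup
open scoped commutatorElement

variable {F : Type*} [Field F] {V : Type*} [AddCommGroup V] [Module F V] {G : Type*} [Group G]

theorem hh_free_eigen {Q : Type*} [Group Q] [Fintype Q] [IsAlgClosed F] [FiniteDimensional F V]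
    [Nontrivial V] (ρ : Q →* End F V) (hQ : (Fintype.card Q : F) ≠ 0)
    (hcl : ∀ a b c : Q, ⁅a, b⁆ * c = c * ⁅a, b⁆) (hH : Homog F ρ) (τ : MulAut Q)
    {u y w : End F V} (hu1 : IsUnit u) (hu : ∀ g, u * ρ g = ρ (τ g) * u) {s p : ℕ} (hs : 2 ≤ s)
    (hp : 0 < p) (hy : ∀ g, Commute y (ρ g)) (hyu : Commute y u) (hyw : Commute y w)
    (huw : u ^ s = y * w) (hw : ∑ i ∈ Finset.range p, w ^ i = 0)
    (hfree : ∀ j, 0 < j → j < s * p → ∀ g, g⁻¹ * (τ ^ j) g ∈ quasiCenter ρ → g ∈ quasiCenter ρ) :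
    quasiCenter ρ = ⊤ := by
  obtain ⟨c, hc⟩ := Module.End.exists_eigenvalue y
  have hE : ∀ a : End F V, Commute y a → ∀ v ∈ y.eigenspace c, a v ∈ y.eigenspace c := by
    intro a ha v hv
    rw [End.mem_eigenspace_iff] at hv ⊢
    rw [← End.mul_apply, ha.eq, End.mul_apply, hv, map_smul]
  have hE0 : y.eigenspace c ≠ ⊥ := Module.End.hasEigenvalue_iff.1 hc
  have : Nontrivial (y.eigenspace c) := Submodule.nontrivial_iff_ne_bot.2 hE0
  have hc0 : c ≠ 0 := by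
    rintro rfl
    obtain ⟨v, hv, hv0⟩ := Submodule.exists_mem_ne_zero_of_ne_bot hE0
    refine hv0 (((End.isUnit_iff _).1 (hu1.pow s)).1 ?_)
    rw [huw, hyw.eq, End.mul_apply, End.mem_eigenspace_iff.1 hv, zero_smul, map_zero, map_zero]
  have hd1 : (C c⁻¹ * X ^ s : F[X]).natDegree = s := by
    rw [natDegree_C_mul (inv_ne_zero hc0), natDegree_X_pow]
  have hdeg : ((∑ i ∈ Finset.range p, (X : F[X]) ^ i).comp (C c⁻¹ * X ^ s)).natDegree ≤
      (p - 1) * s := by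
    rw [natDegree_comp, hd1]
    exact Nat.mul_le_mul_right _ (natDegree_geom_poly_le p)
  have h1 : (p - 1) * s + s = s * p := by
    obtain ⟨p, rfl⟩ : ∃ n, p = n + 1 := ⟨p - 1, by omega⟩
    rw [Nat.add_sub_cancel]
    ring
  have hZ := hH.quasiCenter_restrict hcl hE0 fun g => hE _ (hy g)
  rcases hh_free (restrictRep ρ _ fun g => hE _ (hy g)) hQ hcl (hH.restrict hcl hE0 _) τ
    (isUnit_restrict hu1 (hE u hyu)) (fun g => by
      ext v
      exact congrArg (fun a : End F V => a v) (hu g)) (s * p) (hZ ▸ hfree)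
    (f := (∑ i ∈ Finset.range p, X ^ i).comp (C c⁻¹ * X ^ s)) (by
      rw [Ne, comp_eq_zero_iff, not_or]
      refine ⟨geom_poly_ne_zero hp.ne', fun h => ?_⟩
      have := congrArg natDegree h.2
      rw [hd1, natDegree_C] at this
      omega) (by
      have h2 : aeval (u.restrict (hE u hyu)) (C c⁻¹ * X ^ s) = w.restrict (hE w hyw) := by
        ext v
        rw [coe_aeval_restrict, map_mul, map_pow, aeval_X, aeval_C, huw, End.mul_apply,
          End.mul_apply, End.mem_eigenspace_iff.1 (hE w hyw v v.2), Module.algebraMap_end_apply,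
          smul_smul, inv_mul_cancel₀ hc0, one_smul]
        rfl
      rw [aeval_comp, h2]
      ext v
      rw [coe_aeval_restrict, aeval_geom_poly, hw]
      rfl) (by omega) with h | ⟨-, h, -⟩
  · exact hZ ▸ h
  · omega

variable (ρ : G →* End F V) (Q : Subgroup G) [Fintype Q] (lam : G → F)

/-- The kernel of the action on a weight space. -/
def wker : Subgroup G where
  carrier := {g | ∀ v ∈ wsp ρ Q lam, ρ g v = v}
  one_mem' := by simp
  mul_mem' {a b} ha hb v hv := by rw [map_mul, End.mul_apply, hb v hv, ha v hv]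
  inv_mem' {a} ha v hv := by
    conv_lhs => rw [← ha v hv]
    rw [← End.mul_apply, ← map_mul, inv_mul_cancel, map_one, End.one_apply]

/-- The elements acting as scalars on a weight space. -/
noncomputable def wZ [ClassTwo Q] : Subgroup G := (wπ ρ Q lam).ker.map Q.subtype

variable {ρ Q lam}

theorem mem_wker {g : G} : g ∈ wker ρ Q lam ↔ ∀ v ∈ wsp ρ Q lam, ρ g v = v := Iff.rfl

theorem apply_mem_wsp_of_mem' {g : G} (hg : g ∈ Q) {v : V} (hv : v ∈ wsp ρ Q lam) :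
    ρ g v ∈ wsp ρ Q lam := apply_mem_wsp_of_mem ⟨g, hg⟩ v hv

variable [hcl : ClassTwo Q]

theorem wZ_le : wZ ρ Q lam ≤ Q := map_subtype_le _

theorem coe_mem_wZ {g : Q} : (g : G) ∈ wZ ρ Q lam ↔ wπ ρ Q lam g = 1 :=
  mem_map_iff_mem Q.subtype_injective

theorem mem_wZ {g : G} : g ∈ wZ ρ Q lam ↔ g ∈ Q ∧ ∀ k ∈ Q, ⁅k, g⁆ ∈ wker ρ Q lam :=
  ⟨fun h => ⟨wZ_le h, wπ_eq_one_iff.1 ((coe_mem_wZ (g := ⟨g, wZ_le h⟩)).1 h)⟩,
    fun h => (coe_mem_wZ (g := ⟨g, h.1⟩)).2 (wπ_eq_one_iff.2 h.2)⟩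

theorem commutator_le_wZ : ⁅Q, Q⁆ ≤ wZ ρ Q lam := commutator_le.2 fun a ha b hb =>
  (coe_mem_wZ (g := ⁅(⟨a, ha⟩ : Q), ⟨b, hb⟩⁆)).2 (by
    rw [map_commutatorElement, commutatorElement_eq_one_iff_mul_comm, mul_comm])

theorem commutator_wZ_le (hQ : (Fintype.card Q : F) ≠ 0) {T : Subgroup G} (hT : T ≤ wstab Q lam) :
    ⁅wZ ρ Q lam, T⁆ ≤ wker ρ Q lam := by
  rw [commutator_comm, commutator_le]
  rintro x hx _ ⟨g, hg, rfl⟩ v hv
  exact commutator_apply_of_wπ_eq_one hQ hg (hT hx) hv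

theorem mem_normalizer_wZ [Finite G] {x : G} (hx : x ∈ normalizer (Q : Set G))
    (h : ∀ a ∈ Q, ∀ b ∈ Q, ⁅a, b⁆ ∈ wker ρ Q lam → x * ⁅a, b⁆ * x⁻¹ ∈ wker ρ Q lam) :
    x ∈ normalizer (wZ ρ Q lam : Set G) := by
  refine mem_normalizer_fintype fun g hg => ?_
  obtain ⟨h1, h2⟩ := mem_wZ.1 hg
  refine mem_wZ.2 ⟨H68.conj_mem_of_mem_normalizer hx h1, fun k hk => ?_⟩
  have h3 := H68.conj_mem_of_mem_normalizer' hx hk
  have := h _ h3 g h1 (h2 _ h3)
  rwa [conjugate_commutatorElement, ← mul_assoc, ← mul_assoc, mul_inv_cancel, one_mul,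
    mul_inv_cancel_right] at this

omit hcl in
theorem wstab_le_normalizer_wker : wstab Q lam ≤ normalizer (wker ρ Q lam : Set G) :=
  H68.le_normalizer_of_forall_cj_le fun x hx => H68.cj_le_iff'.2 fun _ hg v hv => by
    rw [map_mul, map_mul, End.mul_apply, End.mul_apply, hg _ (apply_mem_wsp (inv_mem hx) hv),
      ← End.mul_apply, ← map_mul, mul_inv_cancel, map_one, End.one_apply]

theorem wstab_le_normalizer_wZ [Finite G] : wstab Q lam ≤ normalizer (wZ ρ Q lam : Set G) :=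
  fun _ hx => mem_normalizer_wZ hx.1 fun _ _ _ _ h =>
    H68.conj_mem_of_mem_normalizer (wstab_le_normalizer_wker hx) h

theorem le_wker_of_wZ_le (h : wZ ρ Q lam ≤ wker ρ Q lam) : Q ≤ wker ρ Q lam := fun g hg =>
  h (mem_wZ.2 ⟨hg, fun _ hk => h (commutator_le_wZ (commutator_mem_commutator hk hg))⟩)

theorem wact_wπ_eq_iff' (x : wstab Q lam) (g : Q) :
    wact ρ Q lam x (wπ ρ Q lam g) = wπ ρ Q lam g ↔ ⁅(x : G), (g : G)⁆ ∈ wZ ρ Q lam := by
  rw [wact_wπ_eq_iff, ← coe_mem_wZ]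

theorem wact_eq_one_iff (x : wstab Q lam) :
    wact ρ Q lam x = 1 ↔ ∀ g ∈ Q, ⁅(x : G), g⁆ ∈ wZ ρ Q lam := by
  refine ⟨fun h g hg => (wact_wπ_eq_iff' x ⟨g, hg⟩).1 (by rw [h]; rfl), fun h => ?_⟩
  ext s
  obtain ⟨g, rfl⟩ := wπ_surjective s
  exact (wact_wπ_eq_iff' x g).2 (h g g.2)

theorem eq_one_of_wact_fixed [Finite G] {T : Subgroup G} (hT : T ≤ wstab Q lam)
    (hcop : (Nat.card T).Coprime (Nat.card Q)) (hs : Group.IsSolvable T)
    (hC : Q ⊓ centralizer (T : Set G) ≤ wZ ρ Q lam) {s : wS ρ Q lam}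
    (h : ∀ t (ht : t ∈ T), wact ρ Q lam ⟨t, hT ht⟩ s = s) : s = 1 := by
  obtain ⟨g, rfl⟩ := wπ_surjective s
  obtain ⟨n, hn, h1⟩ := H2.exists_mul_mem_centralizer' (hT.trans wstab_le_normalizer_wZ)
    (H2.coprime_of_le_right hcop wZ_le) (Or.inl hs) (g := g) fun a ha => by
      have := inv_mem ((wact_wπ_eq_iff' _ g).1 (h a ha))
      rwa [commutatorElement_inv] at this
  have h2 := mul_mem (inv_mem hn) (hC ⟨mul_mem (wZ_le hn) g.2, h1⟩)
  rw [inv_mul_cancel_left] at h2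
  exact coe_mem_wZ.1 h2

theorem mem_wstab_of_scalar (hQ : (Fintype.card Q : F) ≠ 0) (h0 : wsp ρ Q lam ≠ ⊥) {x : G}
    (hx : x ∈ normalizer (Q : Set G)) (h1 : x ∈ centralizer ((⁅Q, Q⁆ : Subgroup G) : Set G))
    (h2 : ∀ g ∈ wZ ρ Q lam, ⁅x, g⁆ ∈ wker ρ Q lam) : x ∈ wstab Q lam := by
  refine ⟨hx, fun g hg => ?_⟩
  have hc := fun k : Q => exists_smul_of_wπ_eq_one (ρ := ρ) (lam := lam) hQ (g := ⁅k, ⟨g, hg⟩⁆)
    (coe_mem_wZ.1 (commutator_le_wZ (commutator_mem_commutator k.2 hg)))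
  choose c hc using hc
  have hg' := H68.conj_mem_of_mem_normalizer hx hg
  have e1 : ∀ v ∈ wsp ρ Q lam, lam g • v = (∑ k, c k) • ρ g v := fun v hv => by
    rw [← mem_wsp.1 hv g hg, csum, conjSum_apply, LinearMap.sum_apply, Finset.sum_smul]
    refine Finset.sum_congr rfl fun k _ => ?_
    rw [← hc k _ (apply_mem_wsp_of_mem' hg hv), ← End.mul_apply, ← map_mul]
    simp [← map_mul, commutatorElement_def]
  have e2 : ∀ v ∈ wsp ρ Q lam, lam (x * g * x⁻¹) • v = (∑ k, c k) • ρ (x * g * x⁻¹) v := by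
    intro v hv
    rw [← mem_wsp.1 hv _ hg', csum, conjSum_apply, LinearMap.sum_apply, Finset.sum_smul]
    refine (Fintype.sum_equiv (conjAut Q hx).toEquiv _ _ fun k => ?_).symm
    rw [← hc k _ (apply_mem_wsp_of_mem' hg' hv), ← End.mul_apply, ← map_mul]
    have := h1 _ (commutator_mem_commutator k.2 hg)
    rw [show ((⁅k, ⟨g, hg⟩⁆ : Q) : G) = x * ⁅(k : G), g⁆ * x⁻¹ from eq_mul_inv_of_mul_eq this]
    simp [← map_mul, commutatorElement_def, coe_conjAut, mul_assoc]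
  obtain ⟨v, hv, hv0⟩ := Submodule.exists_mem_ne_zero_of_ne_bot h0
  apply smul_left_injective F hv0
  change lam _ • v = lam g • v
  rw [e1 v hv, e2 v hv]
  rcases eq_or_ne (∑ k, c k) 0 with h | h
  · rw [h, zero_smul, zero_smul]
  have hgZ : g ∈ wZ ρ Q lam := mem_wZ.2 ⟨hg, fun k hk w hw => by
    have e3 : ∀ v ∈ wsp ρ Q lam, ρ g v = ((∑ k, c k)⁻¹ * lam g) • v := fun v hv => by
      rw [mul_smul, e1 v hv, inv_smul_smul₀ h]
    have h3 := apply_mem_wsp_of_mem' (inv_mem hg) hw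
    rw [commutatorElement_def, map_mul, map_mul, map_mul, End.mul_apply, End.mul_apply,
      End.mul_apply, e3 _ (apply_mem_wsp_of_mem' (inv_mem hk) h3), map_smul,
      ← End.mul_apply (ρ k), ← map_mul, mul_inv_cancel, map_one, End.one_apply, ← e3 _ h3,
      ← End.mul_apply, ← map_mul, mul_inv_cancel, map_one, End.one_apply]⟩
  rw [← h2 g hgZ _ (apply_mem_wsp_of_mem' hg hv), ← End.mul_apply, ← map_mul,
    commutatorElement_def, inv_mul_cancel_right]

omit hcl in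
theorem eq_zero_of_fixed_wstab {A : Subgroup G} [Finite A] (hA : (Nat.card A : F) ≠ 0)
    (hAQ : A ≤ normalizer (Q : Set G)) (hfix : ∀ w : V, (∀ a ∈ A, ρ a w = w) → w = 0) {x : G}
    (hx : x ∈ normalizer (Q : Set G)) {w : V} (hw : w ∈ wsp ρ Q lam)
    (h : ∀ a ∈ A, x * a * x⁻¹ ∈ wstab Q lam → ρ (x * a * x⁻¹) w = w) : w = 0 := by
  classical
  let _ := Fintype.ofFinite A
  have h1 : ∑ a : A, ρ a (ρ x⁻¹ w) = 0 := hfix _ fun b hb => by
    rw [map_sum]
    exact Fintype.sum_equiv (Equiv.mulLeft (⟨b, hb⟩ : A)) _ _ fun a => by simp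
  have h2 := sum_stab_eq_zero (ρ := ρ) Finset.univ (fun a : A => x * a * x⁻¹) (fun _ => (1 : F))
    (fun a _ => mul_mem (mul_mem hx (hAQ a.2)) (inv_mem hx)) hw (by
      simpa [map_sum] using congrArg (ρ x) h1)
  rw [Finset.sum_congr rfl fun a ha => by
    rw [one_smul, h a a.2 (Finset.mem_filter.1 ha).2], Finset.sum_const,
    ← Nat.cast_smul_eq_nsmul F, smul_eq_zero] at h2
  refine h2.resolve_left fun h3 => hA ?_
  obtain ⟨c, hc⟩ := ((wstab Q lam).comap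
    ((MulAut.conj x).toMonoidHom.comp A.subtype)).card_subgroup_dvd_card
  rw [hc, Nat.card_eq_fintype_card, Fintype.card_subtype, Nat.cast_mul]
  exact mul_eq_zero_of_left h3 _

end H76
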