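import Cfsg.Agent.Base
import Cfsg.Agent.Lib.Core.PCore
import Cfsg.Agent.Lib.Core.MinNormal
import Cfsg.Agent.Lib.Core.HallSZ
import Cfsg.Agent.Lib.Core.CoprimeSylow
import Cfsg.Agent.Lib.PGroup.Basic
import Cfsg.Agent.Lib.Transfer.NormalComplement

/-! Irreducible action of an element of prime order on an elementary abelian group;
minimal non-`p`-closed groups. -/

namespace H77

open Subgroup Cfsg
open scoped commutatorElement Pointwise

theorem card_field_eq_pow_orderOf {R : Type*} [CommRing R] [IsDomain R] [Finite R] {p q : ℕ}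
    (hp : p.Prime) (hq : q.Prime) (hpq : q ≠ p) (hqR : (q : R) = 0) {ξ : R} (hξ : orderOf ξ = p)
    (hgen : ∀ f : R →+* R, f ξ = ξ → ∀ r, f r = r) :
    Nat.card R = q ^ orderOf (q : ZMod p) := by
  classical
  have := Fintype.ofFinite R
  let _ : Field R := Fintype.fieldOfDomain R
  have : Fact p.Prime := ⟨hp⟩
  have : Fact q.Prime := ⟨hq⟩
  have : CharP R q := (CharP.charP_iff_prime_eq_zero hq).mpr hqR
  obtain ⟨n, -, hn⟩ := FiniteField.card R q
  have hq0 : (q : ZMod p) ≠ 0 := by
    rw [Ne, ZMod.natCast_eq_zero_iff, Nat.prime_dvd_prime_iff_eq hp hq]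
    exact hpq.symm
  set d := orderOf (q : ZMod p) with hd
  have hd0 : 0 < d := Nat.pos_of_dvd_of_pos (ZMod.orderOf_dvd_card_sub_one hq0)
    (by have := hp.one_lt; omega)
  have hξ0 : ξ ≠ 0 := by
    rintro rfl
    have := pow_orderOf_eq_one (0 : R)
    rw [hξ, zero_pow hp.ne_zero] at this
    exact zero_ne_one this
  have key : ∀ k : ℕ, ξ ^ (q ^ k - 1) = 1 ↔ d ∣ k := by
    intro k
    rw [← orderOf_dvd_iff_pow_eq_one, hξ, hd, orderOf_dvd_iff_pow_eq_one,
      ← ZMod.natCast_eq_zero_iff, Nat.cast_sub (Nat.one_le_pow _ _ hq.pos), sub_eq_zero]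
    push_cast
    rfl
  have h1 : d ∣ n := by
    rw [← key, ← hn]
    exact FiniteField.pow_card_sub_one_eq_one ξ hξ0
  have h2 : ξ ^ q ^ d = ξ := by
    have := (key d).mpr dvd_rfl
    rw [← Nat.sub_add_cancel (Nat.one_le_pow d q hq.pos), pow_succ, this, one_mul]
  have h3 := hgen (iterateFrobenius R q d) h2
  have h4 : ∀ x : Rˣ, x ^ (q ^ d - 1) = 1 := by
    intro x
    have h5 : x ^ q ^ d = x := Units.ext (h3 x)
    rw [← Nat.sub_add_cancel (Nat.one_le_pow d q hq.pos), pow_succ] at h5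
    exact mul_eq_right.mp h5
  rw [FiniteField.forall_pow_eq_one_iff, hn] at h4
  have h5 : 1 < q ^ d := Nat.one_lt_pow hd0.ne' hq.one_lt
  have h6 := Nat.le_of_dvd (by omega) h4
  have h7 : q ^ (n : ℕ) ≤ q ^ d := by omega
  rw [Nat.pow_le_pow_iff_right hq.one_lt] at h7
  rw [Nat.card_eq_fintype_card, hn, le_antisymm h7 (Nat.le_of_dvd n.pos h1)]

theorem card_eq_pow_orderOf_of_irreducible {V : Type*} [AddCommGroup V] [Finite V] {p q : ℕ}
    (hp : p.Prime) (hq : q.Prime) (hpq : q ≠ p) (hV : ∀ v : V, q • v = 0) (x : Module.End ℤ V)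
    (hx : x ^ p = 1) (hx1 : x ≠ 1)
    (hirr : ∀ W : Submodule ℤ V, (∀ w ∈ W, x w ∈ W) → W = ⊥ ∨ W = ⊤) :
    Nat.card V = q ^ orderOf (q : ZMod p) := by
  have : Fact p.Prime := ⟨hp⟩
  obtain ⟨v₀, hv₀⟩ : ∃ v : V, v ≠ 0 := by
    by_contra h
    push Not at h
    exact hx1 (LinearMap.ext fun v => by rw [h (x v), h v]; simp)
  let R := Algebra.adjoin ℤ ({x} : Set (Module.End ℤ V))
  let _ : CommRing R := Algebra.adjoinCommRingOfComm ℤ (by
    rintro _ rfl _ rfl; rfl)
  let ξ : R := ⟨x, Algebra.self_mem_adjoin_singleton ℤ x⟩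
  have hinj : ∀ r : R, ∀ v : V, v ≠ 0 → (r : Module.End ℤ V) v = 0 → r = 0 := by
    intro r v hv h
    rcases hirr (LinearMap.ker (r : Module.End ℤ V)) (fun w hw => by
      rw [LinearMap.mem_ker] at hw ⊢
      have := congrArg (fun t : R => (t : Module.End ℤ V) w) (mul_comm r ξ)
      simpa [hw, ξ] using this) with h1 | h1
    · exact absurd (h1 ▸ LinearMap.mem_ker.mpr h : v ∈ (⊥ : Submodule ℤ V)) hv
    · exact Subtype.ext (LinearMap.ker_eq_top.mp h1)
  let φ : R →ₗ[ℤ] V :=
    { toFun := fun r => (r : Module.End ℤ V) v₀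
      map_add' := fun r s => by simp
      map_smul' := fun n r => by simp }
  have hφi : Function.Injective φ := by
    rw [injective_iff_map_eq_zero]
    exact fun r hr => hinj r v₀ hv₀ hr
  have hφs : Function.Surjective φ := by
    rw [← LinearMap.range_eq_top]
    refine (hirr _ ?_).resolve_left fun h => hv₀ ?_
    · rintro _ ⟨r, rfl⟩
      exact ⟨ξ * r, rfl⟩
    · exact (h ▸ ⟨1, rfl⟩ : v₀ ∈ (⊥ : Submodule ℤ V))
  have : Finite R := Finite.of_injective φ hφi
  have : Nontrivial R := ⟨⟨1, 0, fun h => hv₀ (congrArg φ h)⟩⟩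
  have : NoZeroDivisors R := ⟨fun {r s} h => by
    by_cases hs : φ s = 0
    · exact Or.inr (hφi (hs.trans (map_zero φ).symm))
    · exact Or.inl (hinj r _ hs (congrArg φ h))⟩
  have : IsDomain R := NoZeroDivisors.to_isDomain R
  rw [← Nat.card_eq_of_bijective φ ⟨hφi, hφs⟩]
  refine card_field_eq_pow_orderOf hp hq hpq (ξ := ξ) ?_ ?_ ?_
  · apply hφi
    rw [map_zero, ← nsmul_one, map_nsmul, hV]
  · exact orderOf_eq_prime (Subtype.ext hx) fun h => hx1 (congrArg Subtype.val h)
  · intro f hf ⟨r, hr⟩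
    induction hr using Algebra.adjoin_induction with
    | mem y hy => obtain rfl : y = x := hy; exact hf
    | algebraMap n => exact map_intCast f n
    | add a b ha hb iha ihb => exact (map_add f ⟨a, ha⟩ ⟨b, hb⟩).trans (by rw [iha, ihb])
    | mul a b ha hb iha ihb => exact (map_mul f ⟨a, ha⟩ ⟨b, hb⟩).trans (by rw [iha, ihb])

variable {G : Type*} [Group G] [Finite G]

theorem card_eq_pow_orderOf_of_minimal {p q : ℕ} (hp : p.Prime) (hq : q.Prime) (hpq : q ≠ p)
    {A : Subgroup G} (hA : IsElementaryAbelian q A) {g : G} (hg : g ∈ normalizer (A : Set G))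
    (hgp : g ^ p ∈ centralizer (A : Set G)) (hgc : g ∉ centralizer (A : Set G))
    (hmin : ∀ B : Subgroup G, B ≤ A → g ∈ normalizer (B : Set G) → B = ⊥ ∨ B = A) :
    Nat.card A = q ^ orderOf (q : ZMod p) := by
  have := hA.1
  let _ : CommGroup A := { (inferInstance : Group A) with mul_comm := hA.1.is_comm.comm }
  let α : MulAut A := A.normalizerMonoidHom ⟨g, hg⟩
  let x : Module.End ℤ (Additive A) := (MonoidHom.toAdditive α.toMonoidHom).toIntLinearMap
  have hx : ∀ (n : ℕ) (a : A), ((((x ^ n) (Additive.ofMul a)).toMul : A) : G) =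
      g ^ n * a * (g ^ n)⁻¹ := by
    intro n
    induction n with
    | zero => intro a; simp
    | succ n ih =>
      intro a
      rw [pow_succ, Module.End.mul_apply]
      refine (ih (α a)).trans ?_
      change g ^ n * (g * a * g⁻¹) * (g ^ n)⁻¹ = _
      rw [pow_succ]; group
  refine card_eq_pow_orderOf_of_irreducible (V := Additive A) hp hq hpq (fun v => ?_) x ?_ ?_ ?_
  · exact Subtype.ext (hA.2 _ v.toMul.2)
  · ext a
    refine (hx p a.toMul).trans ?_
    rw [← hgp _ a.toMul.2, mul_inv_cancel_right]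
    rfl
  · intro h
    apply hgc
    intro a ha
    have := hx 1 ⟨a, ha⟩
    rw [pow_one, pow_one, h] at this
    exact (mul_inv_eq_iff_eq_mul.mp this.symm).symm
  · intro W hW
    let B : Subgroup A := AddSubgroup.toSubgroup' W.toAddSubgroup
    rcases hmin (B.map A.subtype) (map_subtype_le _) (H3.mem_normalizer_of_conj_mem (by
      rintro _ ⟨a, ha, rfl⟩
      exact ⟨α a, hW _ ha, rfl⟩)) with h | h
    · left
      rw [eq_bot_iff]
      intro w hw
      have : ((w.toMul : A) : G) ∈ B.map A.subtype := ⟨w.toMul, hw, rfl⟩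
      rw [h, mem_bot] at this
      exact Subtype.ext this
    · right
      rw [eq_top_iff]
      intro w _
      obtain ⟨b, hb, hbw⟩ : ((w.toMul : A) : G) ∈ B.map A.subtype := by
        rw [h]; exact w.toMul.2
      have : b = w.toMul := Subtype.ext hbw
      subst this
      exact hb

variable {p : ℕ} [hp : Fact p.Prime]

omit hp [Finite G] in
theorem isPClosed_of_isPGroup (h : IsPGroup p G) : IsPClosed p G := by
  intro P
  rw [← P.is_maximal' (h.to_subgroup ⊤) le_top]
  infer_instance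

theorem isPClosed_of_not_dvd (h : ¬ p ∣ Nat.card G) : IsPClosed p G := by
  intro P
  have : (P : Subgroup G) = ⊥ := by
    rw [← inf_top_eq (P : Subgroup G), inf_comm]
    exact H4.inf_eq_bot_of_not_dvd_card (by rwa [card_top]) P.isPGroup'
  rw [this]; infer_instance

theorem isPClosed_of_normal (P : Sylow p G) (h : (P : Subgroup G).Normal) : IsPClosed p G := by
  intro Q
  have := Sylow.unique_of_normal P h
  rwa [Subsingleton.elim Q P]

omit [Finite G] hp in
theorem isMulCommutative_of_sup_zpowers {A : Subgroup G} (hA : IsMulCommutative A) {g : G}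
    (hg : g ∈ centralizer (A : Set G)) (h : A ⊔ zpowers g = ⊤) : IsMulCommutative G := by
  have := H5.isMulCommutative_sup_zpowers hA hg
  rw [h] at this
  exact ⟨⟨fun a b => congrArg Subtype.val (this.is_comm.comm ⟨a, mem_top a⟩ ⟨b, mem_top b⟩)⟩⟩

theorem card_of_minimal_index_prime {q : ℕ} (hq : q.Prime) (hpq : q ≠ p)
    (hna : ¬ IsMulCommutative G) (A : Subgroup G) [A.Normal] (hA : IsElementaryAbelian q A)
    (hidx : A.index = p) (hmin : ∀ B : Subgroup G, B.Normal → B ≤ A → B = ⊥ ∨ B = A) :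
    Nat.card A = q ^ orderOf (q : ZMod p) := by
  have hco := H5.isCoatom_of_index_prime (hidx ▸ hp.out)
  obtain ⟨g, -, hg⟩ := SetLike.exists_of_lt hco.1.lt_top
  have h1 := H5.sup_zpowers_eq_top_of_isCoatom hco hg
  have hAC : A ≤ centralizer (A : Set G) := le_centralizer_iff_isMulCommutative.mpr hA.1
  refine card_eq_pow_orderOf_of_minimal hp.out hq hpq hA (g := g)
    (by rw [normalizer_eq_top]; trivial) (hAC (H5.pow_mem_of_index_eq hidx g))
    (fun h => hna (isMulCommutative_of_sup_zpowers hA.1 h h1)) fun B hB hgB => hmin B ?_ hB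
  rw [← normalizer_eq_top_iff, eq_top_iff, ← h1]
  exact sup_le ((hAC.trans (centralizer_le (SetLike.coe_subset_coe.mpr hB))).trans
    (centralizer_le_normalizer _)) (zpowers_le.mpr hgB)

/-- The common core of the structure theorems for minimal non-`p`-closed and minimal
non-`p`-exponent-closed groups. -/
theorem minimal_non_closed_core (hO : pCore p G = ⊥) (hd : p ∣ Nat.card G) {N : Subgroup G}
    (hN : H3.IsMinNormal N) (hNp : ¬ p ∣ Nat.card N) (P : Sylow p G)
    (hNP : N ⊔ (P : Subgroup G) = ⊤)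
    (h : ∀ K : Subgroup G, K ≠ ⊤ → ∀ x ∈ K, x ^ p = 1 → x ∈ pCoreOf p K) :
    ∃ q : ℕ, q.Prime ∧ q ≠ p ∧ Nat.card G = p * q ^ orderOf (q : ZMod p) ∧
      ∃ A : Subgroup G, A.Normal ∧ Nat.card A = q ^ orderOf (q : ZMod p) ∧
        IsElementaryAbelian q A ∧ ∀ B : Subgroup G, B.Normal → B ≤ A → B = ⊥ ∨ B = A := by
  have hNn := hN.normal
  obtain ⟨x, hx⟩ := exists_prime_orderOf_dvd_card' p hd
  have hx1 : x ≠ 1 := fun h => hp.out.one_lt.ne' (by rw [← hx, h, orderOf_one])
  have hxp : x ^ p = 1 := hx ▸ pow_orderOf_eq_one x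
  have hxC : x ∉ centralizer (N : Set G) := by
    intro hxC
    by_cases hC : centralizer (N : Set G) = ⊤
    · have : (P : Subgroup G).Normal := by
        rw [← normalizer_eq_top_iff, eq_top_iff, ← hNP]
        exact sup_le ((le_centralizer_iff.mp (hC ▸ le_top)).trans (centralizer_le_normalizer _))
          le_normalizer
      rw [H1.pCore_eq_of_sylow_normal P] at hO
      exact P.not_dvd_index (by rwa [hO, index_bot])
    · have := h _ hC x hxC hxp
      rw [H1.pCoreOf_eq_inf, hO, bot_inf_eq, mem_bot] at this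
      exact hx1 this
  have hcop : (Nat.card (zpowers x)).Coprime (Nat.card N) := by
    rw [Nat.card_zpowers, hx]; exact (Nat.Prime.coprime_iff_not_dvd hp.out).mpr hNp
  have hxN : zpowers x ≤ normalizer (N : Set G) := by rw [normalizer_eq_top]; exact le_top
  obtain ⟨q, hq, Q, hQ, hxQ, hQC⟩ : ∃ (q : ℕ) (_ : Fact q.Prime) (Q : Subgroup G),
      H68.SylowIn q Q N ∧ zpowers x ≤ normalizer (Q : Set G) ∧ ¬ Q ≤ centralizer (zpowers x) := by
    by_contra hcon
    push Not at hcon
    exact hxC (le_centralizer_iff.mp (H2.le_of_forall_invariant_sylowIn_le hxN hcop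
      (Or.inl (H2.isSolvable_zpowers x)) fun q _ Q h1 h2 => hcon q inferInstance Q h1 h2) (mem_zpowers x))
  have hQN : Q ≤ N := hQ.le
  have hQx : Q ⊔ zpowers x = ⊤ := by
    by_contra hne
    apply hQC
    have h1 := h _ hne x (mem_sup_right (mem_zpowers x)) hxp
    have h2 : ⁅Q, zpowers x⁆ ≤ N ⊓ pCoreOf p (Q ⊔ zpowers x) := by
      refine le_inf ((H2.commutator_le_of_le_normalizer hxQ).trans hQN) ?_
      refine (commutator_mono le_rfl (zpowers_le.mpr h1)).trans ?_
      rw [commutator_comm]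
      exact H2.commutator_le_of_le_normalizer (le_sup_left.trans (H1.le_normalizer_pCoreOf _))
    rwa [H4.inf_eq_bot_of_not_dvd_card hNp (H1.isPGroup_pCoreOf _), le_bot_iff,
      commutator_eq_bot_iff_le_centralizer] at h2
  have hdis : zpowers x ⊓ N = ⊥ := H2.inf_eq_bot_of_coprime_card hcop
  have hQeq : Q = N := by
    have := H3.sup_inf_assoc_of_le_normalizer hxQ hQN
    rw [hQx, top_inf_eq, hdis, sup_bot_eq] at this
    exact this.symm
  subst hQeq
  have hQq : IsPGroup q Q := hQ.isPGroup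
  obtain ⟨hc, r, hr, hrd, hre, hrp⟩ := hN.elementary (have := hQq.isNilpotent; inferInstance)
  have hrp' : r ≠ p := fun h => hNp (h ▸ hrd)
  have hcard : Nat.card G = Nat.card Q * p := by
    rw [← card_top, ← hQx, H2.card_sup_of_le_normalizer hxQ hdis, Nat.card_zpowers, hx]
  have hidx : Q.index = p := by
    have := Q.card_mul_index
    rw [hcard] at this
    exact Nat.eq_of_mul_eq_mul_left Nat.card_pos this
  have hna : ¬ IsMulCommutative G := fun hG => hxC fun y _ => hG.is_comm.comm y x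
  have h3 := card_of_minimal_index_prime hr hrp' hna Q ⟨hc, hre⟩ hidx hN.eq_bot_or_eq
  exact ⟨r, hr, hrp', by rw [hcard, h3, mul_comm], Q, hNn, h3, ⟨hc, hre⟩, hN.eq_bot_or_eq⟩

end H77
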