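import Mathlib
import Cfsg.Agent.Lib.FGS.KPi
import Cfsg.Agent.Lib.Transfer.NormalComplement

/-!
Many classes of `p`-elements force a normal `p`-complement.
-/

set_option autoImplicit false

namespace H77

open Finset

variable {G : Type*} [Group G]

theorem kQ_le_kQ_subgroup [Finite G] (Q : G → Prop) (hQ : ∀ x y, IsConj x y → Q x → Q y)
    (K : Subgroup G) (Q' : K → Prop) (hQ' : ∀ y : K, Q y → Q' y)
    (h : ∀ x, Q x → ∃ y ∈ K, IsConj x y) : kQ G Q ≤ kQ K Q' := by
  have key : ∀ c : {c : ConjClasses G // ∀ x ∈ c.carrier, Q x},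
      ∃ d : {c : ConjClasses K // ∀ x ∈ c.carrier, Q' x}, ConjClasses.map K.subtype d.1 = c.1 := by
    rintro ⟨c, hc⟩
    obtain ⟨x, rfl⟩ := ConjClasses.mk_surjective c
    have hx := hc x ConjClasses.mem_carrier_mk
    obtain ⟨y, hyK, hxy⟩ := h x hx
    refine ⟨⟨ConjClasses.mk ⟨y, hyK⟩, fun z hz => hQ' z ?_⟩, ?_⟩
    · rw [ConjClasses.mem_carrier_iff_mk_eq, ConjClasses.mk_eq_mk_iff_isConj] at hz
      exact hQ y z (K.subtype.map_isConj hz.symm) (hQ x y hxy hx)
    · exact ConjClasses.mk_eq_mk_iff_isConj.mpr hxy.symm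
  choose f hf using key
  refine Nat.card_le_card_of_injective f fun a b hab => Subtype.ext ?_
  rw [← hf a, ← hf b, hab]

theorem kQ_true (G : Type*) [Group G] : kQ G (fun _ => True) = Nat.card (ConjClasses G) :=
  Nat.card_congr (Equiv.subtypeUnivEquiv (fun _ _ _ => trivial))

theorem fuseCard_congr {S : Set G} {x y : G} (h : IsConj x y) : fuseCard S x = fuseCard S y := by
  unfold fuseCard
  congr 1
  ext z
  exact and_congr_right fun _ => ⟨fun hz => h.symm.trans hz, fun hz => h.trans hz⟩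

theorem relIndex_le_fuseCard [Finite G] {P N : Subgroup G}
    (hN : N ≤ Subgroup.normalizer (P : Set G)) {x : G} (hx : x ∈ P) (hxN : x ∈ N) :
    (Subgroup.centralizer ({x} : Set G)).relIndex N ≤ fuseCard (P : Set G) x := by
  have h1 := ncard_isConj_eq_index (⟨x, hxN⟩ : N)
  have h2 : Subgroup.centralizer ({(⟨x, hxN⟩ : N)} : Set N) =
      (Subgroup.centralizer ({x} : Set G)).subgroupOf N := by
    ext y
    simp only [Subgroup.mem_centralizer_singleton_iff, Subgroup.mem_subgroupOf, Subtype.ext_iff,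
      Subgroup.coe_mul]
  rw [Subgroup.relIndex, ← h2, ← h1, fuseCard]
  refine Set.ncard_le_ncard_of_injOn (fun y : N => (y : G)) ?_ Subtype.val_injective.injOn
    (Set.toFinite _)
  intro y hy
  obtain ⟨c, hc⟩ := isConj_iff.mp hy
  have hc' : (c : G) * x * (c : G)⁻¹ = y := congrArg Subtype.val hc
  refine ⟨?_, isConj_iff.mpr ⟨c, hc'⟩⟩
  show (y : G) ∈ P
  rw [← hc']
  exact (Subgroup.mem_normalizer_iff.mp (hN c.2) x).mp hx

theorem card_filter_mem [Fintype G] (P : Subgroup G) [DecidablePred (· ∈ P)] :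
    (Finset.univ.filter (· ∈ P)).card = Nat.card P := by
  rw [Nat.card_eq_fintype_card, Fintype.card_subtype]

/-- If all elements of `P` outside `Z` have at least `m` conjugates in `P`, then
`m k_p(G) ≤ m |Z| + (|P| - |Z|)`. -/
theorem kP_bound [Finite G] {p : ℕ} [Fact p.Prime] (P : Sylow p G) {Z : Subgroup G}
    (hZ : Z ≤ P) {m : ℕ} (hm : 0 < m)
    (h : ∀ x ∈ (P : Subgroup G), x ∉ Z → m ≤ fuseCard ((P : Subgroup G) : Set G) x) :
    m * kQ G (fun x => ∃ k, orderOf x = p ^ k) + Nat.card Z ≤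
      m * Nat.card Z + Nat.card (P : Subgroup G) := by
  classical
  have := Fintype.ofFinite G
  have h1 := kP_eq_sum P
  have h2 : (m : ℚ) * ∑ x ∈ Finset.univ.filter (· ∈ (P : Subgroup G)),
        1 / (fuseCard ((P : Subgroup G) : Set G) x : ℚ) ≤
      ∑ x ∈ Finset.univ.filter (· ∈ (P : Subgroup G)), (1 + if x ∈ Z then (m - 1 : ℚ) else 0) := by
    rw [Finset.mul_sum]
    refine Finset.sum_le_sum fun x hx => ?_
    have hxP := (Finset.mem_filter.mp hx).2
    have hpos : (0 : ℚ) < fuseCard ((P : Subgroup G) : Set G) x := by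
      exact_mod_cast fuseCard_pos hxP
    have hone : (1 : ℚ) ≤ fuseCard ((P : Subgroup G) : Set G) x := by
      exact_mod_cast fuseCard_pos hxP
    split_ifs with hxZ
    · rw [mul_one_div, div_le_iff₀ hpos]
      have : (0 : ℚ) ≤ m := by positivity
      nlinarith
    · rw [mul_one_div, div_le_iff₀ hpos]
      have : (m : ℚ) ≤ fuseCard ((P : Subgroup G) : Set G) x := by exact_mod_cast h x hxP hxZ
      linarith
  rw [← h1, Finset.sum_add_distrib, Finset.sum_const, card_filter_mem, ← Finset.sum_filter,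
    Finset.sum_const, Finset.filter_filter] at h2
  have h3 : (Finset.univ.filter (fun x => x ∈ (P : Subgroup G) ∧ x ∈ Z)).card = Nat.card Z := by
    rw [← card_filter_mem]
    congr 1
    ext x
    simp only [Finset.mem_filter, Finset.mem_univ, true_and, and_iff_right_iff_imp]
    exact fun hx => hZ hx
  rw [h3] at h2
  simp only [nsmul_eq_mul, mul_one] at h2
  have : ((m * kQ G (fun x => ∃ k, orderOf x = p ^ k) + Nat.card Z : ℕ) : ℚ) ≤
      ((m * Nat.card Z + Nat.card (P : Subgroup G) : ℕ) : ℚ) := by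
    push_cast
    linarith
  exact_mod_cast this

theorem mul_card_le_of_lt [Finite G] {p : ℕ} [hp : Fact p.Prime] {P Z : Subgroup G}
    (hP : IsPGroup p P) (h : Z < P) : p * Nat.card Z ≤ Nat.card P := by
  have h1 := H1.card_mul_relIndex_of_le h.le
  obtain ⟨k, hk⟩ := hP.index (Z.subgroupOf P)
  have hk0 : k ≠ 0 := by
    rintro rfl
    rw [pow_zero, Subgroup.index_eq_one, Subgroup.subgroupOf_eq_top] at hk
    exact h.not_ge hk
  rw [← h1, Subgroup.relIndex, hk, mul_comm]
  exact Nat.mul_le_mul_left _ (Nat.le_self_pow hk0 p)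

theorem two_le_relIndex_centralizer [Finite G] {N : Subgroup G} {x : G}
    (hx : x ∉ Subgroup.centralizer (N : Set G)) :
    2 ≤ (Subgroup.centralizer ({x} : Set G)).relIndex N := by
  have h0 : (Subgroup.centralizer ({x} : Set G)).relIndex N ≠ 0 :=
    Subgroup.index_ne_zero_of_finite
  have h1 : (Subgroup.centralizer ({x} : Set G)).relIndex N ≠ 1 := by
    rw [Ne, Subgroup.relIndex_eq_one]
    intro h
    apply hx
    rw [Subgroup.mem_centralizer_iff]
    intro n hn
    exact Subgroup.mem_centralizer_singleton_iff.mp (h hn)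
  omega

theorem normalizer_le_centralizer_of_le {P : Subgroup G}
    (h : P ≤ P ⊓ Subgroup.centralizer (Subgroup.normalizer (P : Set G) : Set G)) :
    Subgroup.normalizer (P : Set G) ≤ Subgroup.centralizer (P : Set G) :=
  Subgroup.le_centralizer_iff.mp (h.trans inf_le_right)

/-- `k_p(G) > (p+1)|P|/(2p)` forces `P` to be central in its normalizer. -/
theorem normalizer_le_centralizer_of_kP [Finite G] {p : ℕ} [hp : Fact p.Prime] (P : Sylow p G)
    (h : (p + 1) * Nat.card (P : Subgroup G) < 2 * p * kQ G (fun x => ∃ k, orderOf x = p ^ k)) :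
    Subgroup.normalizer ((P : Subgroup G) : Set G) ≤
      Subgroup.centralizer ((P : Subgroup G) : Set G) := by
  apply normalizer_le_centralizer_of_le
  by_contra hne
  set Z := (P : Subgroup G) ⊓
    Subgroup.centralizer (Subgroup.normalizer ((P : Subgroup G) : Set G) : Set G) with hZ
  have hlt : Z < P := lt_of_le_of_ne inf_le_left fun h => hne h.ge
  have h1 := mul_card_le_of_lt P.isPGroup' hlt
  have h2 := kP_bound P hlt.le (m := 2) two_pos fun x hx hxZ =>
    (two_le_relIndex_centralizer fun hc => hxZ ⟨hx, hc⟩).trans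
      (relIndex_le_fuseCard le_rfl hx (Subgroup.le_normalizer hx))
  nlinarith [hp.out.pos]

/-- In a group of odd order, `k_p(G) > |P|/2` forces `P` to be central in its normalizer. -/
theorem normalizer_le_centralizer_of_kP_odd [Finite G] (hodd : Odd (Nat.card G)) {p : ℕ}
    [hp : Fact p.Prime] (P : Sylow p G)
    (h : Nat.card (P : Subgroup G) < 2 * kQ G (fun x => ∃ k, orderOf x = p ^ k)) :
    Subgroup.normalizer ((P : Subgroup G) : Set G) ≤
      Subgroup.centralizer ((P : Subgroup G) : Set G) := by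
  apply normalizer_le_centralizer_of_le
  by_contra hne
  set N := Subgroup.normalizer ((P : Subgroup G) : Set G) with hN
  set Z := (P : Subgroup G) ⊓ Subgroup.centralizer (N : Set G) with hZ
  have hlt : Z < P := lt_of_le_of_ne inf_le_left fun h => hne h.ge
  have hoddr : ∀ x : G, Odd ((Subgroup.centralizer ({x} : Set G)).relIndex N) := fun x =>
    hodd.of_dvd_nat ((Subgroup.relIndex_dvd_card _ _).trans (Subgroup.card_subgroup_dvd_card N))
  have h1 := H1.card_mul_relIndex_of_le hlt.le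
  have hr1 : Z.relIndex P ≠ 1 := fun h => hlt.not_ge (Subgroup.relIndex_eq_one.mp h)
  have hr0 : Z.relIndex P ≠ 0 := Subgroup.index_ne_zero_of_finite
  have hr2 : Odd (Z.relIndex P) :=
    hodd.of_dvd_nat ((Subgroup.relIndex_dvd_card _ _).trans (Subgroup.card_subgroup_dvd_card _))
  by_cases h3 : Z.relIndex P = 3
  · -- `P` is abelian, `p = 3`
    have hp3 : p = 3 := by
      obtain ⟨k, hk⟩ := P.isPGroup'.index (Z.subgroupOf P)
      rw [Subgroup.relIndex, hk] at h3
      exact (Nat.Prime.pow_eq_iff (by norm_num)).mp h3 |>.1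
    have hZc : Z.subgroupOf P ≤ Subgroup.center (P : Subgroup G) := by
      intro z hz
      rw [Subgroup.mem_center_iff]
      intro g
      exact Subtype.ext (hz.2 g (Subgroup.le_normalizer g.2))
    have hnorm : (Z.subgroupOf (P : Subgroup G)).Normal :=
      ⟨fun n hn g => by rw [Subgroup.mem_center_iff.mp (hZc hn) g]; simpa using hn⟩
    have hcyc : IsCyclic ((P : Subgroup G) ⧸ Z.subgroupOf P) :=
      isCyclic_of_prime_card (p := 3) h3
    have hcomm : ∀ a b : (P : Subgroup G), a * b = b * a :=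
      (MonoidHom.isMulCommutative_of_isCyclic_of_ker_le_center
        (QuotientGroup.mk' (Z.subgroupOf P)) (by rwa [QuotientGroup.ker_mk'])).1.1
    have h2 := kP_bound P hlt.le (m := 5) (by norm_num) fun x hx hxZ => by
      refine le_trans ?_ (relIndex_le_fuseCard le_rfl hx (Subgroup.le_normalizer hx))
      have ha := two_le_relIndex_centralizer (N := N) (x := x) fun hc => hxZ ⟨hx, hc⟩
      have hb := hoddr x
      have hc : ¬ 3 ∣ (Subgroup.centralizer ({x} : Set G)).relIndex N := by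
        intro hd
        have hle : (P : Subgroup G) ≤ Subgroup.centralizer ({x} : Set G) := fun y hy =>
          Subgroup.mem_centralizer_singleton_iff.mpr
            (congrArg Subtype.val (hcomm ⟨y, hy⟩ ⟨x, hx⟩))
        have := H4.not_dvd_relIndex_sylow P (K := N) Subgroup.le_normalizer
        exact this ((dvd_of_eq hp3).trans (hd.trans (Subgroup.relIndex_dvd_of_le_left N hle)))
      obtain ⟨j, hj⟩ := hb
      show 5 ≤ (Subgroup.centralizer ({x} : Set G)).relIndex N
      omega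
    rw [h3] at h1
    omega
  · have h2 := kP_bound P hlt.le (m := 3) (by norm_num) fun x hx hxZ => by
      refine le_trans ?_ (relIndex_le_fuseCard le_rfl hx (Subgroup.le_normalizer hx))
      have ha := two_le_relIndex_centralizer (N := N) (x := x) fun hc => hxZ ⟨hx, hc⟩
      obtain ⟨j, hj⟩ := hoddr x
      show 3 ≤ (Subgroup.centralizer ({x} : Set G)).relIndex N
      omega
    have h4 : 4 ≤ Z.relIndex P := by obtain ⟨j, hj⟩ := hr2; omega
    have : Nat.card Z * 4 ≤ Nat.card (P : Subgroup G) := h1 ▸ Nat.mul_le_mul_left _ h4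
    omega

/-- If `G` has a normal `p`-complement then `k_p(G) = k(P)`. -/
theorem kP_eq_of_hasNormalPComplement [Finite G] {p : ℕ} [Fact p.Prime] (P : Sylow p G)
    (h : Cfsg.HasNormalPComplement p G) :
    kQ G (fun x => ∃ k, orderOf x = p ^ k) = Nat.card (ConjClasses (P : Subgroup G)) := by
  rw [H4.hasNormalPComplement_iff_controls_fusion P] at h
  symm
  refine Nat.card_congr (Equiv.ofBijective
    (fun c => ⟨ConjClasses.map (P : Subgroup G).subtype c, ?_⟩) ⟨?_, ?_⟩)
  · obtain ⟨x, rfl⟩ := ConjClasses.mk_surjective c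
    intro y hy
    have hy' : IsConj (x : G) y := (ConjClasses.mk_eq_mk_iff_isConj.mp
      (ConjClasses.mem_carrier_iff_mk_eq.mp hy)).symm
    refine pElt_conj _ _ hy' ?_
    obtain ⟨k, hk⟩ := (IsPGroup.iff_orderOf.mp P.isPGroup') x
    exact ⟨k, by rw [← hk, Subgroup.orderOf_coe]⟩
  · intro a b hab
    obtain ⟨x, rfl⟩ := ConjClasses.mk_surjective a
    obtain ⟨y, rfl⟩ := ConjClasses.mk_surjective b
    have h1 : IsConj (x : G) y := ConjClasses.mk_eq_mk_iff_isConj.mp (congrArg Subtype.val hab)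
    obtain ⟨g, hg⟩ := isConj_iff.mp h1
    obtain ⟨v, hv, hv'⟩ := h x x.2 g (hg ▸ y.2)
    exact ConjClasses.mk_eq_mk_iff_isConj.mpr (isConj_iff.mpr ⟨⟨v, hv⟩, Subtype.ext (hv'.trans hg)⟩)
  · rintro ⟨c, hc⟩
    obtain ⟨x, rfl⟩ := ConjClasses.mk_surjective c
    obtain ⟨k, hk⟩ := hc x ConjClasses.mem_carrier_mk
    have h1 : IsPGroup p (Subgroup.zpowers x) := IsPGroup.of_card (by rw [Nat.card_zpowers, hk])
    obtain ⟨g, hg⟩ := H4.exists_conj_smul_le_sylow P h1
    refine ⟨ConjClasses.mk ⟨g * x * g⁻¹, hg (H1.conj_mem_conj_smul (Subgroup.mem_zpowers x))⟩,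
      Subtype.ext ?_⟩
    exact ConjClasses.mk_eq_mk_iff_isConj.mpr (isConj_iff.mpr ⟨g, rfl⟩).symm

theorem exists_isConj_mem_sylow [Finite G] {p : ℕ} [Fact p.Prime] (P : Sylow p G) {x : G}
    (hx : ∃ k, orderOf x = p ^ k) : ∃ y ∈ (P : Subgroup G), IsConj x y := by
  obtain ⟨k, hk⟩ := hx
  have h1 : IsPGroup p (Subgroup.zpowers x) := IsPGroup.of_card (by rw [Nat.card_zpowers, hk])
  obtain ⟨g, hg⟩ := H4.exists_conj_smul_le_sylow P h1
  exact ⟨g * x * g⁻¹, hg (H1.conj_mem_conj_smul (Subgroup.mem_zpowers x)), isConj_iff.mpr ⟨g, rfl⟩⟩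

theorem kP_le_card_conjClasses_sylow [Finite G] {p : ℕ} [Fact p.Prime] (P : Sylow p G) :
    kQ G (fun x => ∃ k, orderOf x = p ^ k) ≤ Nat.card (ConjClasses (P : Subgroup G)) := by
  rw [← kQ_true]
  exact kQ_le_kQ_subgroup _ pElt_conj _ _ (fun _ _ => trivial)
    fun x hx => exists_isConj_mem_sylow P hx

/-- If for every prime `r ∈ σ` a Sylow `r`-subgroup is central in its normalizer, then the
`σ'`-elements form a subgroup and there is an abelian Hall `σ`-subgroup. -/
theorem exists_complement_of_forall_normalizer_le [Finite G] (σ : Set ℕ)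
    (h : ∀ (r : ℕ) [Fact r.Prime], r ∈ σ → ∃ P : Sylow r G,
      Subgroup.normalizer ((P : Subgroup G) : Set G) ≤
        Subgroup.centralizer ((P : Subgroup G) : Set G)) :
    ∃ N : Subgroup G, (∀ x, x ∈ N ↔ ∀ r : ℕ, r.Prime → r ∈ σ → ¬ r ∣ orderOf x) ∧
      _root_.commutator G ≤ N := by
  refine ⟨⨅ r : {r : ℕ // r.Prime ∧ r ∈ σ}, Cfsg.pResidual r G, fun x => ?_, ?_⟩
  · rw [Subgroup.mem_iInf]
    constructor
    · intro hx r hr hrσ
      have := Fact.mk hr
      obtain ⟨P, hP⟩ := h r hrσ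
      have h1 := (H4.mem_pResidual_iff_of_hasNormalPComplement
        (H4.hasNormalPComplement_of_normalizer_le_centralizer P hP)).mp (hx ⟨r, hr, hrσ⟩)
      exact (Nat.Prime.coprime_iff_not_dvd hr).mp h1.symm
    · rintro hx ⟨r, hr, hrσ⟩
      exact H4.mem_pResidual_of_coprime
        ((Nat.Prime.coprime_iff_not_dvd hr).mpr (hx r hr hrσ)).symm
  · refine le_iInf ?_
    rintro ⟨r, hr, hrσ⟩
    have := Fact.mk hr
    obtain ⟨P, hP⟩ := h r hrσ
    have h1 := H4.eq_pResidual_of_isComplement' (MonoidHom.ker_transferSylow_isComplement' P hP)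
    show _ ≤ Cfsg.pResidual r G
    rw [← h1]
    have : IsMulCommutative (P : Subgroup G) :=
      ⟨⟨fun a b => Subtype.ext (hP (Subgroup.le_normalizer b.2) a a.2)⟩⟩
    rw [_root_.commutator_def, Subgroup.commutator_le]
    intro a _ b _
    rw [MonoidHom.mem_ker, map_commutatorElement, commutatorElement_eq_one_iff_mul_comm]
    exact mul_comm' _ _

/-- If the `π'`-elements form a subgroup, it is a normal `π`-complement. -/
theorem piComplement_of_mem_iff [Finite G] (π : Set ℕ) {N : Subgroup G}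
    (hN : ∀ x, x ∈ N ↔ ∀ r : ℕ, r.Prime → r ∈ π → ¬ r ∣ orderOf x) :
    N.Normal ∧ (∀ r : ℕ, r.Prime → r ∣ Nat.card N → r ∉ π) ∧
      ∀ r : ℕ, r.Prime → r ∣ N.index → r ∈ π := by
  refine ⟨⟨fun n hn g => ?_⟩, fun r hr hd hrπ => ?_, fun r hr hd => ?_⟩
  · rw [hN, ← orderOf_eq_of_isConj (isConj_iff.mpr ⟨g, rfl⟩)]
    exact (hN n).mp hn
  · obtain ⟨x, hx, hxr⟩ := H1.exists_mem_orderOf_eq_prime hr hd
    exact (hN x).mp hx r hr hrπ (hxr ▸ dvd_rfl)
  · by_contra hrπ
    have := Fact.mk hr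
    have Q : Sylow r G := default
    have hQ : (Q : Subgroup G) ≤ N := by
      intro x hx
      rw [hN]
      intro s hs hsπ hd
      obtain ⟨k, hk⟩ := (IsPGroup.iff_orderOf.mp Q.isPGroup') ⟨x, hx⟩
      rw [Subgroup.orderOf_mk] at hk
      rw [hk] at hd
      rw [(Nat.prime_dvd_prime_iff_eq hs hr).mp (hs.dvd_of_dvd_pow hd)] at hsπ
      exact hrπ hsπ
    exact Q.not_dvd_index (hd.trans (Subgroup.index_dvd_of_le hQ))

theorem exists_abelian_complement [Finite G] (π : Set ℕ) {N : Subgroup G}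
    (hN : ∀ x, x ∈ N ↔ ∀ r : ℕ, r.Prime → r ∈ π → ¬ r ∣ orderOf x)
    (hc : _root_.commutator G ≤ N) :
    ∃ H : Subgroup G, (∀ r : ℕ, r.Prime → r ∣ Nat.card H → r ∈ π) ∧
      (∀ r : ℕ, r.Prime → r ∈ π → ¬ r ∣ H.index) ∧ IsMulCommutative H := by
  obtain ⟨hnorm, h1, h2⟩ := piComplement_of_mem_iff π hN
  have hcop : Nat.Coprime (Nat.card N) N.index :=
    Nat.coprime_of_dvd fun r hr ha hb => h1 r hr ha (h2 r hr hb)
  obtain ⟨H, hH⟩ := Subgroup.exists_right_complement'_of_coprime hcop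
  refine ⟨H, fun r hr hd => h2 r hr ?_, fun r hr hrπ hd => h1 r hr ?_ hrπ, ⟨⟨fun a b => ?_⟩⟩⟩
  · rwa [hH.symm.index_eq_card]
  · rwa [← hH.index_eq_card]
  · apply Subtype.ext
    have h3 : (a : G) * b * (a : G)⁻¹ * (b : G)⁻¹ ∈ N ⊓ H :=
      ⟨hc (Subgroup.commutator_mem_commutator (Subgroup.mem_top _) (Subgroup.mem_top _)),
        H.mul_mem (H.mul_mem (H.mul_mem a.2 b.2) (H.inv_mem a.2)) (H.inv_mem b.2)⟩
    rw [disjoint_iff.mp hH.disjoint, Subgroup.mem_bot] at h3
    exact commutatorElement_eq_one_iff_mul_comm.mp h3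

end H77
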