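import Cfsg.Agent.Lib.FGS.NilpCover
import Cfsg.Agent.Lib.GL.Two
import Cfsg.Agent.Lib.SL2Elt.Torus

/-! Nilpotent subgroups of `GL_n(q)` containing regular unipotent elements. -/

namespace H77

open Matrix MatrixGroups
open scoped Pointwise

section general
variable {ι : Type*} [Fintype ι] [DecidableEq ι] {F : Type*} [Field F]

/-- The stabiliser of the line through `e`. -/
def lineStab (e : ι → F) (he : e ≠ 0) : Subgroup (GL ι F) where
  carrier := {g | ∃ a : F, g.val *ᵥ e = a • e}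
  mul_mem' := by
    rintro g h ⟨a, ha⟩ ⟨b, hb⟩
    exact ⟨b * a, by rw [Units.val_mul, ← mulVec_mulVec, hb, mulVec_smul, ha, smul_smul]⟩
  one_mem' := ⟨1, by simp⟩
  inv_mem' := by
    rintro g ⟨a, ha⟩
    have h1 : e = a • ((g⁻¹ : GL ι F).val *ᵥ e) := by
      rw [← mulVec_smul, ← ha, mulVec_mulVec, ← Units.val_mul, inv_mul_cancel]; simp
    have ha0 : a ≠ 0 := by
      rintro rfl
      exact he (by simpa using h1)
    refine ⟨a⁻¹, ?_⟩
    conv_rhs => rw [h1]
    rw [smul_smul, inv_mul_cancel₀ ha0, one_smul]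

theorem center_le_lineStab (e : ι → F) (he : e ≠ 0) :
    Subgroup.center (GL ι F) ≤ lineStab e he := by
  intro g hg
  obtain ⟨a, ha⟩ := GeneralLinearGroup.mem_center_iff_val_mem_range_scalar.mp hg
  exact ⟨a, by rw [← ha]; simp⟩

variable [Finite F] (p : ℕ) [Fact p.Prime] [CharP F p]

omit [DecidableEq ι] in
theorem exists_fixed_of_action [Nonempty ι] {S : Type*} [Group S] (hS : IsPGroup p S)
    (act : S → (ι → F) → (ι → F)) (h1 : ∀ v, act 1 v = v)
    (hm : ∀ s t v, act (s * t) v = act s (act t v)) (h0 : ∀ s, act s 0 = 0) :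
    ∃ v : ι → F, v ≠ 0 ∧ ∀ s, act s v = v := by
  let _ : MulAction S (ι → F) := { smul := act, one_smul := h1, mul_smul := hm }
  have hd : p ∣ Nat.card (ι → F) := by
    rw [Nat.card_fun]
    exact (H10.char_dvd_card p).trans (dvd_pow_self _ Nat.card_pos.ne')
  obtain ⟨v, hv, hne⟩ := hS.exists_fixed_point_of_prime_dvd_card_of_fixed_point (ι → F) hd
    (a := 0) (fun s => h0 s)
  exact ⟨v, hne.symm, hv⟩

theorem exists_fixed_mulVec [Nonempty ι] {S : Subgroup (GL ι F)} (hS : IsPGroup p S) :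
    ∃ v : ι → F, v ≠ 0 ∧ ∀ s ∈ S, s.val *ᵥ v = v := by
  obtain ⟨v, hv, h⟩ := exists_fixed_of_action p hS (fun s (v : ι → F) => s.1.val *ᵥ v)
    (fun v => by simp) (fun s t v => by simp) (fun s => by simp)
  exact ⟨v, hv, fun s hs => h ⟨s, hs⟩⟩

theorem exists_fixed_vecMul [Nonempty ι] {S : Subgroup (GL ι F)} (hS : IsPGroup p S) :
    ∃ v : ι → F, v ≠ 0 ∧ ∀ s ∈ S, v ᵥ* s.val = v := by
  obtain ⟨v, hv, h⟩ := exists_fixed_of_action p hS (fun s (v : ι → F) => v ᵥ* (s⁻¹).1.val)
    (fun v => by simp) (fun s t v => by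
      rw [vecMul_vecMul, _root_.mul_inv_rev]; rfl) (fun s => by simp)
  exact ⟨v, hv, fun s hs => by simpa using h ⟨s, hs⟩⁻¹⟩

theorem le_lineStab [Nonempty ι] {e : ι → F} (he : e ≠ 0) {u : GL ι F}
    (hu : ∃ k, orderOf u = p ^ k) (hfix : ∀ v, u.val *ᵥ v = v → ∃ a : F, v = a • e)
    (A : Subgroup (GL ι F)) (hA : Group.IsNilpotent A) (huA : u ∈ A) : A ≤ lineStab e he := by
  obtain ⟨S, -, hS, h1, h2⟩ := exists_pPart_of_isNilpotent hA p
  obtain ⟨v, hv, h3⟩ := exists_fixed_mulVec p hS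
  have huS := h1 u huA hu
  obtain ⟨b, rfl⟩ := hfix v (h3 u huS)
  have hb : b ≠ 0 := by rintro rfl; simp at hv
  have h4 : ∀ s ∈ S, s.val *ᵥ e = e := by
    intro s hs
    have := h3 s hs
    rw [mulVec_smul] at this
    exact smul_right_injective _ hb this
  intro a ha
  apply hfix
  have := h4 _ (h2 a⁻¹ (A.inv_mem ha) u huS)
  conv_rhs => rw [← this]
  rw [mulVec_mulVec, mulVec_mulVec, ← Units.val_mul, ← Units.val_mul]
  congr 2
  group

theorem exists_common_row [Nonempty ι] {u c : GL ι F}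
    (hu : ∃ k, orderOf u = p ^ k) (hc : ∃ k, orderOf c = p ^ k)
    (A : Subgroup (GL ι F)) (hA : Group.IsNilpotent A) (huA : u ∈ A) (hcA : c ∈ A) :
    ∃ v : ι → F, v ≠ 0 ∧ v ᵥ* u.val = v ∧ v ᵥ* c.val = v := by
  obtain ⟨S, -, hS, h1, -⟩ := exists_pPart_of_isNilpotent hA p
  obtain ⟨v, hv, h3⟩ := exists_fixed_vecMul p hS
  exact ⟨v, hv, h3 u (h1 u huA hu), h3 c (h1 c hcA hc)⟩

end general

section jordan
variable {F : Type*} [Field F] {n : ℕ}

/-- The unipotent Jordan block. -/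
def jordanMat (F : Type*) [Field F] (n : ℕ) : Matrix (Fin n) (Fin n) F :=
  Matrix.of fun i j => (if i = j then 1 else 0) + (if (i : ℕ) + 1 = j then 1 else 0)

theorem jordanMat_tri : (jordanMat F n).BlockTriangular id := by
  intro i j hij
  have h : (j : ℕ) < i := hij
  have h1 : i ≠ j := fun h' => by subst h'; omega
  simp [jordanMat, h1, show ¬ ((i : ℕ) + 1 = j) by omega]

theorem jordanMat_det : (jordanMat F n).det = 1 := by
  rw [det_of_isUpperTriangular jordanMat_tri]
  simp [jordanMat]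

/-- The unipotent Jordan block in `GL`. -/
noncomputable def jordanGL (F : Type*) [Field F] (n : ℕ) : GL (Fin n) F :=
  GeneralLinearGroup.mkOfDetNeZero (jordanMat F n) (by rw [jordanMat_det]; exact one_ne_zero)

theorem jordanGL_val : (jordanGL F n).val = jordanMat F n := rfl

theorem jordanGL_mem : jordanGL F n ∈ H10.unitriGL (Fin n) F :=
  ⟨jordanMat_tri, fun i => by simp [jordanGL_val, jordanMat]⟩

theorem jordan_mulVec {v : Fin n → F} (h : jordanMat F n *ᵥ v = v) (j : Fin n) (hj : (j : ℕ) ≠ 0) :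
    v j = 0 := by
  let i : Fin n := ⟨j - 1, by omega⟩
  have := congrFun h i
  simp only [jordanMat, mulVec, dotProduct, of_apply, add_mul, Finset.sum_add_distrib, ite_mul,
    one_mul, zero_mul, Finset.sum_ite_eq, Finset.mem_univ, if_true, add_eq_left] at this
  rw [Finset.sum_eq_single j] at this
  · rwa [if_pos (by simp only [i]; omega)] at this
  · intro k _ hk
    rw [if_neg]
    intro h'
    apply hk
    apply Fin.ext
    simp only [i] at h'
    omega
  · simp

theorem jordan_vecMul {v : Fin n → F} (h : v ᵥ* jordanMat F n = v) (i : Fin n)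
    (hi : (i : ℕ) + 1 ≠ n) : v i = 0 := by
  let j : Fin n := ⟨i + 1, by omega⟩
  have := congrFun h j
  simp only [jordanMat, vecMul, dotProduct, of_apply, mul_add, Finset.sum_add_distrib, mul_ite,
    mul_one, mul_zero, Finset.sum_ite_eq', Finset.mem_univ, if_true, add_eq_left] at this
  rw [Finset.sum_eq_single i] at this
  · rwa [if_pos rfl] at this
  · intro k _ hk
    rw [if_neg]
    intro h'
    apply hk
    apply Fin.ext
    simp only [j] at h'
    omega
  · simp

end jordan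

theorem no_nilpotent_cover_pgl_three {F : Type*} [Field F] [Finite F] (n : ℕ) (hn : 3 ≤ n)
    (G : Subgroup (GL (Fin n) F ⧸ Subgroup.center (GL (Fin n) F)))
    (hG : ∀ g : GL (Fin n) F, g.val.det = 1 →
      (g : GL (Fin n) F ⧸ Subgroup.center (GL (Fin n) F)) ∈ G) :
    ¬ ∃ 𝓐 : Finset (Subgroup G), ((∀ A ∈ 𝓐, A ≠ ⊤) ∧ (∀ g : G, ∃ A ∈ 𝓐, g ∈ A)) ∧
      (∀ 𝓑 : Finset (Subgroup G), (∀ A ∈ 𝓑, A ≠ ⊤) ∧ (∀ g : G, ∃ A ∈ 𝓑, g ∈ A) →
        𝓐.card ≤ 𝓑.card) ∧ (∀ A ∈ 𝓐, Group.IsNilpotent A) := by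
  obtain ⟨p, hp⟩ := CharP.exists F
  have : Fact p.Prime := ⟨CharP.char_is_prime F p⟩
  let i0 : Fin n := ⟨0, by omega⟩
  let i1 : Fin n := ⟨1, by omega⟩
  let il : Fin n := ⟨n - 1, by omega⟩
  have : Nonempty (Fin n) := ⟨i0⟩
  let σ : Equiv.Perm (Fin n) := Equiv.swap i1 il
  let u := jordanGL F n
  let c := H10.glReindex F σ u
  have hcv : c.val = (jordanMat F n).submatrix σ σ := by
    ext i j; rfl
  have hu : ∃ k, orderOf u = p ^ k :=
    exists_orderOf_eq_pow_of_mem (H10.isPGroup_unitriGL p) jordanGL_mem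
  have hc : ∃ k, orderOf c = p ^ k := by
    rw [MulEquiv.orderOf_eq]; exact hu
  let e : Fin n → F := Pi.single i0 1
  have he : e ≠ 0 := fun h => by simpa [e] using congrFun h i0
  have h01 : i0 ≠ i1 := by simp [i0, i1]
  have h0l : i0 ≠ il := by simp only [i0, il, Ne, Fin.mk.injEq]; omega
  have h1l : i1 ≠ il := by simp only [i1, il, Ne, Fin.mk.injEq]; omega
  have hσ0 : σ i0 = i0 := Equiv.swap_apply_of_ne_of_ne h01 h0l
  have hfu : ∀ v, u.val *ᵥ v = v → ∃ a : F, v = a • e := by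
    intro v hv
    refine ⟨v i0, funext fun j => ?_⟩
    by_cases hj : j = i0
    · simp [e, hj]
    · rw [jordan_mulVec hv j (fun h => hj (Fin.ext h))]
      simp [e, hj]
  have hfc : ∀ v, c.val *ᵥ v = v → ∃ a : F, v = a • e := by
    intro v hv
    rw [hcv, submatrix_mulVec_equiv] at hv
    have hv' : jordanMat F n *ᵥ (v ∘ σ.symm) = v ∘ σ.symm := by
      funext j
      have := congrFun hv (σ.symm j)
      simpa using this
    refine ⟨v i0, funext fun j => ?_⟩
    by_cases hj : j = i0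
    · simp [e, hj]
    · have := jordan_mulVec hv' (σ j) (fun h => hj (by
        have : σ j = i0 := Fin.ext h
        rw [← hσ0] at this
        exact σ.injective this))
      simp only [Function.comp_apply, Equiv.symm_apply_apply] at this
      simp [this, e, hj]
  refine no_nilpotent_cover_central G (X := Unit) (fun _ => u)
    (fun _ => hG u jordanMat_det) (fun _ => lineStab e he) (fun _ => center_le_lineStab e he)
    (fun _ => ?_) (fun _ A hA huA => le_lineStab p he hu hfu A hA huA) (fun _ _ _ => rfl) c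
    (hG c (by rw [hcv, det_submatrix_equiv_self]; exact jordanMat_det))
    (fun C hC _ hcC => ⟨fun _ huC => ?_, fun g hg => ⟨(), le_lineStab p he hc hfc C hC hcC hg⟩⟩)
  · refine ⟨SpecialLinearGroup.toGL (SpecialLinearGroup.transvection h01.symm 1),
      hG _ (Matrix.SpecialLinearGroup.det_coe _), ?_⟩
    rintro ⟨a, ha⟩
    have := congrFun ha i1
    simp [e, h01.symm, SpecialLinearGroup.transvection_coe] at this
  · obtain ⟨v, hv, h1, h2⟩ := exists_common_row p hu hc C hC huC hcC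
    rw [hcv, submatrix_vecMul_equiv] at h2
    have h2' : (v ∘ σ.symm) ᵥ* jordanMat F n = v ∘ σ.symm := by
      funext j
      have := congrFun h2 (σ.symm j)
      simpa using this
    apply hv
    funext j
    by_cases hj : j = il
    · have := jordan_vecMul h2' i1 (by simp only [i1]; omega)
      simpa [σ, hj] using this
    · exact jordan_vecMul h1 j (fun h => hj (Fin.ext (by simp only [il]; omega)))

section two
variable {F : Type*} [Field F] [Finite F] (p : ℕ) [Fact p.Prime] [CharP F p]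

omit [Finite F] in
theorem det_eq_one_of_pElt {ι : Type*} [Fintype ι] [DecidableEq ι] {g : GL ι F}
    (hg : ∃ k, orderOf g = p ^ k) : g.val.det = 1 := by
  obtain ⟨k, hk⟩ := hg
  have h1 : (GeneralLinearGroup.det g) ^ p ^ k = 1 := by
    rw [← map_pow, ← hk, pow_orderOf_eq_one, map_one]
  have h2 : g.val.det ^ p ^ k = 1 ^ p ^ k := by
    rw [one_pow]; simpa using congrArg Units.val h1
  exact (iterateFrobenius F p k).injective h2

theorem exists_sylow_normalizer_of_eigen {g : GL (Fin 2) F} {v : Fin 2 → F} (hv : v ≠ 0) {a : F}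
    (h : g.val *ᵥ v = a • v) :
    ∃ x : Sylow p (GL (Fin 2) F), g ∈ Subgroup.normalizer ((x : Subgroup (GL (Fin 2) F)) : Set _) := by
  obtain ⟨w, hw⟩ : ∃ w : Fin 2 → F, v 0 * w 1 - w 0 * v 1 ≠ 0 := by
    by_cases h0 : v 0 = 0
    · refine ⟨![1, 0], ?_⟩
      have : v 1 ≠ 0 := fun h1 => hv (by ext i; fin_cases i <;> simp [h0, h1])
      simpa using this
    · exact ⟨![0, 1], by simpa using h0⟩
  let k : GL (Fin 2) F := GeneralLinearGroup.mkOfDetNeZero !![v 0, w 0; v 1, w 1]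
    (by rw [det_fin_two_of]; exact hw)
  have hk : k.val *ᵥ Pi.single 0 1 = v := by
    ext i; fin_cases i <;> simp [k, GeneralLinearGroup.mkOfDetNeZero]
  have h1 : k⁻¹ * g * k ∈ H10.borelGL (Fin 2) F := by
    rw [H10.mem_borelGL_two]
    have h2 : (k⁻¹ * g * k).val *ᵥ Pi.single 0 1 = a • Pi.single 0 1 := by
      rw [Units.val_mul, Units.val_mul, ← mulVec_mulVec, ← mulVec_mulVec, hk, h, mulVec_smul, ← hk,
        mulVec_mulVec, ← Units.val_mul, inv_mul_cancel, Units.val_one, one_mulVec]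
    have := congrFun h2 1
    simpa using this
  refine ⟨k • H10.unitriSylowGL (Fin 2) F p, ?_⟩
  rw [Sylow.coe_subgroup_smul, H1.normalizer_conj_smul, H10.coe_unitriSylowGL,
    H10.normalizer_unitriGL_two, H1.mem_conj_smul_iff]
  exact h1

omit [Finite F] in
theorem diag_of_commute {c g : GL (Fin 2) F} {a b : F} (hc : c.val = !![a, 0; 0, b]) (hab : a ≠ b)
    (h : g * c = c * g) : g.val 0 1 = 0 ∧ g.val 1 0 = 0 := by
  have h1 := congrArg Units.val h
  rw [Units.val_mul, Units.val_mul, hc] at h1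
  have h01 := congrFun (congrFun h1 0) 1
  have h10 := congrFun (congrFun h1 1) 0
  simp [Matrix.mul_apply, Fin.sum_univ_two] at h01 h10
  constructor
  · have : g.val 0 1 * (b - a) = 0 := by linear_combination h01
    exact (mul_eq_zero.mp this).resolve_right (sub_ne_zero.mpr hab.symm)
  · have : g.val 1 0 * (a - b) = 0 := by linear_combination h10
    exact (mul_eq_zero.mp this).resolve_right (sub_ne_zero.mpr hab)

omit [Finite F] in
theorem mem_range_diagGL {g : GL (Fin 2) F} (h01 : g.val 0 1 = 0) (h10 : g.val 1 0 = 0) :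
    g ∈ (H10.diagGL : (Fin 2 → Fˣ) →* GL (Fin 2) F).range := by
  have hd := g.det_ne_zero
  rw [det_fin_two, h01, h10] at hd
  have h0 : g.val 0 0 ≠ 0 := fun h => hd (by simp [h])
  have h1 : g.val 1 1 ≠ 0 := fun h => hd (by simp [h])
  refine ⟨![Units.mk0 _ h0, Units.mk0 _ h1], Units.ext ?_⟩
  ext i j
  fin_cases i <;> fin_cases j <;> simp [h01, h10]

omit [Finite F] in
theorem pow_card_sub_one_of_diag {g : GL (Fin 2) F} (h01 : g.val 0 1 = 0) (h10 : g.val 1 0 = 0) :
    g ^ (Nat.card F - 1) = 1 := by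
  obtain ⟨d, rfl⟩ := mem_range_diagGL h01 h10
  rw [← map_pow, ← H10.card_units_field]
  have : d ^ Nat.card Fˣ = 1 := by ext i; simp
  rw [this, map_one]

/-- The main reduction for `n = 2`. -/
theorem no_nilpotent_cover_pgl_two_aux
    (G : Subgroup (GL (Fin 2) F ⧸ Subgroup.center (GL (Fin 2) F)))
    (hG : ∀ g : GL (Fin 2) F, g.val.det = 1 →
      (g : GL (Fin 2) F ⧸ Subgroup.center (GL (Fin 2) F)) ∈ G)
    (a : Fˣ) (ha : (a : F) ≠ (a⁻¹ : Fˣ))
    (h : ∀ C : Subgroup (GL (Fin 2) F), Group.IsNilpotent C →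
      (∀ g ∈ C, (g : GL (Fin 2) F ⧸ Subgroup.center (GL (Fin 2) F)) ∈ G) →
      H10.diagGL ![a, a⁻¹] ∈ C → ∀ g ∈ C, ∃ (v : Fin 2 → F) (b : F), v ≠ 0 ∧ g.val *ᵥ v = b • v) :
    ¬ ∃ 𝓐 : Finset (Subgroup G), ((∀ A ∈ 𝓐, A ≠ ⊤) ∧ (∀ g : G, ∃ A ∈ 𝓐, g ∈ A)) ∧
      (∀ 𝓑 : Finset (Subgroup G), (∀ A ∈ 𝓑, A ≠ ⊤) ∧ (∀ g : G, ∃ A ∈ 𝓑, g ∈ A) →
        𝓐.card ≤ 𝓑.card) ∧ (∀ A ∈ 𝓐, Group.IsNilpotent A) := by
  obtain ⟨p, hp⟩ := CharP.exists F
  have : Fact p.Prime := ⟨CharP.char_is_prime F p⟩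
  have hq := H10.two_le_card_field (F := F)
  have hne : ∀ x : Sylow p (GL (Fin 2) F), ∃ u ∈ (x : Subgroup (GL (Fin 2) F)), u ≠ 1 := by
    intro x
    have := H10.card_sylow_GL p x
    simp only [Fintype.card_fin] at this
    norm_num at this
    exact (Subgroup.nontrivial_iff_exists_ne_one _).mp
      (Finite.one_lt_card_iff_nontrivial.mp (by omega))
  choose u hu hu1 using hne
  have hup : ∀ x, ∃ k, orderOf (u x) = p ^ k := fun x =>
    exists_orderOf_eq_pow_of_mem x.isPGroup' (hu x)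
  have hTI : ∀ x y : Sylow p (GL (Fin 2) F), u x ∈ (y : Subgroup (GL (Fin 2) F)) → x = y := by
    intro x y hy
    by_contra hxy
    have : u x ∈ (x : Subgroup (GL (Fin 2) F)) ⊓ y := ⟨hu x, hy⟩
    rw [H10.sylow_char_GL_two_inf p x y hxy] at this
    exact hu1 x this
  have h2 : ∀ x y : Sylow p (GL (Fin 2) F),
      u x ∈ Subgroup.normalizer ((y : Subgroup (GL (Fin 2) F)) : Set _) → x = y := by
    intro x y hy
    apply hTI
    have h3 := (isPGroup_zpowers_of_orderOf (hup x)).inf_normalizer_sylow y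
    have h4 : u x ∈ Subgroup.zpowers (u x) ⊓
      Subgroup.normalizer ((y : Subgroup (GL (Fin 2) F)) : Set _) := ⟨Subgroup.mem_zpowers _, hy⟩
    exact (h3.le h4).2
  have hcv : (H10.diagGL ![a, a⁻¹] : GL (Fin 2) F).val = !![(a : F), 0; 0, ((a⁻¹ : Fˣ) : F)] := by
    ext i j; fin_cases i <;> fin_cases j <;> simp
  refine no_nilpotent_cover_central G u (fun x => hG _ (det_eq_one_of_pElt p (hup x)))
    (fun x => Subgroup.normalizer ((x : Subgroup (GL (Fin 2) F)) : Set _))
    (fun x => Subgroup.center_le_normalizer _) (fun x => ?_) (fun x A hA huA => ?_) h2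
    (H10.diagGL ![a, a⁻¹]) (hG _ (by rw [hcv, det_fin_two_of]; simp))
    (fun C hC hCG hcC => ⟨fun x hx => ?_, fun g hg => ?_⟩)
  · have : Nontrivial (Sylow p (GL (Fin 2) F)) :=
      Finite.one_lt_card_iff_nontrivial.mp (by rw [H10.card_sylow_char_GL_two]; omega)
    obtain ⟨y, hy⟩ := exists_ne x
    exact ⟨u y, hG _ (det_eq_one_of_pElt p (hup y)), fun h3 => hy (h2 y x h3)⟩
  · obtain ⟨S, -, hS, h3, h4⟩ := exists_pPart_of_isNilpotent hA p
    obtain ⟨y, hy⟩ := hS.exists_le_sylow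
    have huS := h3 _ huA (hup x)
    obtain rfl := hTI x y (hy huS)
    intro g hg
    refine Sylow.smul_eq_iff_mem_normalizer.mp (Eq.symm ?_)
    apply hTI
    rw [Sylow.coe_subgroup_smul, H1.mem_conj_smul_iff]
    simpa using hy (h4 g⁻¹ (A.inv_mem hg) _ huS)
  · have hcop : (orderOf (u x)).Coprime (Nat.card F - 1) := by
      obtain ⟨k, hk⟩ := hup x
      rw [hk]
      apply Nat.Coprime.pow_left
      rw [Nat.Prime.coprime_iff_not_dvd Fact.out]
      simpa using H10.not_char_dvd_pow_sub_one (F := F) p one_pos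
    have h3 : Commute (u x) (H10.diagGL ![a, a⁻¹]) := by
      refine commute_of_isNilpotent_of_coprime hC hx hcC (hcop.coprime_dvd_right ?_)
      exact orderOf_dvd_of_pow_eq_one (pow_card_sub_one_of_diag (by simp) (by simp))
    obtain ⟨h4, h5⟩ := diag_of_commute hcv ha h3.eq
    have h6 := orderOf_dvd_of_pow_eq_one (pow_card_sub_one_of_diag h4 h5)
    exact hu1 x (orderOf_eq_one_iff.mp (Nat.Coprime.eq_one_of_dvd hcop h6))
  · obtain ⟨v, b, hv, h3⟩ := h C hC hCG hcC g hg
    exact exists_sylow_normalizer_of_eigen p hv h3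

omit [Finite F] in
theorem eigen_of_diag {g : GL (Fin 2) F} (h10 : g.val 1 0 = 0) :
    ∃ (v : Fin 2 → F) (b : F), v ≠ 0 ∧ g.val *ᵥ v = b • v := by
  refine ⟨Pi.single 0 1, g.val 0 0, fun h => by simpa using congrFun h 0, ?_⟩
  ext i; fin_cases i <;> simp [h10]

theorem exists_abelian_sylow_GL_two {r : ℕ} [hr : Fact r.Prime] (hr2 : r ≠ 2)
    (hrq : r ∣ Nat.card F - 1) :
    ∃ P : Sylow r (GL (Fin 2) F), IsMulCommutative (P : Subgroup (GL (Fin 2) F)) := by
  have hq := H10.two_le_card_field (F := F)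
  let f : (Fin 2 → Fˣ) →* GL (Fin 2) F := H10.diagGL
  have hf : Function.Injective f := by
    intro d e h
    ext i
    have := congrArg (fun g : GL (Fin 2) F => g.val i i) h
    simpa [f] using this
  obtain ⟨Q⟩ : Nonempty (Sylow r (Fin 2 → Fˣ)) := Sylow.nonempty
  have h1 : f.range.index = Nat.card F * (Nat.card F + 1) := by
    have h2 := f.range.card_mul_index
    rw [H10.card_GL_two, ← Nat.card_congr (MonoidHom.ofInjective hf).toEquiv, Nat.card_fun,
      H10.card_units_field] at h2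
    simp only [Nat.card_eq_fintype_card, Fintype.card_fin] at h2 ⊢
    apply Nat.eq_of_mul_eq_mul_left (show 0 < (Nat.card F - 1) ^ 2 from Nat.pow_pos (by omega))
    rw [h2]; ring
  have h3 : ¬ r ∣ ((Q : Subgroup (Fin 2 → Fˣ)).map f).index := by
    rw [Subgroup.index_map_of_injective _ hf, h1, hr.out.dvd_mul, hr.out.dvd_mul]
    rintro (h | h | h)
    · exact Q.not_dvd_index h
    · have := Nat.dvd_sub h hrq
      rw [show Nat.card F - (Nat.card F - 1) = 1 by omega] at this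
      exact hr.out.one_lt.ne' (Nat.dvd_one.mp this)
    · have := Nat.dvd_sub h hrq
      rw [show Nat.card F + 1 - (Nat.card F - 1) = 2 by omega] at this
      exact hr2 ((Nat.prime_dvd_prime_iff_eq hr.out Nat.prime_two).mp this)
  exact ⟨(Q.isPGroup'.map f).toSylow h3, Subgroup.map_isMulCommutative _ _⟩

theorem no_nilpotent_cover_pgl_two (hq : 4 ≤ Nat.card F)
    (G : Subgroup (GL (Fin 2) F ⧸ Subgroup.center (GL (Fin 2) F)))
    (hG : ∀ g : GL (Fin 2) F, g.val.det = 1 →
      (g : GL (Fin 2) F ⧸ Subgroup.center (GL (Fin 2) F)) ∈ G) :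
    ¬ ∃ 𝓐 : Finset (Subgroup G), ((∀ A ∈ 𝓐, A ≠ ⊤) ∧ (∀ g : G, ∃ A ∈ 𝓐, g ∈ A)) ∧
      (∀ 𝓑 : Finset (Subgroup G), (∀ A ∈ 𝓑, A ≠ ⊤) ∧ (∀ g : G, ∃ A ∈ 𝓑, g ∈ A) →
        𝓐.card ≤ 𝓑.card) ∧ (∀ A ∈ 𝓐, Group.IsNilpotent A) := by
  have hcv : ∀ a : Fˣ, (H10.diagGL ![a, a⁻¹] : GL (Fin 2) F).val =
      !![(a : F), 0; 0, ((a⁻¹ : Fˣ) : F)] := by
    intro a; ext i j; fin_cases i <;> fin_cases j <;> simp
  have hord : ∀ (a : Fˣ) (k : ℕ), a ^ k = 1 → (H10.diagGL ![a, a⁻¹] : GL (Fin 2) F) ^ k = 1 := by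
    intro a k hk
    rw [← map_pow]
    have : (![a, a⁻¹] : Fin 2 → Fˣ) ^ k = 1 := by
      ext i; fin_cases i <;> simp [hk]
    rw [this, map_one]
  have hne : ∀ a : Fˣ, a ^ 2 ≠ 1 → (a : F) ≠ (a⁻¹ : Fˣ) := by
    intro a ha h
    apply ha
    rw [sq, mul_eq_one_iff_eq_inv]
    exact Units.ext h
  by_cases hr : ∃ r : ℕ, r.Prime ∧ r ≠ 2 ∧ r ∣ Nat.card F - 1
  · obtain ⟨r, hr, hr2, hrq⟩ := hr
    have : Fact r.Prime := ⟨hr⟩
    obtain ⟨a, ha⟩ := exists_prime_orderOf_dvd_card' (G := Fˣ) r (by rwa [H10.card_units_field])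
    have ha2 : a ^ 2 ≠ 1 := by
      intro h
      have := orderOf_dvd_of_pow_eq_one h
      rw [ha] at this
      exact hr2 ((Nat.prime_dvd_prime_iff_eq hr Nat.prime_two).mp this)
    refine no_nilpotent_cover_pgl_two_aux G hG a (hne a ha2) fun C hC _ hcC g hg => ?_
    obtain ⟨P, hP⟩ := exists_abelian_sylow_GL_two (F := F) hr2 hrq
    have h1 : ∃ k, orderOf (H10.diagGL ![a, a⁻¹] : GL (Fin 2) F) = r ^ k := by
      have := orderOf_dvd_of_pow_eq_one (hord a r (ha ▸ pow_orderOf_eq_one a))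
      rcases (Nat.dvd_prime hr).mp this with h | h
      · exact ⟨0, by simpa using h⟩
      · exact ⟨1, by simpa using h⟩
    have h2 := le_centralizer_of_isNilpotent P hP hC hcC h1 hg
    rw [Subgroup.mem_centralizer_singleton_iff] at h2
    exact eigen_of_diag (diag_of_commute (hcv a) (hne a ha2) h2).2
  obtain ⟨k, hk⟩ : ∃ k, Nat.card F - 1 = 2 ^ k := by
    refine ⟨_, Nat.eq_prime_pow_of_unique_prime_dvd (by omega) fun {d} hd hdq => ?_⟩
    by_contra h
    exact hr ⟨d, hd, h, hdq⟩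
  have h4 : 4 ∣ Nat.card F - 1 := by
    rw [hk]
    rcases k with _ | _ | k
    · omega
    · omega
    · exact ⟨2 ^ k, by ring⟩
  have h2F : (2 : F) ≠ 0 := by
    have := Fintype.ofFinite F
    apply H64.SL2.two_ne_zero_of_odd
    rw [← Nat.card_eq_fintype_card, Nat.odd_iff]; omega
  by_cases hsq : ∀ g : GL (Fin 2) F, (g : GL (Fin 2) F ⧸ Subgroup.center (GL (Fin 2) F)) ∈ G →
      ∃ z : Fˣ, GeneralLinearGroup.det g = z ^ 2
  · obtain ⟨a, ha⟩ : ∃ a : Fˣ, orderOf a = 4 := by
      obtain ⟨g, hg⟩ := IsCyclic.exists_ofOrder_eq_natCard (α := Fˣ)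
      rw [H10.card_units_field] at hg
      exact ⟨g ^ (orderOf g / 4), orderOf_pow_orderOf_div (by omega) (hg ▸ h4)⟩
    have ha2 : a ^ 2 ≠ 1 := by
      intro h
      have := orderOf_dvd_of_pow_eq_one h
      rw [ha] at this
      omega
    refine no_nilpotent_cover_pgl_two_aux G hG a (hne a ha2) fun C hC hCG hcC g hg => ?_
    obtain ⟨j, m, hm, hjm⟩ := Nat.exists_eq_two_pow_mul_odd (orderOf_pos g).ne'
    have hom : orderOf (g ^ 2 ^ j) = m := by
      rw [orderOf_pow' _ (by positivity), hjm, Nat.gcd_eq_right (dvd_mul_right _ _),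
        Nat.mul_div_cancel_left _ (by positivity)]
    have hcop : ∀ t, m.Coprime (2 ^ t) := fun t =>
      (Nat.coprime_two_right.mpr hm).pow_right t
    have h5 : Commute (g ^ 2 ^ j) (H10.diagGL ![a, a⁻¹]) := by
      refine commute_of_isNilpotent_of_coprime hC (C.pow_mem hg _) hcC ?_
      rw [hom]
      exact (hcop 2).coprime_dvd_right
        (orderOf_dvd_of_pow_eq_one (hord a 4 (ha ▸ pow_orderOf_eq_one a)))
    obtain ⟨h6, h7⟩ := diag_of_commute (hcv a) (hne a ha2) h5.eq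
    have h8 := orderOf_dvd_of_pow_eq_one (pow_card_sub_one_of_diag h6 h7)
    rw [hom, hk] at h8
    have h9 : g ^ 2 ^ j = 1 := by
      rw [← orderOf_eq_one_iff, hom]; exact Nat.Coprime.eq_one_of_dvd (hcop k) h8
    obtain ⟨z, hz⟩ := hsq g (hCG g hg)
    have hz' : g.val.det = (z : F) ^ 2 := by simpa using congrArg Units.val hz
    let s : SL(2, F) := ⟨((z⁻¹ : Fˣ) : F) • g.val, by
      rw [det_smul, hz']; simp⟩
    have hs : H64.SL2.Split s := by
      by_contra hs
      have h10 : orderOf s ∣ Nat.card F + 1 := by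
        rw [← H64.SL2.card_centralizer_of_not_split hs]
        exact H1.orderOf_dvd_card_of_mem (Subgroup.mem_centralizer_singleton_iff.mpr rfl)
      have h11 : s ^ 2 ^ (j + k) = 1 := by
        apply Subtype.ext
        have h12 : (z⁻¹) ^ 2 ^ (j + k) = 1 := by
          rw [pow_add, mul_comm, pow_mul, ← hk, ← H10.card_units_field, pow_card_eq_one', one_pow]
        have h13 : g.val ^ 2 ^ (j + k) = 1 := by
          rw [← Units.val_pow_eq_pow_val, pow_add, pow_mul, h9, one_pow, Units.val_one]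
        rw [Matrix.SpecialLinearGroup.coe_pow]
        change (((z⁻¹ : Fˣ) : F) • g.val) ^ _ = 1
        rw [smul_pow, h13, ← Units.val_pow_eq_pow_val, h12, Units.val_one, one_smul]
      obtain ⟨t, -, ht⟩ := (Nat.dvd_prime_pow Nat.prime_two).mp (orderOf_dvd_of_pow_eq_one h11)
      have h14 : orderOf s ∣ 2 := by
        rw [ht] at h10 ⊢
        rcases t with _ | _ | t
        · simp
        · simp
        · have : 4 ∣ Nat.card F + 1 := Dvd.dvd.trans ⟨2 ^ t, by ring⟩ h10
          omega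
      have h15 : s * s = 1 := by rw [← sq]; exact orderOf_dvd_iff_pow_eq_one.mp h14
      exact hs (H64.SL2.split_of_tr_sq_eq_four (H64.SL2.tr_sq_eq_four_of_mem_center
        (H64.SL2.mem_center_of_mul_self_eq_one h2F h15)))
    have h16 := mt H64.SL2.not_split_iff_no_eigenvector.mpr (not_not.mpr hs)
    push Not at h16
    obtain ⟨c, v, hv, h17⟩ := h16
    refine ⟨v, z * c, hv, ?_⟩
    change (((z⁻¹ : Fˣ) : F) • g.val) *ᵥ v = c • v at h17
    rw [mul_smul, ← h17, smul_mulVec, smul_smul]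
    simp
  · push Not at hsq
    obtain ⟨g₀, hg₀, hg₁⟩ := hsq
    obtain ⟨p, hp⟩ := CharP.exists F
    have : Fact p.Prime := ⟨CharP.char_is_prime F p⟩
    let M : Subgroup (GL (Fin 2) F) :=
      (powMonoidHom 2 : Fˣ →* Fˣ).range.comap GeneralLinearGroup.det
    have hM : ∀ (g : GL (Fin 2) F) (a : F), g.val.det = a ^ 2 → g ∈ M := by
      intro g a h
      have ha : a ≠ 0 := by
        rintro rfl
        exact g.det_ne_zero (by simpa using h)
      exact ⟨Units.mk0 a ha, Units.ext (by simpa using h.symm)⟩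
    have hP : IsMulCommutative (H10.unitriSylowGL (Fin 2) F p : Subgroup (GL (Fin 2) F)) := by
      rw [H10.coe_unitriSylowGL]
      refine ⟨⟨fun x y => Subtype.ext (Units.ext ?_)⟩⟩
      obtain ⟨x1, x2, x3⟩ := H10.mem_unitriGL_two.mp x.2
      obtain ⟨y1, y2, y3⟩ := H10.mem_unitriGL_two.mp y.2
      ext i j
      fin_cases i <;> fin_cases j <;>
        simp [Matrix.mul_apply, Fin.sum_univ_two, x1, x2, x3, y1, y2, y3, add_comm]
    let u := jordanGL F 2
    let c := H10.glReindex F (Equiv.swap (0 : Fin 2) 1) u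
    have huv : u.val = !![1, 1; 0, 1] := by
      ext i j; fin_cases i <;> fin_cases j <;> simp [u, jordanGL_val, jordanMat]
    have hcv : c.val = !![1, 0; 1, 1] := by
      have : c.val = u.val.submatrix (Equiv.swap (0 : Fin 2) 1) (Equiv.swap (0 : Fin 2) 1) := by
        ext i j; rfl
      rw [this, huv]
      ext i j; fin_cases i <;> fin_cases j <;> simp
    have hu : ∃ k, orderOf u = p ^ k :=
      exists_orderOf_eq_pow_of_mem (H10.isPGroup_unitriGL p) jordanGL_mem
    have hc : ∃ k, orderOf c = p ^ k := by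
      rw [MulEquiv.orderOf_eq]; exact hu
    have key : ∀ (x g : GL (Fin 2) F) (A : Subgroup (GL (Fin 2) F)), Group.IsNilpotent A →
        (∃ k, orderOf x = p ^ k) → x ∈ A → g ∈ A → g.val * x.val = x.val * g.val := by
      intro x g A hA hx hxA hgA
      have := le_centralizer_of_isNilpotent _ hP hA hxA hx hgA
      rw [Subgroup.mem_centralizer_singleton_iff] at this
      exact congrArg Units.val this
    refine no_nilpotent_cover_central G (X := Unit) (fun _ => u)
      (fun _ => hG u jordanMat_det) (fun _ => M) (fun _ g hg => ?_)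
      (fun _ => ⟨g₀, hg₀, fun ⟨z, hz⟩ => hg₁ z hz.symm⟩) (fun _ A hA huA g hg => ?_)
      (fun _ _ _ => rfl) c (hG c (by rw [hcv, det_fin_two_of]; simp))
      (fun C hC _ hcC => ⟨fun _ huC => ?_, fun g hg => ⟨(), ?_⟩⟩)
    · obtain ⟨a, ha⟩ := GeneralLinearGroup.mem_center_iff_val_mem_range_scalar.mp hg
      exact hM g a (by rw [← ha]; simp)
    · have h1 := key u g A hA hu huA hg
      rw [huv] at h1
      have h00 := congrFun (congrFun h1 0) 0
      have h01 := congrFun (congrFun h1 0) 1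
      simp [Matrix.mul_apply, Fin.sum_univ_two] at h00 h01
      refine hM g (g.val 0 0) ?_
      rw [det_fin_two, h00]
      linear_combination (-g.val 0 0) * h01
    · have h1 := key u c C hC hu huC hcC
      rw [huv, hcv] at h1
      have h00 := congrFun (congrFun h1 0) 0
      simp [Matrix.mul_apply, Fin.sum_univ_two] at h00
    · have h1 := key c g C hC hc hcC hg
      rw [hcv] at h1
      have h00 := congrFun (congrFun h1 0) 0
      have h10 := congrFun (congrFun h1 1) 0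
      simp [Matrix.mul_apply, Fin.sum_univ_two] at h00 h10
      refine hM g (g.val 0 0) ?_
      rw [det_fin_two, h00]
      linear_combination (g.val 0 0) * h10

end two

end H77
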