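import Cfsg.Agent.Base
import Cfsg.Agent.Lib.Core.Frattini
import Cfsg.Agent.Lib.Core.HallSZ
import Cfsg.Agent.Lib.Core.Coprime
import Cfsg.Agent.Lib.Transfer.Control

/-! `p`-nilpotence modulo a `p`-subgroup of the Frattini subgroup. -/

namespace H77

open Subgroup Cfsg
open scoped Pointwise commutatorElement

variable {G : Type*} [Group G] [Finite G] {p : ℕ} [hp : Fact p.Prime]

theorem hasNormalPComplement_of_quotient_le_frattini {Q : Subgroup G} [Q.Normal]
    (hQ : IsPGroup p Q) (hF : Q ≤ frattini G) (h : HasNormalPComplement p (G ⧸ Q)) :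
    HasNormalPComplement p G := by
  obtain ⟨N, hN, h1, k, h2⟩ := H4.hasNormalPComplement_iff_exists.mp h
  obtain ⟨a, ha⟩ := IsPGroup.iff_card.mp hQ
  set K := N.comap (QuotientGroup.mk' Q) with hK
  have hQK : Q ≤ K := fun x hx => by
    rw [hK, mem_comap, show QuotientGroup.mk' Q x = 1 from (QuotientGroup.eq_one_iff x).mpr hx]
    exact N.one_mem
  have h3 : Q.relIndex K = Nat.card N := by
    rw [← H1.card_map_mk'_eq_relIndex, hK,
      map_comap_eq_self_of_surjective (QuotientGroup.mk'_surjective Q)]
  have hcop : (Nat.card Q).Coprime (Nat.card N) := by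
    rw [ha]; exact ((Nat.Prime.coprime_iff_not_dvd hp.out).mpr h1).pow_left a
  have hn : ∀ X : Subgroup G, X ≤ normalizer (Q : Set G) := fun X => by
    rw [normalizer_eq_top]; exact le_top
  obtain ⟨H, hHK, h4, h5, h6⟩ := H3.exists_complement_in hQK (hn K) (h3 ▸ hcop)
  rw [h3] at h6
  have h7 : normalizer (H : Set G) ⊔ Q = ⊤ := by
    rw [eq_top_iff]
    intro g _
    have hKn : K.Normal := inferInstance
    obtain ⟨e, he, h8⟩ := H3.exists_conj_eq_of_coprime (N := Q) (H := MulAut.conj g • H) (K := H)
      (hn H) (by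
        rw [h4, H3.conj_smul_le_iff]
        exact fun x hx => hKn.conj_mem x (hHK hx) g) (H1.card_conj_smul _ _) (h6 ▸ hcop)
      (Or.inl (have := hQ.isNilpotent; inferInstance))
    rw [H1.conj_smul_conj_smul, ← H1.mem_normalizer_iff_conj_smul_eq] at h8
    rw [sup_comm]
    simpa using mul_mem_sup (inv_mem he) h8
  have h8 := H1.eq_top_of_sup_eq_top_of_le_frattini hF h7
  have : H.Normal := normalizer_eq_top_iff.mp h8
  refine H4.hasNormalPComplement_of_index (N := H) (h6 ▸ h1) (k := a + k) ?_
  have h9 := H.card_mul_index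
  have h10 := N.card_mul_index
  have h11 := Q.card_mul_index
  rw [h2] at h10
  rw [index, ← h10, ha, ← h9, h6] at h11
  have : H.index = p ^ (a + k) := by
    apply Nat.eq_of_mul_eq_mul_left (Nat.card_pos (α := N))
    rw [← h11]; ring
  rw [this]

theorem hasNormalPComplement_of_normalizer_of_normal (P : Sylow p G)
    (hN : HasNormalPComplement p (normalizer ((P : Subgroup G) : Set G))) (Q : Subgroup G)
    [Q.Normal] (h1 : ⁅(P : Subgroup G), (P : Subgroup G)⁆ ≤ Q)
    (h2 : Q ≤ (frattini (P : Subgroup G)).map (P : Subgroup G).subtype) :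
    HasNormalPComplement p G := by
  have hQP : Q ≤ P := h2.trans (map_subtype_le _)
  refine hasNormalPComplement_of_quotient_le_frattini (P.isPGroup'.to_le hQP)
    (H1.le_frattini_of_le_map_subtype_frattini h2) ?_
  let f := QuotientGroup.mk' Q
  have hf : Function.Surjective f := QuotientGroup.mk'_surjective Q
  apply H4.hasNormalPComplement_of_normalizer_le_centralizer (P.mapSurjective hf)
  intro g hg
  obtain ⟨g, rfl⟩ := hf g
  have hg' : g ∈ normalizer ((P : Subgroup G) : Set G) := by
    have h3 : f g ∈ normalizer (((P : Subgroup G).map f : Subgroup _) : Set _) := hg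
    rw [H1.mem_normalizer_iff_conj_smul_eq] at h3 ⊢
    have := congrArg (Subgroup.comap f) h3
    rwa [H1.comap_conj_smul, comap_map_eq_self (by rw [QuotientGroup.ker_mk']; exact hQP)] at this
  obtain ⟨r, hr, x, hx, h4⟩ := H4.exists_pResidual_mul
    (H4.coprime_index_sylow (P.subtype (le_normalizer : (P : Subgroup G) ≤ _))) ⟨g, hg'⟩
  have h5 : (r : G) ∈ centralizer ((P : Subgroup G) : Set G) :=
    H4.mem_centralizer_of_hasNormalPComplement hN P.isPGroup' le_normalizer r.2 r.2 (by
      have := (H4.mem_pResidual_iff_of_hasNormalPComplement hN).mp hr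
      rwa [orderOf_coe])
  have h6 : g = r * x := (congrArg Subtype.val h4).symm
  rintro _ ⟨y, hy, rfl⟩
  rw [h6, map_mul, ← mul_assoc, ← map_mul f y, h5 y hy, map_mul, mul_assoc, mul_assoc]
  congr 1
  rw [← commutatorElement_eq_one_iff_mul_comm, ← map_commutatorElement]
  exact (QuotientGroup.eq_one_iff _).mpr (h1 (commutator_mem_commutator hy hx))

end H77
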