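import Mathlib
import Cfsg.Agent.Base
import Cfsg.Agent.Lib.FGS.OrderType
import Cfsg.Agent.Lib.FGS.ClassSize
import Cfsg.Agent.Lib.Core.CoprimeSylow
import Cfsg.Agent.Lib.Core.Hall

/-! `π`-closed and `π'`-homogeneous groups (helper79). -/

set_option autoImplicit false

namespace H79

open Subgroup Cfsg
open scoped Pointwise commutatorElement

variable {G : Type*} [Group G] {π : Set ℕ}

/-- The `π`-elements form a subgroup. -/
def PiClosed (π : Set ℕ) (G : Type*) [Group G] : Prop :=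
  ∃ K : Subgroup G, ∀ x : G, x ∈ K ↔ IsPiElt π x

/-- `π`-elements normalizing a `q`-subgroup, `q ∉ π`, centralize it. -/
def PiHomog (π : Set ℕ) (G : Type*) [Group G] : Prop :=
  ∀ q : ℕ, q.Prime → q ∉ π → ∀ Q : Subgroup G, IsPGroup q Q → ∀ x : G, IsPiElt π x →
    x ∈ normalizer (Q : Set G) → x ∈ centralizer (Q : Set G)

theorem normal_of_iff_isPiElt {K : Subgroup G} (h : ∀ x : G, x ∈ K ↔ IsPiElt π x) : K.Normal :=
  ⟨fun x hx g => (h _).2 (((h x).1 hx).conj g)⟩

theorem prime_mem_of_forall_isPiElt [Finite G] {K : Subgroup G} (h : ∀ x ∈ K, IsPiElt π x)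
    (q : ℕ) (hq : q.Prime) (hd : q ∣ Nat.card K) : q ∈ π := by
  obtain ⟨x, hx, ho⟩ := H1.exists_mem_orderOf_eq_prime hq hd
  exact h x hx q hq ho.symm.dvd

theorem prime_not_mem_index [Finite G] {K : Subgroup G} [K.Normal] (h : ∀ x, IsPiElt π x → x ∈ K)
    (q : ℕ) (hq : q.Prime) (hd : q ∣ K.index) : q ∉ π := by
  intro hqπ
  haveI := Fact.mk hq
  obtain ⟨y, hy⟩ := exists_prime_orderOf_dvd_card' (G := G ⧸ K) q hd
  obtain ⟨g, rfl⟩ := QuotientGroup.mk'_surjective K y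
  obtain ⟨a, ha, he⟩ := exists_isPiElt_lift (π := π) (QuotientGroup.mk' K) g
    (fun r hr hd => by rwa [(Nat.prime_dvd_prime_iff_eq hr hq).1 (hy ▸ hd)])
  rw [← he, QuotientGroup.mk'_apply, (QuotientGroup.eq_one_iff _).2 (h _ ha), orderOf_one] at hy
  exact hq.ne_one hy.symm

theorem piHomog_of_relIndex [Finite G]
    (hhom : ∀ H : Subgroup G, H ≠ ⊥ → (∀ p : ℕ, p.Prime → p ∣ Nat.card H → p ∉ π) →
      ∀ p : ℕ, p.Prime → p ∣ (centralizer (H : Set G)).relIndex (normalizer (H : Set G)) → p ∉ π) :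
    PiHomog π G := by
  intro q hq hqπ Q hQ x hx hxN
  haveI := Fact.mk hq
  by_cases hQ1 : Q = ⊥
  · subst hQ1; intro y hy; rw [show y = 1 from hy]; simp
  obtain ⟨k, hk⟩ := IsPGroup.iff_card.1 hQ
  have h0 := hhom Q hQ1 fun p hp hd => by
    rwa [(Nat.prime_dvd_prime_iff_eq hp hq).1 (hp.dvd_of_dvd_pow (hk ▸ hd))]
  haveI : ((centralizer (Q : Set G)).subgroupOf (normalizer (Q : Set G))).Normal :=
    normal_subgroupOf_of_le_normalizer (H2.le_normalizer_centralizer le_rfl)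
  have h1 := H1.mem_of_coprime_index (x := (⟨x, hxN⟩ : normalizer (Q : Set G)))
    (N := (centralizer (Q : Set G)).subgroupOf (normalizer (Q : Set G)))
    (Nat.coprime_of_dvd fun r hr h1 h2 => h0 r hr h2 (hx r hr (by simpa using h1)))
  exact h1

theorem PiHomog.subgroup (h : PiHomog π G) (H : Subgroup G) : PiHomog π H := by
  intro q hq hqπ Q hQ x hx hxN y hy
  exact Subtype.ext (h q hq hqπ (Q.map H.subtype) (hQ.map _) x ((isPiElt_coe x).2 hx)
    (le_normalizer_map H.subtype ⟨x, hxN, rfl⟩) y ⟨y, hy, rfl⟩)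

theorem PiHomog.quotient [Finite G] (h : PiHomog π G) (L : Subgroup G) [L.Normal]
    (hL : ∀ q : ℕ, q.Prime → q ∣ Nat.card L → q ∈ π) : PiHomog π (G ⧸ L) := by
  intro q hq hqπ Q hQ x hx hxN
  haveI := Fact.mk hq
  obtain ⟨T, hT⟩ := H68.exists_sylowIn q (Q.comap (QuotientGroup.mk' L))
  have h1 := hT.map (QuotientGroup.mk' L)
  rw [map_comap_eq_self_of_surjective (QuotientGroup.mk'_surjective L)] at h1
  have h2 : Q = T.map (QuotientGroup.mk' L) := h1.eq_of_le hQ h1.le le_rfl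
  obtain ⟨k, hk⟩ := IsPGroup.iff_card.1 hT.isPGroup
  haveI := hT.isPGroup.isNilpotent
  have hcop : (Nat.card T).Coprime (Nat.card L) :=
    hk ▸ Nat.Coprime.pow_left k ((Nat.Prime.coprime_iff_not_dvd hq).2 fun hd => hqπ (hL q hq hd))
  rw [h2, ← H2.map_mk'_normalizer hcop (Or.inl IsNilpotent.to_isSolvable)] at hxN
  obtain ⟨n, hn, rfl⟩ := hxN
  obtain ⟨a, ha, he⟩ := exists_isPiElt_lift (π := π) (QuotientGroup.mk' L) n hx
  rw [← he, h2]
  have := h q hq hqπ T hT.isPGroup _ ha (pow_mem hn a)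
  rintro _ ⟨t, ht, rfl⟩
  rw [← map_mul, this t ht, map_mul]

/-- Under homogeneity, `π`-elements centralize every normal `π'`-subgroup. -/
theorem PiHomog.mem_centralizer [Finite G] (h : PiHomog π G) (K : Subgroup G) [K.Normal]
    (hK : ∀ q : ℕ, q.Prime → q ∣ Nat.card K → q ∉ π) {x : G} (hx : IsPiElt π x) :
    x ∈ centralizer (K : Set G) := by
  rw [← H80.le_Cx_iff]
  refine H2.le_of_forall_invariant_sylowIn_le (A := zpowers x) le_normalizer_of_normal
    (Nat.coprime_of_dvd fun r hr h1 h2 => hK r hr h2 (hx r hr (by simpa using h1)))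
    (Or.inl (H2.isSolvable_zpowers x)) fun q hq P hP hxP => ?_
  by_cases hqπ : q ∈ π
  · rw [H68.eq_bot_of_isPGroup_of_not_dvd hP.isPGroup hP.le fun hd => hK q hq.out hd hqπ]
    exact bot_le
  · exact H80.le_Cx_iff.2 (h q hq.out hqπ P hP.isPGroup x hx (hxP (mem_zpowers x)))

theorem piClosed_of_quotient_pi (L : Subgroup G) [L.Normal]
    (hL : ∀ q : ℕ, q.Prime → q ∣ Nat.card L → q ∈ π) (h : PiClosed π (G ⧸ L)) : PiClosed π G := by
  obtain ⟨K, hK⟩ := h
  exact ⟨K.comap (QuotientGroup.mk' L), fun x => (hK _).trans (isPiElt_mk_iff L hL x)⟩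

theorem PiHomog.piClosed_of_quotient_pi' [Finite G] (h : PiHomog π G) (K : Subgroup G) [K.Normal]
    (hK : ∀ q : ℕ, q.Prime → q ∣ Nat.card K → q ∉ π) (hQ : PiClosed π (G ⧸ K)) : PiClosed π G := by
  obtain ⟨M, hM⟩ := hQ
  have hr : K.relIndex (M.comap (QuotientGroup.mk' K)) = Nat.card M := H3.relIndex_comap_mk' K M
  have hMπ := prime_mem_of_forall_isPiElt fun x (hx : x ∈ M) => (hM x).1 hx
  obtain ⟨A, hA1, hA2, -, hA3⟩ := H3.exists_complement_in (N := K)
    (T := M.comap (QuotientGroup.mk' K)) (QuotientGroup.le_comap_mk' K M) le_normalizer_of_normal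
    (hr ▸ Nat.coprime_of_dvd fun r hr h1 h2 => hK r hr h1 (hMπ r hr h2))
  rw [hr] at hA3
  have hAπ : ∀ a ∈ A, IsPiElt π a := fun a ha => isPiElt_of_mem (hA3 ▸ hMπ) ha
  refine ⟨A, fun x => ⟨hAπ x, fun hx => ?_⟩⟩
  have h1 : x ∈ K ⊔ A := hA2 ▸ (hM _).2 (hx.map (QuotientGroup.mk' K))
  obtain ⟨k, hk, a, ha, rfl⟩ := mem_sup_of_normal_left.1 h1
  have hc : Commute k a := h.mem_centralizer K hK (hAπ a ha) k hk
  have h2 : IsPiElt π k := by
    have := hx.mul (hAπ a ha).inv (hc.mul_left (Commute.refl a)).inv_right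
    rwa [mul_inv_cancel_right] at this
  rw [h2.eq_one (isPiElt_of_mem hK hk), one_mul]
  exact ha

theorem PiClosed.of_surjective [Finite G] {G' : Type*} [Group G'] (h : PiClosed π G) (f : G →* G')
    (hf : Function.Surjective f) : PiClosed π G' := by
  obtain ⟨K, hK⟩ := h
  refine ⟨K.map f, fun y => ⟨?_, fun hy => ?_⟩⟩
  · rintro ⟨x, hx, rfl⟩
    exact ((hK x).1 hx).map f
  · obtain ⟨x, rfl⟩ := hf y
    obtain ⟨a, ha, he⟩ := exists_isPiElt_lift f x hy
    exact ⟨_, (hK _).2 ha, he⟩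

theorem PiHomog.piClosed_of_extension [Finite G] (h : PiHomog π G) (K : Subgroup G) [K.Normal]
    (hK : PiClosed π K) (hQ : PiClosed π (G ⧸ K)) : PiClosed π G := by
  obtain ⟨L₀, hL₀⟩ := hK
  let L := L₀.map K.subtype
  have hL : ∀ x, x ∈ L ↔ x ∈ K ∧ IsPiElt π x := fun x =>
    ⟨by rintro ⟨y, hy, rfl⟩; exact ⟨y.2, (isPiElt_coe y).2 ((hL₀ y).1 hy)⟩,
      fun hx => ⟨⟨x, hx.1⟩, (hL₀ _).2 ((isPiElt_coe _).1 hx.2), rfl⟩⟩
  haveI : L.Normal := ⟨fun x hx g => (hL _).2
    ⟨‹K.Normal›.conj_mem x ((hL x).1 hx).1 g, ((hL x).1 hx).2.conj g⟩⟩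
  have hLπ := prime_mem_of_forall_isPiElt fun x (hx : x ∈ L) => ((hL x).1 hx).2
  refine piClosed_of_quotient_pi L hLπ ((h.quotient L hLπ).piClosed_of_quotient_pi'
    (K.map (QuotientGroup.mk' L)) ?_ ?_)
  · haveI := normal_of_iff_isPiElt hL₀
    intro q hq hd
    refine prime_not_mem_index (fun x hx => (hL₀ x).2 hx) q hq ?_
    rw [H1.card_map_mk'_eq_relIndex, relIndex] at hd
    rwa [show L.subgroupOf K = L₀ from comap_map_eq_self_of_injective K.subtype_injective L₀] at hd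
  · exact hQ.of_surjective
      (QuotientGroup.quotientQuotientEquivQuotient L K (map_subtype_le _)).symm.toMonoidHom
      (MulEquiv.surjective _)

theorem piClosed_of_card (h : H3.PiNum π (Nat.card G) ∨ H3.PiNum πᶜ (Nat.card G)) :
    PiClosed π G := by
  rcases h with h | h
  · exact ⟨⊤, fun x => ⟨fun _ q hq hd => h q hq (hd.trans (orderOf_dvd_natCard x)), fun _ => trivial⟩⟩
  · refine ⟨⊥, fun x => ⟨fun hx => (show x = 1 from hx) ▸ isPiElt_one π, fun hx => ?_⟩⟩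
    exact hx.eq_one fun q hq hd => h q hq (hd.trans (orderOf_dvd_natCard x))

universe u

theorem PiHomog.piClosed_of_separable_aux (n : ℕ) : ∀ (G : Type u) [Group G] [Finite G],
    Nat.card G = n → PiHomog π G → H3.IsPiSeparable π G → PiClosed π G := by
  induction n using Nat.strong_induction_on with
  | _ n ih =>
  intro G _ _ hn h hs
  rcases subsingleton_or_nontrivial G with h1 | h1
  · exact piClosed_of_card (Or.inl (by rw [Nat.card_of_subsingleton (1 : G)]; exact H3.piNum_one π))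
  obtain ⟨M, hMn, hM, -, hmax⟩ := H3.exists_maximal_normal_ge (⊥ : Subgroup G) bot_ne_top
  obtain ⟨L, hLn, hML, hL⟩ := hs M hMn hM
  have : L = ⊤ := (hmax L hLn hML.le).resolve_left hML.ne'
  subst this
  rw [relIndex_top_right] at hL
  exact h.piClosed_of_extension M (ih _ (hn ▸ H1.card_lt_of_ne_top hM) M rfl (h.subgroup M)
    (hs.subgroup M)) (piClosed_of_card hL)

theorem PiHomog.piClosed_of_separable [Finite G] (h : PiHomog π G) (hs : H3.IsPiSeparable π G) :
    PiClosed π G := PiHomog.piClosed_of_separable_aux _ G rfl h hs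

end H79
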