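import Mathlib
import Cfsg.Agent.S0713
import Cfsg.Agent.Lib.Invol.Count

/-! Permutation groups containing a cycle of prime length `p` of degree `p + 1`, `p + 2`. -/

set_option autoImplicit false
set_option linter.unusedSectionVars false
set_option linter.style.haveILetI false

namespace H80

open Equiv Equiv.Perm MulAction Subgroup

variable {α : Type*} [Fintype α] [DecidableEq α]

theorem exists_zpow_of_commute_cycle {g z : Perm α} (hgc : g.IsCycle) (hcomm : Commute z g) :
    ∃ m : ℤ, ∀ e ∈ g.support, z e = (g ^ m) e := by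
  obtain ⟨t, ht, hcyc⟩ := hgc
  have hzt : g (z t) ≠ z t := by
    intro h
    apply ht
    apply z.injective
    rw [← Perm.mul_apply, hcomm.eq, Perm.mul_apply, h]
  obtain ⟨m, hm⟩ := hcyc hzt
  refine ⟨m, fun e he => ?_⟩
  obtain ⟨r, hr⟩ := hcyc (mem_support.mp he)
  rw [← hr, ← Perm.mul_apply, (hcomm.zpow_right r).eq, Perm.mul_apply, ← hm, ← Perm.mul_apply,
    ← Perm.mul_apply, zpow_mul_comm]

theorem exists_zpow_apply_of_isCycle {g : Perm α} (hgc : g.IsCycle) {c e : α}
    (hc : c ∈ g.support) (he : e ∈ g.support) : ∃ j : ℤ, (g ^ j) c = e :=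
  hgc.exists_zpow_eq (mem_support.1 hc) (mem_support.1 he)

theorem dvd_card_of_invariant {q n : ℕ} [Fact q.Prime] {σ : Perm α} (hσ : σ ^ q ^ n = 1)
    (A : Finset α) (hA : ∀ e, σ e ∈ A ↔ e ∈ A) (hA' : ∀ e ∈ A, σ e ≠ e) : q ∣ A.card := by
  let τ : Perm {e // e ∈ A} := σ.subtypePerm hA
  have h1 : τ ^ q ^ n = 1 := by
    ext e
    simp [τ, Perm.subtypePerm_pow, hσ]
  have h2 : τ.support = Finset.univ := by
    rw [Finset.eq_univ_iff_forall]
    intro e
    rw [mem_support]
    intro h
    exact hA' e e.2 (congrArg Subtype.val h)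
  have h3 := card_compl_support_modEq h1
  rw [h2, Finset.compl_univ, Finset.card_empty, Fintype.card_coe] at h3
  exact (Nat.modEq_zero_iff_dvd).1 h3.symm

/-- A group acting on the support of a self-normalizing `p`-cycle and one more point. -/
theorem prime_eq_of_selfnormalizing_cycle (M : Subgroup (Perm α)) {p : ℕ} (hp : p.Prime)
    {g : Perm α} (hgc : g.IsCycle) (hgp : g.support.card = p) (hg : g ∈ M) {b : α}
    (hb : b ∉ g.support) (hfix : ∀ m ∈ M, ∀ e, e ∉ g.support → e ≠ b → m e = e)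
    (hmove : ∃ m ∈ M, m b ≠ b)
    (hN : ∀ m ∈ M, (∃ i : ℤ, m * g * m⁻¹ = g ^ i) → m ∈ zpowers g)
    {r s : ℕ} (hr : r.Prime) (hs : s.Prime) (hr' : r ∣ p + 1) (hs' : s ∣ p + 1) : r = s := by
  classical
  haveI := Fact.mk hp
  have hord : orderOf g = p := by rw [hgc.orderOf, hgp]
  let g' : M := ⟨g, hg⟩
  have hord' : orderOf g' = p := (Subgroup.orderOf_mk _ _).trans hord
  let P : Subgroup M := zpowers g'
  have hP : Nat.card P = p ^ 1 := by rw [Nat.card_zpowers, hord', pow_one]
  have hNP : normalizer (P : Set M) ≤ P := by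
    intro m hm
    obtain ⟨i, hi⟩ := mem_zpowers_iff.1 ((mem_normalizer_iff.1 hm g').1 (mem_zpowers g'))
    obtain ⟨j, hj⟩ := mem_zpowers_iff.1 (hN m m.2 ⟨i, by
      have := congrArg Subtype.val hi
      simpa using this.symm⟩)
    exact mem_zpowers_iff.2 ⟨j, Subtype.ext (by simpa using hj)⟩
  have hidx : ¬ p ∣ P.index := by
    intro h
    have h1 := Sylow.card_quotient_normalizer_modEq_card_quotient hP
    have h2 : P.comap (normalizer (P : Set M)).subtype = ⊤ := by
      rw [eq_top_iff]; intro m _; exact hNP m.2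
    rw [h2, ← Subgroup.index, index_top, ← Subgroup.index] at h1
    have := (Nat.ModEq.dvd_iff h1 (dvd_refl p)).2 h
    exact hp.one_lt.ne' (Nat.dvd_one.1 this)
  let Q : Sylow p M := (IsPGroup.of_card hP).toSylow hidx
  have hQ : (Q : Subgroup M) = P := rfl
  have hNC : normalizer ((Q : Subgroup M) : Set M) ≤ centralizer ((Q : Subgroup M) : Set M) := by
    rw [hQ]
    refine hNP.trans ?_
    exact le_centralizer P
  have hK := MonoidHom.ker_transferSylow_isComplement' Q hNC
  set K := (MonoidHom.transferSylow Q hNC).ker with hKdef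
  have hKn : K.Normal := MonoidHom.normal_ker _
  have hKc : ¬ p ∣ Nat.card K := by
    rw [← hK.index_eq_card, hQ]; exact hidx
  have hgb : ∀ j : ℤ, (g ^ j) b = b := fun j =>
    zpow_apply_eq_self_of_apply_eq_self (notMem_support.1 hb) j
  have hpres : ∀ m ∈ M, ∀ e, (e ∈ g.support ∨ e = b) → (m e ∈ g.support ∨ m e = b) := by
    intro m hm e he
    by_contra hc
    push Not at hc
    have h1 := m.injective (hfix m hm _ hc.1 hc.2)
    rw [h1] at hc
    rcases he with h | h
    · exact hc.1 h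
    · exact hc.2 h
  have hKb : ∀ k ∈ K, (k : Perm α) b = b → k = 1 := by
    intro k hk hkb
    by_contra hne
    obtain ⟨c, hc⟩ : ∃ c, (k : Perm α) c ≠ c := by
      by_contra h
      push Not at h
      exact hne (Subtype.ext (Equiv.ext h))
    have hcS : c ∈ g.support := by
      by_contra h
      by_cases h' : c = b
      · exact hc (h' ▸ hkb)
      · exact hc (hfix k k.2 c h h')
    have hkc : (k : Perm α) c ∈ g.support := by
      rcases hpres k k.2 c (Or.inl hcS) with h | h
      · exact h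
      · rw [← hkb] at h
        exact absurd ((k : Perm α).injective h ▸ hcS) hb
    obtain ⟨j, hj⟩ := exists_zpow_apply_of_isCycle hgc hcS hkc
    let L : Subgroup M := K ⊓ stabilizer M b
    have hne1 : g' ^ j ≠ 1 := by
      intro h
      have : g ^ j = 1 := by simpa using congrArg Subtype.val h
      rw [this] at hj
      exact hc hj.symm
    have hgen : g' ∈ Submonoid.powers (g' ^ j) := by
      have h1 : (⟨g', mem_zpowers g'⟩ : P) ∈ Submonoid.powers (⟨g' ^ j, zpow_mem (mem_zpowers g') j⟩ : P) :=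
        mem_powers_of_prime_card (p := p) (by rw [hP, pow_one]) (fun h => hne1 (congrArg Subtype.val h))
      obtain ⟨n, hn⟩ := h1
      exact ⟨n, by simpa using congrArg Subtype.val hn⟩
    have hkL : k ∈ L := mem_inf.2 ⟨hk, hkb⟩
    have hstep : ∀ e ∈ orbit L c, (g ^ j) e ∈ orbit L c := by
      rintro _ ⟨l, rfl⟩
      have hl : g' ^ j * l * (g' ^ j)⁻¹ ∈ L := by
        refine mem_inf.2 ⟨hKn.conj_mem _ l.2.1 _, ?_⟩
        have h1 : ((l : M) : Perm α) b = b := l.2.2
        show (((g' ^ j * l * (g' ^ j)⁻¹ : M) : Perm α)) b = b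
        have h2 : (g ^ j)⁻¹ b = b := by rw [← zpow_neg]; exact hgb _
        simp only [Subgroup.coe_mul, InvMemClass.coe_inv, SubgroupClass.coe_zpow, Perm.mul_apply, g']
        rw [h2, h1, hgb]
      refine ⟨⟨_, hl⟩ * ⟨k, hkL⟩, ?_⟩
      show (((g' ^ j * l * (g' ^ j)⁻¹ * k : M) : Perm α)) c = (g ^ j) (((l : M) : Perm α) c)
      simp only [Subgroup.coe_mul, InvMemClass.coe_inv, SubgroupClass.coe_zpow, Perm.mul_apply, g']
      rw [← hj]
      simp
    have hstep2 : ∀ n : ℕ, ∀ e ∈ orbit L c, ((g ^ j) ^ n) e ∈ orbit L c := by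
      intro n
      induction n with
      | zero => intro e he; simpa using he
      | succ n ih => intro e he; rw [pow_succ', Perm.mul_apply]; exact hstep _ (ih e he)
    have hstep3 : ∀ n : ℕ, (g ^ n) c ∈ orbit L c := by
      obtain ⟨n₀, hn₀⟩ := hgen
      have h0 : (g ^ j) ^ n₀ = g := by simpa [g'] using congrArg Subtype.val hn₀
      intro n
      rw [← h0, ← pow_mul]
      exact hstep2 _ _ (mem_orbit_self c)
    have horb : orbit L c = (g.support : Set α) := by
      apply Set.Subset.antisymm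
      · rintro _ ⟨l, rfl⟩
        rcases hpres ((l : M) : Perm α) (l : M).2 c (Or.inl hcS) with h | h
        · exact h
        · have h1 : ((l : M) : Perm α) b = b := l.2.2
          rw [← h1] at h
          exact absurd (((l : M) : Perm α).injective h ▸ hcS) hb
      · intro e he
        obtain ⟨n, hn⟩ := hgc.exists_pow_eq (mem_support.1 hcS) (mem_support.1 he)
        rw [← hn]; exact hstep3 n
    have h1 := index_stabilizer L c
    rw [horb, Set.ncard_coe_finset, hgp] at h1
    exact hKc ((h1 ▸ index_dvd_card _).trans (card_dvd_of_le inf_le_left))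
  have hKb' : ∀ k ∈ K, k ≠ 1 → (k : Perm α) b ∈ g.support := by
    intro k hk hne
    rcases hpres k k.2 b (Or.inr rfl) with h | h
    · exact h
    · exact absurd (hKb k hk h) hne
  have hconj : ∀ k ∈ K, k ≠ 1 → ∀ e ∈ g.support, ∃ j : ℤ,
      ((g' ^ j * k * (g' ^ j)⁻¹ : M) : Perm α) b = e := by
    intro k hk hne e he
    obtain ⟨j, hj⟩ := exists_zpow_apply_of_isCycle hgc (hKb' k hk hne) he
    refine ⟨j, ?_⟩
    have h2 : (g ^ j)⁻¹ b = b := by rw [← zpow_neg]; exact hgb _
    simp only [Subgroup.coe_mul, InvMemClass.coe_inv, SubgroupClass.coe_zpow, Perm.mul_apply, g']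
    rw [h2, hj]
  obtain ⟨k₀, hk₀, hk₀ne⟩ : ∃ k ∈ K, k ≠ 1 := by
    obtain ⟨m, hm, hmb⟩ := hmove
    obtain ⟨⟨k, y⟩, hky⟩ := hK.2 (⟨m, hm⟩ : M)
    refine ⟨k, k.2, fun h => hmb ?_⟩
    obtain ⟨j, hj⟩ := mem_zpowers_iff.1 (show (y : M) ∈ P from y.2)
    have h1 : (k : M) * (y : M) = ⟨m, hm⟩ := hky
    rw [h, one_mul, ← hj] at h1
    have h2 : g ^ j = m := by simpa [g'] using congrArg Subtype.val h1
    rw [← h2]; exact hgb j
  have hcardK : Nat.card K = p + 1 := by
    have h1 := index_stabilizer K b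
    have h2 : stabilizer K b = ⊥ := by
      rw [eq_bot_iff]
      intro k hk
      exact Subtype.ext (hKb k k.2 hk)
    have h3 : orbit K b = (insert b g.support : Finset α) := by
      apply Set.Subset.antisymm
      · rintro _ ⟨k, rfl⟩
        rcases hpres ((k : M) : Perm α) (k : M).2 b (Or.inr rfl) with h | h
        · exact Finset.mem_coe.2 (Finset.mem_insert_of_mem h)
        · exact Finset.mem_coe.2 (Finset.mem_insert.2 (Or.inl h))
      · intro e he
        rcases Finset.mem_insert.1 (Finset.mem_coe.1 he) with h | h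
        · rw [h]; exact mem_orbit_self b
        · obtain ⟨j, hj⟩ := hconj k₀ hk₀ hk₀ne e h
          exact ⟨⟨_, hKn.conj_mem _ hk₀ _⟩, hj⟩
    rw [h2, index_bot, h3, Set.ncard_coe_finset, Finset.card_insert_of_notMem hb, hgp] at h1
    exact h1
  haveI := Fact.mk hr
  haveI := Fact.mk hs
  obtain ⟨t, ht⟩ := exists_prime_orderOf_dvd_card' (G := K) r (hcardK ▸ hr')
  obtain ⟨u, hu⟩ := exists_prime_orderOf_dvd_card' (G := K) s (hcardK ▸ hs')
  have ht1 : (t : M) ≠ 1 := fun h => hr.one_lt.ne' (by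
    rw [← ht, show t = 1 from Subtype.ext h, orderOf_one])
  have hu1 : (u : M) ≠ 1 := fun h => hs.one_lt.ne' (by
    rw [← hu, show u = 1 from Subtype.ext h, orderOf_one])
  obtain ⟨j, hj⟩ := hconj t t.2 ht1 _ (hKb' u u.2 hu1)
  have h1 : (u : M)⁻¹ * (g' ^ j * t * (g' ^ j)⁻¹) = 1 := by
    apply hKb _ (K.mul_mem (K.inv_mem u.2) (hKn.conj_mem _ t.2 _))
    rw [Subgroup.coe_mul, Perm.mul_apply, hj]
    simp
  have h2 : (u : M) = g' ^ j * t * (g' ^ j)⁻¹ := inv_mul_eq_one.1 h1
  rw [← ht, ← hu, ← Subgroup.orderOf_coe t, ← Subgroup.orderOf_coe u, h2]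
  exact ((MulAut.conj (g' ^ j)).orderOf_eq (t : M)).symm

theorem apply_notMem_support_of_conj {g z : Perm α} {i : ℤ} (h : z * g * z⁻¹ = g ^ i)
    {p : ℕ} (hp : p.Prime) (hord : orderOf g = p) {e : α} (he : e ∉ g.support) :
    z e ∉ g.support := by
  have h1 : orderOf (g ^ i) = p := by
    rw [← h, ← hord]; exact (MulAut.conj z).orderOf_eq g
  have h2 : (g ^ i) (z e) = z e := by
    rw [← h]; simp [notMem_support.1 he]
  haveI := Fact.mk hp
  have h3 : (⟨g, mem_zpowers g⟩ : zpowers g) ∈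
      Submonoid.powers (⟨g ^ i, zpow_mem (mem_zpowers g) i⟩ : zpowers g) :=
    mem_powers_of_prime_card (p := p) (by rw [Nat.card_zpowers, hord]) (fun h' => by
      have : g ^ i = 1 := congrArg Subtype.val h'
      rw [this, orderOf_one] at h1
      exact hp.one_lt.ne h1)
  obtain ⟨n, hn⟩ := h3
  have h4 : (g ^ i) ^ n = g := by simpa using congrArg Subtype.val hn
  rw [notMem_support, ← h4]
  exact pow_apply_eq_self_of_apply_eq_self h2 n

theorem pow_conj_eq {G : Type*} [Group G] {g z : G} {i : ℤ} (h : z * g * z⁻¹ = g ^ i) (n : ℕ) :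
    z ^ n * g * (z ^ n)⁻¹ = g ^ (i ^ n) := by
  induction n with
  | zero => simp
  | succ n ih =>
    calc z ^ (n + 1) * g * (z ^ (n + 1))⁻¹ = z * (z ^ n * g * (z ^ n)⁻¹) * z⁻¹ := by
          rw [pow_succ']; group
      _ = (z * g * z⁻¹) ^ (i ^ n) := by rw [ih, conj_zpow]
      _ = g ^ (i ^ (n + 1)) := by rw [h, ← zpow_mul, pow_succ']

theorem zpow_eq_zpow_iff_zmod {G : Type*} [Group G] {g : G} {p : ℕ} (hord : orderOf g = p)
    (i j : ℤ) : g ^ i = g ^ j ↔ (i : ZMod p) = (j : ZMod p) := by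
  rw [zpow_eq_zpow_iff_modEq, hord, ZMod.intCast_eq_intCast_iff]

theorem sq_eq_one_iff_of_ne_zero_aux {F : Type*} [Field F] {a : F} (h : a ^ 2 = 1) :
    a = 1 ∨ a = -1 := by
  have : (a - 1) * (a + 1) = 0 := by ring_nf; rw [h]; ring
  rcases mul_eq_zero.1 this with h | h
  · exact Or.inl (sub_eq_zero.1 h)
  · exact Or.inr (eq_neg_of_add_eq_zero_left h)

/-- Degree `p + 2`: some element normalizes the `p`-cycle, neither centralizing nor inverting. -/
theorem exists_normalizing_ne (G : Subgroup (Perm α)) (hA : G ≤ alternatingGroup α)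
    (hG : IsPreprimitive G α) {p : ℕ} (hp : p.Prime) (hp2 : p ≠ 2)
    (hn : Fintype.card α = p + 2)
    {g : Perm α} (hgc : g.IsCycle) (hgp : g.support.card = p) (hg : g ∈ G)
    {r s : ℕ} (hr : r.Prime) (hs : s.Prime) (hr' : r ∣ p + 1) (hs' : s ∣ p + 1) (hrs : r ≠ s) :
    ∃ c : ℕ, c ∣ Nat.card G ∧ c ∣ p - 1 ∧ ¬ c ∣ 2 := by
  classical
  haveI := Fact.mk hp
  have hord : orderOf g = p := by rw [hgc.orderOf, hgp]
  obtain ⟨a, b, hab, hab'⟩ := Finset.card_eq_two.1
    (show (g.supportᶜ).card = 2 by rw [Finset.card_compl, hgp]; omega)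
  have hmem : ∀ e, e ∉ g.support ↔ e = a ∨ e = b := by
    intro e
    rw [← Finset.mem_compl, hab']; simp
  have ha : a ∉ g.support := (hmem a).2 (Or.inl rfl)
  have hb : b ∉ g.support := (hmem b).2 (Or.inr rfl)
  have hsw : ∀ e, e ∉ g.support → swap a b e ∉ g.support := by
    intro e he
    rw [swap_apply_def]
    split_ifs <;> assumption
  have hgfix : ∀ j : ℤ, ∀ e, e ∉ g.support → (g ^ j) e = e := fun j e he =>
    zpow_apply_eq_self_of_apply_eq_self (notMem_support.1 he) j
  have hnoswap : ∀ z ∈ G, (∀ e, e ∉ g.support → z e = swap a b e) → ¬ Commute z g := by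
    intro z hz hze hc
    obtain ⟨m, hm⟩ := exists_zpow_of_commute_cycle hgc hc
    have h1 : z = swap a b * g ^ m := by
      ext e
      by_cases he : e ∈ g.support
      · have h2 : (g ^ m) e ∈ g.support := by simpa using he
        rw [hm e he, Perm.mul_apply, swap_apply_of_ne_of_ne]
        · rintro h; exact ha (h ▸ h2)
        · rintro h; exact hb (h ▸ h2)
      · rw [hze e he, Perm.mul_apply, hgfix m e he]
    have h2 : swap a b ∈ alternatingGroup α := by
      have : swap a b = z * (g ^ m)⁻¹ := by rw [h1]; simp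
      rw [this]
      exact hA (G.mul_mem hz (G.inv_mem (G.zpow_mem hg m)))
    rw [mem_alternatingGroup, sign_swap hab] at h2
    exact absurd h2 (by decide)
  obtain ⟨x, hxG, hx, i, hi⟩ := Cfsg.Agent.S0713.exists_normalizing G hG hp (by omega) hgc hgp hg
    (swap a b) hsw
  obtain ⟨y, hyM, ⟨j, hj⟩, hy⟩ : ∃ y ∈ G ⊓ stabilizer (Perm α) a,
      (∃ i : ℤ, y * g * y⁻¹ = g ^ i) ∧ y ∉ zpowers g := by
    by_contra hc
    push Not at hc
    apply hrs
    refine prime_eq_of_selfnormalizing_cycle (G ⊓ stabilizer (Perm α) a) hp hgc hgp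
      (mem_inf.2 ⟨hg, notMem_support.1 ha⟩) hb ?_ ?_
      hc hr hs hr' hs'
    · intro m hm e he heb
      rcases (hmem e).1 he with h | h
      · rw [h]; exact hm.2
      · exact absurd h heb
    · have hT := Cfsg.Agent.S0713.multTrans G hG hp (by omega) hgc hgp hg
      obtain ⟨c, hcS⟩ := hgc.nonempty_support
      have := hp.two_le
      obtain ⟨m, hm1, hm2⟩ := H27.exists_fix_and_move hT
        (by rw [Nat.card_eq_fintype_card]; omega) {a} (by rw [Finset.card_singleton]; omega)
        (c := b) (d := c)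
        (by simpa using hab.symm) (by rw [Finset.mem_singleton]; intro h; exact ha (h ▸ hcS))
      refine ⟨m, mem_inf.2 ⟨m.2, hm1 a (by simp)⟩, ?_⟩
      have : (m : Perm α) b = c := hm2
      rw [this]; intro h; exact hb (h ▸ hcS)
  have hya : y a = a := hyM.2
  have hyb : y b = b := by
    rcases (hmem _).1 (apply_notMem_support_of_conj hj hp hord hb) with h | h
    · rw [← hya] at h; exact absurd (y.injective h) hab.symm
    · exact h
  have hyfix : ∀ e, e ∉ g.support → y e = e := by
    intro e he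
    rcases (hmem e).1 he with h | h <;> rw [h] <;> assumption
  have hyc : ¬ Commute y g := by
    intro hc
    obtain ⟨m, hm⟩ := exists_zpow_of_commute_cycle hgc hc
    refine hy ⟨m, ?_⟩
    ext e
    by_cases he : e ∈ g.support
    · exact (hm e he).symm
    · rw [hyfix e he]; exact hgfix m e he
  have key : ∀ z ∈ G, ∀ i : ℤ, z * g * z⁻¹ = g ^ i → ¬ Commute z g →
      z * g * z⁻¹ = g⁻¹ ∨ ∃ c : ℕ, c ∣ Nat.card G ∧ c ∣ p - 1 ∧ ¬ c ∣ 2 := by
    intro z hz i hi hc
    by_cases h2 : orderOf (i : ZMod p) ∣ 2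
    · left
      have h3 : (i : ZMod p) ^ 2 = 1 := orderOf_dvd_iff_pow_eq_one.1 h2
      rcases sq_eq_one_iff_of_ne_zero_aux h3 with h | h
      · exfalso
        apply hc
        have : g ^ i = g ^ (1 : ℤ) := (zpow_eq_zpow_iff_zmod hord _ _).2 (by simpa using h)
        rw [this, zpow_one, mul_inv_eq_iff_eq_mul] at hi
        exact hi
      · have : g ^ i = g ^ (-1 : ℤ) := (zpow_eq_zpow_iff_zmod hord _ _).2 (by simpa using h)
        rw [hi, this, zpow_neg_one]
    · right
      have h3 : (i : ZMod p) ^ (Nat.card G) = 1 := by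
        have h4 := pow_conj_eq hi (Nat.card G)
        have h5 : z ^ Nat.card G = 1 := by
          have := pow_card_eq_one' (G := G) (x := ⟨z, hz⟩)
          exact congrArg Subtype.val this
        rw [h5, one_mul, inv_one, mul_one] at h4
        have h6 := (zpow_eq_zpow_iff_zmod hord 1 (i ^ Nat.card G)).1 (by rw [zpow_one]; exact h4)
        simpa using h6.symm
      refine ⟨orderOf (i : ZMod p), orderOf_dvd_iff_pow_eq_one.2 h3, ?_, h2⟩
      apply ZMod.orderOf_dvd_card_sub_one
      intro h0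
      rw [h0, zero_pow Nat.card_pos.ne'] at h3
      exact zero_ne_one h3
  rcases key x hxG i hi (hnoswap x hxG hx) with h1 | h1
  swap; · exact h1
  rcases key y hyM.1 j hj hyc with h2 | h2
  swap; · exact h2
  exfalso
  refine hnoswap (x * y) (G.mul_mem hxG hyM.1) (fun e he => ?_) ?_
  · rw [Perm.mul_apply, hyfix e he, hx e he]
  · have : (x * y) * g * (x * y)⁻¹ = g := by
      calc (x * y) * g * (x * y)⁻¹ = x * (y * g * y⁻¹) * x⁻¹ := by group
        _ = (x * g * x⁻¹)⁻¹ := by rw [h2]; group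
        _ = g := by rw [h1, inv_inv]
    rw [mul_inv_eq_iff_eq_mul] at this
    exact this

end H80
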