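import Mathlib
import Cfsg.Agent.Lib.FGS.PrimeCyc

/-! Primitive groups of degree 7 (13) with a 5-cycle (11-cycle); subgroups of `A₆`. -/

set_option autoImplicit false
set_option linter.unusedSectionVars false
set_option linter.style.haveILetI false

namespace H80

open Equiv Equiv.Perm MulAction Subgroup

variable {α : Type*} [Fintype α] [DecidableEq α]

theorem descFactorial_dvd_card (G : Subgroup (Perm α)) {k : ℕ}
    (h : IsMultiplyPretransitive G α k) (hk : k ≤ Fintype.card α) :
    (Fintype.card α).choose k * k.factorial ∣ Nat.card G := by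
  obtain ⟨s, -, hs⟩ := Finset.exists_subset_card_eq (s := (Finset.univ : Finset α)) (n := k)
    (by simpa using hk)
  have h1 : (s : Set α).ncard = k := by rw [Set.ncard_coe_finset, hs]
  have := IsMultiplyPretransitive.index_of_fixingSubgroup_eq (G := G) (s : Set α) (h1 ▸ h)
  rw [h1, Nat.card_eq_fintype_card] at this
  rw [← this]
  exact index_dvd_card _

theorem card_alt_eq (n : ℕ) (hn : Fintype.card α = n + 2) :
    2 * Nat.card (alternatingGroup α) = (n + 2).factorial := by
  haveI : Nontrivial α := Fintype.one_lt_card_iff_nontrivial.1 (by omega)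
  rw [two_mul_nat_card_alternatingGroup, Nat.card_perm, Nat.card_eq_fintype_card, hn]

theorem alt_le_or_dvd_factorial (G : Subgroup (Perm α)) (h5 : 5 ≤ Fintype.card α) :
    alternatingGroup α ≤ G ∨ Nat.card (alternatingGroup α) ∣
      (G.subgroupOf (alternatingGroup α)).index.factorial := by
  by_cases h : G.subgroupOf (alternatingGroup α) = ⊤
  · exact Or.inl (subgroupOf_eq_top.1 h)
  · haveI := alternatingGroup.isSimpleGroup (α := α) (by rwa [Nat.card_eq_fintype_card])
    exact Or.inr (H9.card_dvd_factorial_index_of_simple h)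

theorem alt_le_of_degree_seven (G : Subgroup (Perm α)) (hA : G ≤ alternatingGroup α)
    (hG : IsPreprimitive G α) (hn : Fintype.card α = 7)
    {g : Perm α} (hgc : g.IsCycle) (hgp : g.support.card = 5) (hg : g ∈ G) :
    alternatingGroup α ≤ G := by
  obtain ⟨c, hc1, hc2, hc3⟩ := exists_normalizing_ne G hA hG (p := 5) (by norm_num) (by norm_num)
    hn hgc hgp hg (r := 2) (s := 3) (by norm_num) (by norm_num) (by norm_num) (by norm_num)
    (by norm_num)
  have hc : c = 4 := by
    have : c ≤ 4 := Nat.le_of_dvd (by norm_num) hc2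
    interval_cases c <;> simp_all
  have hT := Cfsg.Agent.S0713.multTrans G hG (p := 5) (by norm_num) (by omega) hgc hgp hg
  have h1 := descFactorial_dvd_card G hT (by omega)
  rw [hn] at h1
  have h2 : 210 ∣ Nat.card G := by simpa [Nat.choose, Nat.factorial] using h1
  have h3 : 420 ∣ Nat.card G := by
    rw [hc] at hc1; omega
  have h4 := card_alt_eq (α := α) 5 hn
  have h5 : Nat.card (alternatingGroup α) = 2520 := by
    simp only [Nat.factorial] at h4; omega
  rcases alt_le_or_dvd_factorial G (by omega) with h | h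
  · exact h
  · exfalso
    have h6 := (G.subgroupOf (alternatingGroup α)).index_mul_card
    rw [Nat.card_congr (subgroupOfEquivOfLe hA).toEquiv, h5] at h6
    obtain ⟨k, hk⟩ := h3
    rw [hk] at h6
    set n := (G.subgroupOf (alternatingGroup α)).index
    have h7 : n * k = 6 := by nlinarith
    have h8 : n ≤ 6 := Nat.le_of_dvd (by norm_num) ⟨k, h7.symm⟩
    have h9 := Nat.le_of_dvd (Nat.factorial_pos _) h
    have h10 := Nat.factorial_le h8
    rw [h5] at h9
    simp only [Nat.factorial] at h10
    omega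

theorem card_support_of_orderOf_prime {σ : Perm α} {p : ℕ} (hp : p.Prime) (h : orderOf σ = p) :
    (σ.IsCycle ∧ σ.support.card = p) ∨ ∃ k, 2 ≤ k ∧ σ.support.card = k * p := by
  obtain ⟨n, hn⟩ := cycleType_prime_order (h ▸ hp)
  have h1 := sum_cycleType σ
  rw [hn, h, Multiset.sum_replicate, smul_eq_mul] at h1
  rcases Nat.eq_zero_or_pos n with h0 | h0
  · left
    refine ⟨card_cycleType_eq_one.1 (by rw [hn, h0]; simp), ?_⟩
    rw [← h1, h0]; simp
  · exact Or.inr ⟨n + 1, by omega, h1.symm⟩

theorem alt_le_of_degree_thirteen (G : Subgroup (Perm α)) (hA : G ≤ alternatingGroup α)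
    (hG : IsPreprimitive G α) (hn : Fintype.card α = 13)
    {g : Perm α} (hgc : g.IsCycle) (hgp : g.support.card = 11) (hg : g ∈ G) :
    alternatingGroup α ≤ G := by
  classical
  obtain ⟨c, hc1, hc2, hc3⟩ := exists_normalizing_ne G hA hG (p := 11) (by norm_num) (by norm_num)
    hn hgc hgp hg (r := 2) (s := 3) (by norm_num) (by norm_num) (by norm_num) (by norm_num)
    (by norm_num)
  have hc : 5 ∣ c := by
    have : c ≤ 10 := Nat.le_of_dvd (by norm_num) hc2
    interval_cases c <;> simp_all
  have hT := Cfsg.Agent.S0713.multTrans G hG (p := 11) (by norm_num) (by omega) hgc hgp hg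
  rw [hn] at hT
  haveI : Fact (Nat.Prime 5) := ⟨by norm_num⟩
  haveI : Fact (Nat.Prime 3) := ⟨by norm_num⟩
  by_contra hcon
  have h10 : ∀ r ∈ G, orderOf r = 5 → r.support.card = 10 := by
    intro r hr h5
    rcases card_support_of_orderOf_prime (by norm_num) h5 with ⟨h1, h2⟩ | ⟨k, hk, hk'⟩
    · exact absurd (Cfsg.Agent.S0713.result G hG (p := 5) (by norm_num) (by omega) (by omega)
        h1 h2 hr) hcon
    · have := Finset.card_le_univ r.support
      omega
  obtain ⟨r', hr'⟩ := exists_prime_orderOf_dvd_card' (G := G) 5 (hc.trans hc1)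
  have hrG : (r' : Perm α) ∈ G := r'.2
  have hr5 : orderOf (r' : Perm α) = 5 := by rw [Subgroup.orderOf_coe, hr']
  generalize (r' : Perm α) = r at hrG hr5
  have hrs := h10 r hrG hr5
  obtain ⟨a, b, d, hab, had, hbd, hT'⟩ := Finset.card_eq_three.1
    (show (r.supportᶜ).card = 3 by rw [Finset.card_compl, hrs]; omega)
  have hmem : ∀ e, e ∉ r.support ↔ e = a ∨ e = b ∨ e = d := by
    intro e
    rw [← Finset.mem_compl, hT']; simp
  let w : Perm α := swap a d * swap a b
  have hwa : w a = b := by simp [w, swap_apply_of_ne_of_ne hab.symm hbd]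
  have hwb : w b = d := by simp [w]
  have hwd : w d = a := by simp [w, swap_apply_of_ne_of_ne had.symm hbd.symm]
  obtain ⟨x, hx⟩ := H27.exists_smul_eq_of_injOn hT (by rw [Nat.card_eq_fintype_card]; omega)
    r.supportᶜ (by rw [Finset.card_compl, hrs]; omega) w w.injective.injOn
  have hx' : ∀ e, e ∉ r.support → (x : Perm α) e = w e := fun e he => hx e (by simpa using he)
  have hxa := hx' a ((hmem a).2 (by simp))
  have hxb := hx' b ((hmem b).2 (by simp))
  have hxd := hx' d ((hmem d).2 (by simp))
  rw [hwa] at hxa; rw [hwb] at hxb; rw [hwd] at hxd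
  let H : Subgroup (Perm α) := G ⊓ Cfsg.Agent.S0713.suppIn r.support
  have hH : ¬ 5 ^ 2 ∣ Nat.card H := by
    intro h
    obtain ⟨R, hR⟩ := Sylow.exists_subgroup_card_pow_prime 5 h
    obtain ⟨e, he⟩ : r.support.Nonempty := Finset.card_pos.1 (by omega)
    have h1 := index_stabilizer R e
    have h2 : (orbit R e).ncard ≤ 13 := by
      rw [← hn, ← Nat.card_eq_fintype_card, ← Set.ncard_univ]
      exact Set.ncard_le_ncard (Set.subset_univ _)
    have h3 := (stabilizer R e).index_mul_card
    rw [hR] at h3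
    have h4 : 5 ∣ Nat.card (stabilizer R e) := by
      have h5 : Nat.card (stabilizer R e) ∣ 5 ^ 2 := ⟨_, by rw [← h3, mul_comm]⟩
      obtain ⟨i, hi, hi'⟩ := (Nat.dvd_prime_pow (by norm_num)).1 h5
      rcases i with _ | i
      · rw [hi'] at h3; omega
      · rw [hi']; exact dvd_pow_self 5 (by omega)
    obtain ⟨u, hu⟩ := exists_prime_orderOf_dvd_card' (G := stabilizer R e) 5 h4
    have hu5 : orderOf (((u : R) : H) : Perm α) = 5 := by
      rw [Subgroup.orderOf_coe, Subgroup.orderOf_coe, Subgroup.orderOf_coe, hu]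
    have h5 := h10 _ ((u : R) : H).2.1 hu5
    have h6 : (((u : R) : H) : Perm α).support ⊆ r.support.erase e := by
      intro y hy
      refine Finset.mem_erase.2 ⟨?_, ((u : R) : H).2.2 hy⟩
      rintro rfl
      exact mem_support.1 hy u.2
    have := Finset.card_le_card h6
    rw [Finset.card_erase_of_mem he] at this
    omega
  have hconj : ((x : Perm α) * r * (x : Perm α)⁻¹).support ⊆ r.support := by
    intro y hy
    by_contra hc
    apply mem_support.1 hy
    have : ∀ e, e ∉ r.support → ((x : Perm α) * r * (x : Perm α)⁻¹) ((x : Perm α) e) = x.1 e := by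
      intro e he
      simp [notMem_support.1 he]
    rcases (hmem y).1 hc with h | h | h
    · rw [h, ← hxd]; exact this _ ((hmem _).2 (by simp))
    · rw [h, ← hxa]; exact this _ ((hmem _).2 (by simp))
    · rw [h, ← hxb]; exact this _ ((hmem _).2 (by simp))
  obtain ⟨h, hh⟩ := H27.exists_conj_mem_zpowers (H := H) (p := 5) (by norm_num) hH
    (g := ⟨r, hrG, Finset.Subset.refl _⟩)
    (g' := ⟨(x : Perm α) * r * (x : Perm α)⁻¹,
      G.mul_mem (G.mul_mem x.2 hrG) (G.inv_mem x.2), hconj⟩)
    ((Subgroup.orderOf_mk _ _).trans hr5)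
    (by
      refine (Subgroup.orderOf_mk _ _).trans ?_
      rw [← hr5]
      exact (MulAut.conj (x : Perm α)).orderOf_eq r)
  obtain ⟨i, hi⟩ := hh
  have hhfix : ∀ e, e ∉ r.support → (h : Perm α) e = e := by
    intro e he
    by_contra hc
    exact he (h.2.2 (mem_support.2 hc))
  obtain ⟨z, hzG, hza, hzb, hzd, hz⟩ : ∃ z ∈ G, z a = b ∧ z b = d ∧ z d = a ∧
      z * r * z⁻¹ = r ^ i := by
    refine ⟨(h : Perm α) * x, G.mul_mem h.2.1 x.2, ?_, ?_, ?_, ?_⟩
    · rw [Perm.mul_apply, hxa, hhfix _ ((hmem _).2 (by simp))]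
    · rw [Perm.mul_apply, hxb, hhfix _ ((hmem _).2 (by simp))]
    · rw [Perm.mul_apply, hxd, hhfix _ ((hmem _).2 (by simp))]
    · have := congrArg Subtype.val hi
      simp only [SubgroupClass.coe_zpow, Subgroup.coe_mul, InvMemClass.coe_inv] at this
      rw [this]
      group
  have hi0 : (i : ZMod 5) ≠ 0 := by
    intro h0
    have h1 : r ^ i = r ^ (0 : ℤ) := (zpow_eq_zpow_iff_zmod hr5 _ _).2 (by simpa using h0)
    rw [h1, zpow_zero, conj_eq_one_iff] at hz
    rw [hz, orderOf_one] at hr5
    omega
  have hz4 : Commute (z ^ 4) r := by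
    have h1 := pow_conj_eq hz 4
    have h2 : r ^ (i ^ 4) = r ^ (1 : ℤ) := (zpow_eq_zpow_iff_zmod hr5 _ _).2 (by
      push_cast
      exact ZMod.pow_card_sub_one_eq_one hi0)
    rw [h2, zpow_one, mul_inv_eq_iff_eq_mul] at h1
    exact h1
  have hz3 : ∀ n : ℕ, (z ^ n) a = a → 3 ∣ n := by
    have h3 : (z ^ 3) a = a := by
      simp only [pow_succ', pow_zero, mul_one, Perm.mul_apply, hza, hzb, hzd]
    intro n hna
    have h4 : (z ^ (3 * (n / 3))) a = a := by
      rw [pow_mul]; exact pow_apply_eq_self_of_apply_eq_self h3 _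
    rw [← Nat.mod_add_div n 3, pow_add, Perm.mul_apply, h4] at hna
    have h5 : n % 3 < 3 := Nat.mod_lt _ (by norm_num)
    by_contra hc
    have h6 : n % 3 = 1 ∨ n % 3 = 2 := by omega
    rcases h6 with h6 | h6
    · rw [h6, pow_one, hza] at hna; exact hab hna.symm
    · rw [h6, pow_two, Perm.mul_apply, hza, hzb] at hna; exact had hna.symm
  obtain ⟨k, m, hm, hkm⟩ := Nat.exists_eq_pow_mul_and_not_dvd (orderOf_pos (z ^ 4)).ne' 3
    (by norm_num)
  set u := (z ^ 4) ^ m with hu
  have hu3 : u ^ 3 ^ k = 1 := by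
    rw [hu, ← pow_mul, mul_comm, ← hkm, pow_orderOf_eq_one]
  have huc : Commute u r := hz4.pow_left m
  have hua : u a ≠ a := by
    intro h
    rw [hu, ← pow_mul] at h
    have := hz3 _ h
    omega
  have huG : u ∈ G := G.pow_mem (G.pow_mem hzG _) _
  have hA5 : 5 ∣ (u.support ∩ r.support).card := by
    refine dvd_card_of_invariant (σ := r) (n := 1) (by rw [pow_one, ← hr5, pow_orderOf_eq_one]) _
      (fun e => ?_) (fun e he => mem_support.1 (Finset.mem_inter.1 he).2)
    rw [Finset.mem_inter, Finset.mem_inter, apply_mem_support,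
      mem_support_iff_of_commute huc.symm]
  have hA3 : 3 ∣ (u.support ∩ r.support).card := by
    refine dvd_card_of_invariant (σ := u) hu3 _
      (fun e => ?_) (fun e he => mem_support.1 (Finset.mem_inter.1 he).1)
    rw [Finset.mem_inter, Finset.mem_inter, apply_mem_support,
      mem_support_iff_of_commute huc]
  have hA0 : (u.support ∩ r.support).card = 0 := by
    have := Finset.card_le_card (Finset.inter_subset_right (s₁ := u.support) (s₂ := r.support))
    omega
  have hU3 : 3 ∣ u.support.card :=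
    dvd_card_of_invariant (σ := u) hu3 _ (fun e => apply_mem_support)
      (fun e he => mem_support.1 he)
  have hUle : u.support.card ≤ 3 := by
    have h1 : u.support ⊆ r.supportᶜ := by
      intro e he
      rw [Finset.mem_compl]
      intro he'
      rw [Finset.card_eq_zero] at hA0
      exact Finset.notMem_empty e (hA0 ▸ Finset.mem_inter.2 ⟨he, he'⟩)
    have := Finset.card_le_card h1
    rw [Finset.card_compl, hrs] at this
    omega
  have hUpos : 0 < u.support.card := Finset.card_pos.2 ⟨a, mem_support.2 hua⟩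
  exact hcon (alternatingGroup_le_of_isPreprimitive_of_isThreeCycle_mem hG
    (card_support_eq_three_iff.1 (by omega)) huG)

end H80
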