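import Mathlib
import Cfsg.Agent.Lib.FGS.PrimeCyc2

/-! Groups generated by two elements of large prime orders in a symmetric group. -/

set_option autoImplicit false
set_option linter.unusedSectionVars false
set_option linter.style.haveILetI false

namespace H80

open Equiv Equiv.Perm MulAction Subgroup

variable {α : Type*} [Fintype α] [DecidableEq α]

theorem le_range_ofSubtype (S : Finset α) (G : Subgroup (Perm α))
    (h : ∀ g ∈ G, g.support ⊆ S) :
    G ≤ (Perm.ofSubtype : Perm {x // x ∈ S} →* Perm α).range := by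
  intro x hx
  have hx' : x.support ⊆ S := h x hx
  have h1 : ∀ a, x a ∈ S ↔ a ∈ S := by
    intro a
    by_cases h : a ∈ x.support
    · exact ⟨fun _ => hx' h, fun _ => hx' (by simpa using h)⟩
    · rw [notMem_support.mp h]
  refine ⟨x.subtypePerm h1, ?_⟩
  exact ofSubtype_subtypePerm h1 (fun a ha => hx' (mem_support.mpr ha))

theorem comap_ofSubtype_le_alt (S : Finset α) (G : Subgroup (Perm α))
    (hA : G ≤ alternatingGroup α) :
    G.comap (Perm.ofSubtype : Perm {x // x ∈ S} →* Perm α) ≤ alternatingGroup _ := by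
  intro x hx
  have := hA hx
  rw [mem_alternatingGroup, sign_ofSubtype] at this
  exact mem_alternatingGroup.2 this

theorem nonempty_equiv_comap (S : Finset α) (G : Subgroup (Perm α))
    (h : ∀ g ∈ G, g.support ⊆ S) :
    Nonempty (G ≃* G.comap (Perm.ofSubtype : Perm {x // x ∈ S} →* Perm α)) :=
  ⟨(MulEquiv.subgroupCongr (map_comap_eq_self (le_range_ofSubtype S G h)).symm).trans
    (Subgroup.equivMapOfInjective _ _ Perm.ofSubtype_injective).symm⟩

theorem nonempty_equiv_alt (S : Finset α) (G : Subgroup (Perm α))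
    (hA : G ≤ alternatingGroup α) (h : ∀ g ∈ G, g.support ⊆ S)
    (h' : alternatingGroup _ ≤ G.comap (Perm.ofSubtype : Perm {x // x ∈ S} →* Perm α)) :
    Nonempty (G ≃* alternatingGroup (Fin S.card)) := by
  obtain ⟨e⟩ := nonempty_equiv_comap S G h
  have e' : {x // x ∈ S} ≃ Fin S.card := Fintype.equivFinOfCardEq (by simp)
  exact ⟨(e.trans (MulEquiv.subgroupCongr
    (le_antisymm (comap_ofSubtype_le_alt S G hA) h'))).trans e'.altCongrHom⟩

theorem isPretransitive_of_two (G : Subgroup (Perm α)) {p q : ℕ} (hp : p.Prime)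
    {x y : Perm α} (hx : x ∈ G) (hy : y ∈ G) (hxp : orderOf x = p) (hyc : y.IsCycle)
    (hyq : y.support.card = q) (hpq : Fintype.card α < p + q)
    (hS : ∀ e, e ∈ x.support ∨ e ∈ y.support) : IsPretransitive G α := by
  classical
  obtain ⟨c, hc⟩ := hyc.nonempty_support
  have h1 : ∀ e ∈ y.support, e ∈ orbit G c := by
    intro e he
    obtain ⟨j, hj⟩ := exists_zpow_apply_of_isCycle hyc hc he
    exact ⟨⟨y ^ j, G.zpow_mem hy j⟩, hj⟩
  have h2 : ∀ e, e ∈ orbit G c := by
    intro e
    rcases hS e with he | he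
    swap; · exact h1 e he
    have h3 : (x.cycleOf e).support.card = p := by
      have h4 := (isCycle_cycleOf x (mem_support.1 he)).orderOf
      have h5 := orderOf_cycleOf_dvd_orderOf x e
      rw [h4, hxp] at h5
      rcases (Nat.dvd_prime hp).1 h5 with h | h
      · have := (isCycle_cycleOf x (mem_support.1 he)).two_le_card_support
        omega
      · exact h
    have h4 : ¬ Disjoint (x.cycleOf e).support y.support := by
      intro h
      have := Finset.card_le_univ ((x.cycleOf e).support ∪ y.support)
      rw [Finset.card_union_of_disjoint h] at this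
      omega
    obtain ⟨f, hf1, hf2⟩ := Finset.not_disjoint_iff.1 h4
    obtain ⟨j, hj⟩ := (mem_support_cycleOf_iff.1 hf1).1.symm
    obtain ⟨g, hg⟩ := h1 f hf2
    refine ⟨⟨x ^ j, G.zpow_mem hx j⟩ * g, ?_⟩
    have hg' : (g : Perm α) c = f := hg
    show (x ^ j * (g : Perm α)) c = e
    rw [Perm.mul_apply, hg', hj]
  refine ⟨fun a b => ?_⟩
  obtain ⟨g, hg⟩ := h2 a
  obtain ⟨g', hg'⟩ := h2 b
  refine ⟨g' * g⁻¹, ?_⟩
  rw [← hg, ← hg']
  simp [mul_smul]

theorem isPreprimitive_of_cycle (G : Subgroup (Perm α)) [IsPretransitive G α] {q : ℕ}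
    (hq : q.Prime) {y : Perm α} (hy : y ∈ G) (hyc : y.IsCycle)
    (hyq : y.support.card = q) (hq2 : Fintype.card α < 2 * q) : IsPreprimitive G α := by
  classical
  have h1 := isPretransitive_of_isCycle_mem hyc hy
  have hcard : Nat.card (SubMulAction.ofFixingSubgroup G ((y.support : Set α)ᶜ)) = q := by
    rw [Nat.card_eq_fintype_card, Fintype.card_subtype, ← hyq]
    apply congr_arg
    ext x
    simp [SubMulAction.mem_ofFixingSubgroup_iff]
  have h2 : IsPreprimitive (fixingSubgroup G ((y.support : Set α)ᶜ))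
      (SubMulAction.ofFixingSubgroup G ((y.support : Set α)ᶜ)) :=
    IsPreprimitive.of_prime_card (hcard ▸ hq)
  refine IsPreprimitive.of_card_lt
    (f := SubMulAction.ofFixingSubgroup_equivariantMap G ((y.support : Set α)ᶜ)) ?_
  rw [Set.ncard_range_of_injective SubMulAction.ofFixingSubgroup_equivariantMap_injective, hcard,
    Nat.card_eq_fintype_card]
  exact hq2

theorem alt_le_of_two (G : Subgroup (Perm α)) (hA : G ≤ alternatingGroup α) {p q : ℕ}
    (hp : p.Prime) (hq : q.Prime) (hpq : p < q) (hn : Fintype.card α ≤ 2 * p) (h5 : 5 ≤ q)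
    {x y : Perm α} (hx : x ∈ G) (hy : y ∈ G) (hxp : orderOf x = p) (hyq : orderOf y = q)
    (hS : ∀ e, e ∈ x.support ∨ e ∈ y.support)
    (hgood : p + 3 ≤ q ∨ p = 3 ∨ (p = 5 ∧ q = 7) ∨ (p = 11 ∧ q = 13))
    (hdouble : x.support.card = 2 * p → q + 3 ≤ 2 * p) : alternatingGroup α ≤ G := by
  have hx1 := Finset.card_le_univ x.support
  have hy1 := Finset.card_le_univ y.support
  obtain ⟨hyc, hyq'⟩ : y.IsCycle ∧ y.support.card = q := by
    rcases card_support_of_orderOf_prime hq hyq with h | ⟨k, hk, hk'⟩
    · exact h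
    · nlinarith
  haveI := isPretransitive_of_two G hp hx hy hxp hyc hyq' (by omega) hS
  have hG := isPreprimitive_of_cycle G hq hy hyc hyq' (by omega)
  rcases card_support_of_orderOf_prime hp hxp with ⟨hxc, hxp'⟩ | ⟨k, hk, hk'⟩
  · by_cases h3 : p + 3 ≤ Fintype.card α
    · exact Cfsg.Agent.S0713.result G hG hp (by omega) h3 hxc hxp' hx
    rcases hgood with h | h | ⟨h, h'⟩ | ⟨h, h'⟩
    · omega
    · exact alternatingGroup_le_of_isPreprimitive_of_isThreeCycle_mem hG
        (card_support_eq_three_iff.1 (by omega)) hx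
    · exact alt_le_of_degree_seven G hA hG (by omega) hxc (by omega) hx
    · exact alt_le_of_degree_thirteen G hA hG (by omega) hxc (by omega) hx
  · have h2 : x.support.card = 2 * p := by
      have := hp.pos
      have : k ≤ 2 := by nlinarith
      rw [hk', show k = 2 by omega]
    exact Cfsg.Agent.S0713.result G hG hq (by omega) (by have := hdouble h2; omega) hyc hyq' hy

theorem closure_equiv_alt_of_two {p q : ℕ}
    (hp : p.Prime) (hq : q.Prime) (hpq : p < q) (hn : Fintype.card α ≤ 2 * p) (h5 : 5 ≤ q)
    {x y : Perm α} (hx : x ∈ alternatingGroup α) (hy : y ∈ alternatingGroup α)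
    (hxp : orderOf x = p) (hyq : orderOf y = q)
    (hgood : p + 3 ≤ q ∨ p = 3 ∨ (p = 5 ∧ q = 7) ∨ (p = 11 ∧ q = 13))
    (hdouble : x.support.card = 2 * p → q + 3 ≤ 2 * p) :
    ∃ d, 5 ≤ d ∧ Nonempty (closure ({x, y} : Set (Perm α)) ≃* alternatingGroup (Fin d)) := by
  classical
  set S := x.support ∪ y.support with hSdef
  set G := closure ({x, y} : Set (Perm α)) with hG
  have hA : G ≤ alternatingGroup α := by
    rw [hG, closure_le]; rintro _ (rfl | rfl) <;> assumption
  have hS : ∀ g ∈ G, g.support ⊆ S := by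
    have : G ≤ Cfsg.Agent.S0713.suppIn S := by
      rw [hG, closure_le]
      rintro _ (rfl | rfl)
      · exact Finset.subset_union_left
      · exact Finset.subset_union_right
    exact this
  have hxG : x ∈ G := subset_closure (by simp)
  have hyG : y ∈ G := subset_closure (by simp)
  obtain ⟨x', hx'⟩ := le_range_ofSubtype S G hS hxG
  obtain ⟨y', hy'⟩ := le_range_ofSubtype S G hS hyG
  have hqS : q ≤ S.card := by
    have h1 : y.support.card ≤ S.card := Finset.card_le_card Finset.subset_union_right
    rcases card_support_of_orderOf_prime hq hyq with h | ⟨k, hk, hk'⟩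
    · omega
    · nlinarith
  refine ⟨S.card, by omega, nonempty_equiv_alt S G hA hS ?_⟩
  refine alt_le_of_two _ (comap_ofSubtype_le_alt S G hA) hp hq hpq ?_ h5 (x := x') (y := y')
    (by rw [mem_comap, hx']; exact hxG) (by rw [mem_comap, hy']; exact hyG) ?_ ?_ ?_ hgood ?_
  · rw [Fintype.card_coe]; exact (Finset.card_le_univ S).trans hn
  · rw [← hxp, ← hx', orderOf_injective _ Perm.ofSubtype_injective]
  · rw [← hyq, ← hy', orderOf_injective _ Perm.ofSubtype_injective]
  · rintro ⟨e, he⟩
    rcases Finset.mem_union.1 he with h | h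
    · rw [← hx', mem_support_ofSubtype] at h
      exact Or.inl (by simpa using h.2)
    · rw [← hy', mem_support_ofSubtype] at h
      exact Or.inr (by simpa using h.2)
  · intro h
    apply hdouble
    rw [← hx', support_ofSubtype, Finset.card_map]
    convert h

theorem nonempty_equiv_alt_five_of_index_six (hn : Fintype.card α = 6)
    (H : Subgroup (alternatingGroup α)) (hH : H.index = 6) :
    Nonempty (H ≃* alternatingGroup (Fin 5)) := by
  classical
  haveI := alternatingGroup.isSimpleGroup (α := α) (by rw [Nat.card_eq_fintype_card]; omega)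
  have hc : Nat.card (alternatingGroup α) = 360 := by
    have h4 := card_alt_eq (α := α) 4 hn
    simp only [Nat.factorial] at h4; omega
  have hne : H ≠ ⊤ := by rintro rfl; simp at hH
  let X := alternatingGroup α ⧸ H
  haveI : Fintype X := Fintype.ofFinite _
  have hX : Fintype.card X = 6 := by rw [← Nat.card_eq_fintype_card]; exact hH
  let φ := toPermHom (alternatingGroup α) X
  have hφ : Function.Injective φ := H9.toPermHom_injective_of_simple hne
  have hsign : ∀ g, φ g ∈ alternatingGroup X := by
    rcases IsSimpleGroup.eq_bot_or_eq_top_of_normal ((alternatingGroup X).comap φ)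
      inferInstance with h | h
    · exfalso
      have h1 := (alternatingGroup X).index_comap φ
      rw [h, index_bot, hc] at h1
      have h2 := relIndex_dvd_index_of_normal (alternatingGroup X) φ.range
      haveI : Nontrivial X := Fintype.one_lt_card_iff_nontrivial.1 (by omega)
      rw [← h1, alternatingGroup.index_eq_two] at h2
      omega
    · intro g
      exact (h ▸ mem_top g : g ∈ (alternatingGroup X).comap φ)
  let x₀ : X := ((1 : alternatingGroup α) : X)
  let S : Finset X := {x₀}ᶜ
  have hS : S.card = 5 := by simp [S, Finset.card_compl, hX]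
  have hA : H.map φ ≤ alternatingGroup X := by
    rintro _ ⟨g, -, rfl⟩; exact hsign g
  have hsupp : ∀ g ∈ H.map φ, g.support ⊆ S := by
    rintro _ ⟨g, hg, rfl⟩ e he
    simp only [S, Finset.mem_compl, Finset.mem_singleton]
    rintro rfl
    apply mem_support.1 he
    have : g ∈ stabilizer (alternatingGroup α) x₀ := by
      rw [MulAction.stabilizer_quotient]; exact hg
    exact this
  obtain ⟨e⟩ := nonempty_equiv_comap S _ hsupp
  have e0 := Subgroup.equivMapOfInjective H φ hφ
  have h60 : Nat.card H = 60 := by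
    have := H.index_mul_card
    rw [hH, hc] at this; omega
  have h60' : Nat.card (alternatingGroup {x // x ∈ S}) = 60 := by
    have h4 := card_alt_eq (α := {x // x ∈ S}) 3 (by rw [Fintype.card_coe, hS])
    simp only [Nat.factorial] at h4; omega
  obtain ⟨e'⟩ := nonempty_equiv_alt S _ hA hsupp (by
    refine (eq_of_le_of_card_ge (comap_ofSubtype_le_alt S _ hA) ?_).ge
    rw [h60', ← Nat.card_congr e.toEquiv, ← Nat.card_congr e0.toEquiv, h60])
  rw [hS] at e'
  exact ⟨e0.trans e'⟩

theorem closure_equiv_alt_of_six (hn : Fintype.card α = 6)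
    {x y : Perm α} (hx : x ∈ alternatingGroup α) (hy : y ∈ alternatingGroup α)
    (hxp : orderOf x = 3) (hyq : orderOf y = 5) :
    ∃ d, 5 ≤ d ∧ Nonempty (closure ({x, y} : Set (Perm α)) ≃* alternatingGroup (Fin d)) := by
  classical
  by_cases hd : x.support.card = 6
  swap
  · exact closure_equiv_alt_of_two (p := 3) (q := 5) (by norm_num) (by norm_num) (by norm_num)
      (by omega) le_rfl hx hy hxp hyq (by simp) (fun h => absurd h hd)
  set G := closure ({x, y} : Set (Perm α)) with hG
  have hA : G ≤ alternatingGroup α := by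
    rw [hG, closure_le]; rintro _ (rfl | rfl) <;> assumption
  have hxG : x ∈ G := subset_closure (by simp)
  have hyG : y ∈ G := subset_closure (by simp)
  have hxu : x.support = Finset.univ := Finset.eq_univ_of_card _ (by omega)
  have hy1 := Finset.card_le_univ y.support
  obtain ⟨hyc, hyq'⟩ : y.IsCycle ∧ y.support.card = 5 := by
    rcases card_support_of_orderOf_prime (by norm_num) hyq with h | ⟨k, hk, hk'⟩
    · exact h
    · omega
  haveI := isPretransitive_of_two G (p := 3) (by norm_num) hxG hyG hxp hyc hyq' (by omega)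
    (fun e => Or.inl (hxu ▸ Finset.mem_univ e))
  have hc : Nat.card (alternatingGroup α) = 360 := by
    have h4 := card_alt_eq (α := α) 4 hn
    simp only [Nat.factorial] at h4; omega
  rcases alt_le_or_dvd_factorial G (by omega) with h | h
  · have e' : α ≃ Fin 6 := Fintype.equivFinOfCardEq hn
    exact ⟨6, by norm_num, ⟨(MulEquiv.subgroupCongr (le_antisymm hA h)).trans e'.altCongrHom⟩⟩
  obtain ⟨b, hb⟩ := Finset.card_eq_one.1
    (show (y.supportᶜ).card = 1 by rw [Finset.card_compl, hyq']; omega)
  have hmem : ∀ e, e ∉ y.support ↔ e = b := by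
    intro e
    rw [← Finset.mem_compl, hb]; simp
  have hb' : b ∉ y.support := (hmem b).2 rfl
  have hst : (stabilizer G b).index = 6 := by
    rw [index_stabilizer_of_transitive, Nat.card_eq_fintype_card, hn]
  have hyst : zpowers (⟨y, hyG⟩ : G) ≤ stabilizer G b := by
    rw [zpowers_le]; exact notMem_support.1 hb'
  have hzc : Nat.card (zpowers (⟨y, hyG⟩ : G)) = 5 := by
    rw [Nat.card_zpowers, Subgroup.orderOf_mk, hyq]
  obtain ⟨k, hk⟩ : 5 ∣ Nat.card (stabilizer G b) := hzc ▸ card_dvd_of_le hyst
  have h1 := (stabilizer G b).index_mul_card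
  have h6 := (G.subgroupOf (alternatingGroup α)).index_mul_card
  rw [Nat.card_congr (subgroupOfEquivOfLe hA).toEquiv, hc, ← h1, hst, hk] at h6
  set n := (G.subgroupOf (alternatingGroup α)).index with hn'
  have h7 : n * k = 12 := by nlinarith
  have h8 : 6 ≤ n := by
    by_contra hlt
    have h9 := Nat.le_of_dvd (Nat.factorial_pos _) h
    have h10 := Nat.factorial_le (show n ≤ 5 by omega)
    rw [hc] at h9
    simp only [Nat.factorial] at h10
    omega
  have h9 : n = 6 ∨ k = 1 := by
    have : k ≤ 2 := by nlinarith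
    interval_cases k <;> omega
  rcases h9 with h9 | h9
  · obtain ⟨e⟩ := nonempty_equiv_alt_five_of_index_six hn _ (hn' ▸ h9)
    exact ⟨5, le_rfl, ⟨(subgroupOfEquivOfLe hA).symm.trans e⟩⟩
  · exfalso
    have h10 : zpowers (⟨y, hyG⟩ : G) = stabilizer G b :=
      eq_of_le_of_card_ge hyst (by rw [hk, hzc, h9])
    have := prime_eq_of_selfnormalizing_cycle G (p := 5) (by norm_num) hyc hyq' hyG hb'
      (fun m _ e he heb => absurd ((hmem e).1 he) heb)
      ⟨x, hxG, mem_support.1 (hxu ▸ Finset.mem_univ b)⟩ (fun m hm ⟨i, hi⟩ => by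
        have h11 := (hmem _).1 (apply_notMem_support_of_conj hi (by norm_num) hyq hb')
        have h12 : (⟨m, hm⟩ : G) ∈ stabilizer G b := h11
        rw [← h10] at h12
        obtain ⟨j, hj⟩ := mem_zpowers_iff.1 h12
        exact mem_zpowers_iff.2 ⟨j, by simpa using congrArg Subtype.val hj⟩)
      (r := 2) (s := 3) (by norm_num) (by norm_num) (by norm_num) (by norm_num)
    omega

end H80
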