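import Cfsg.Agent.Base
import Cfsg.Agent.Lib.Core.GrpBasic
import Cfsg.Agent.Lib.Transfer.NormalComplement

/-! Pronormal subgroups. -/

namespace H77

open Subgroup Cfsg
open scoped Pointwise

variable {G : Type*} [Group G] {G' : Type*} [Group G']

/-- `H` and `g H g⁻¹` are conjugate in the subgroup they generate. -/
def ConjIn (H : Subgroup G) (g : G) : Prop :=
  ∃ x ∈ H ⊔ MulAut.conj g • H, x⁻¹ * g ∈ normalizer (H : Set G)

theorem conj_smul_eq_iff {H : Subgroup G} {g x : G} :
    MulAut.conj g • H = MulAut.conj x • H ↔ x⁻¹ * g ∈ normalizer (H : Set G) := by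
  rw [H1.mem_normalizer_iff_conj_smul_eq, ← H1.conj_smul_conj_smul]
  constructor
  · intro h; rw [h, H1.conj_inv_smul_conj_smul]
  · intro h
    have := congrArg (fun K => MulAut.conj x • K) h
    simpa only [H1.conj_smul_conj_inv_smul] using this

theorem conjIn_iff {H : Subgroup G} {g : G} : ConjIn H g ↔
    ∃ x ∈ H ⊔ H.map (MulAut.conj g).toMonoidHom,
      H.map (MulAut.conj g).toMonoidHom = H.map (MulAut.conj x).toMonoidHom := by
  simp only [ConjIn, ← H1.conj_smul_eq_map, conj_smul_eq_iff]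

theorem isPronormal_iff {H : Subgroup G} : IsPronormal H ↔ ∀ g, ConjIn H g := by
  simp only [conjIn_iff]; rfl

theorem conj_smul_le_of_mem {H K : Subgroup G} {x : G} (hx : x ∈ K) (h : H ≤ K) :
    MulAut.conj x • H ≤ K := by
  intro y hy
  rw [H1.mem_conj_smul_iff] at hy
  have := K.mul_mem (K.mul_mem hx (h hy)) (K.inv_mem hx)
  simpa [mul_assoc] using this

theorem conj_smul_mono {H K : Subgroup G} (x : G) (h : H ≤ K) :
    MulAut.conj x • H ≤ MulAut.conj x • K := fun _ hy =>
  H1.mem_conj_smul_iff.mpr (h (H1.mem_conj_smul_iff.mp hy))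

theorem ConjIn.of_mul {H : Subgroup G} {g x : G} (hx : x ∈ H ⊔ MulAut.conj g • H)
    (h : ConjIn H (x⁻¹ * g)) : ConjIn H g := by
  obtain ⟨w, hw, h⟩ := h
  refine ⟨x * w, mul_mem hx ?_, by simpa [mul_assoc] using h⟩
  refine (sup_le le_sup_left ?_ : _ ≤ H ⊔ MulAut.conj g • H) hw
  rw [← H1.conj_smul_conj_smul]
  exact conj_smul_le_of_mem (inv_mem hx) le_sup_right

theorem ConjIn.mul_normalizer {H : Subgroup G} {g n : G} (h : ConjIn H g)
    (hn : n ∈ normalizer (H : Set G)) : ConjIn H (g * n) := by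
  obtain ⟨w, hw, h⟩ := h
  refine ⟨w, ?_, by rw [← mul_assoc]; exact mul_mem h hn⟩
  rwa [← H1.conj_smul_conj_smul, H1.mem_normalizer_iff_conj_smul_eq.mp hn]

theorem conjIn_of_mem_normalizer {H : Subgroup G} {n : G} (hn : n ∈ normalizer (H : Set G)) :
    ConjIn H n := ⟨1, one_mem _, by simpa using hn⟩

theorem ConjIn.map {H : Subgroup G} {g : G} (h : ConjIn H g) (f : G →* G') :
    ConjIn (H.map f) (f g) := by
  obtain ⟨w, hw, h⟩ := h
  refine ⟨f w, ?_, ?_⟩
  · rw [← H1.map_conj_smul, ← Subgroup.map_sup]; exact mem_map_of_mem f hw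
  · rw [← map_inv, ← map_mul, H1.mem_normalizer_iff_conj_smul_eq, ← H1.map_conj_smul,
      H1.mem_normalizer_iff_conj_smul_eq.mp h]

theorem ConjIn.exists_lift {H : Subgroup G} {g : G} {f : G →* G'} (h : ConjIn (H.map f) (f g)) :
    ∃ x ∈ H ⊔ MulAut.conj g • H, f (x⁻¹ * g) ∈ normalizer ((H.map f : Subgroup G') : Set G') := by
  obtain ⟨w, hw, h⟩ := h
  rw [← H1.map_conj_smul, ← Subgroup.map_sup] at hw
  obtain ⟨x, hx, rfl⟩ := hw
  exact ⟨x, hx, by rwa [map_mul, map_inv]⟩

theorem mem_normalizer_of_map {H : Subgroup G} {g : G} {f : G →* G'} (hk : f.ker ≤ H)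
    (h : f g ∈ normalizer ((H.map f : Subgroup G') : Set G')) : g ∈ normalizer (H : Set G) := by
  rw [H1.mem_normalizer_iff_conj_smul_eq] at h ⊢
  have := congrArg (Subgroup.comap f) h
  rwa [H1.comap_conj_smul, comap_map_eq_self hk] at this

theorem ConjIn.of_map {H : Subgroup G} {g : G} {f : G →* G'} (hk : f.ker ≤ H)
    (h : ConjIn (H.map f) (f g)) : ConjIn H g := by
  obtain ⟨x, hx, h⟩ := h.exists_lift
  exact ⟨x, hx, mem_normalizer_of_map hk h⟩

theorem isPronormal_subgroupOf_iff {H A : Subgroup G} (h : H ≤ A) :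
    IsPronormal (H.subgroupOf A) ↔ ∀ g ∈ A, ConjIn H g := by
  rw [isPronormal_iff]
  constructor
  · intro h1 g hg
    have := (h1 ⟨g, hg⟩).map A.subtype
    rwa [map_subgroupOf_eq_of_le h] at this
  · intro h1 g
    refine ConjIn.of_map (f := A.subtype) (by simp) ?_
    rw [map_subgroupOf_eq_of_le h]
    exact h1 g g.2

theorem ConjIn.conj {H : Subgroup G} {g : G} (h : ConjIn H g) (a : G) :
    ConjIn (MulAut.conj a • H) (a * g * a⁻¹) := by
  have := h.map (MulAut.conj a).toMonoidHom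
  rwa [← H1.conj_smul_eq_map] at this

theorem isPronormal_conj {H : Subgroup G} (h : IsPronormal H) (a : G) :
    IsPronormal (MulAut.conj a • H) := by
  rw [isPronormal_iff] at h ⊢
  intro g
  simpa [mul_assoc] using (h (a⁻¹ * g * a)).conj a

theorem isPronormal_of_normalizer {S H : Subgroup G} (hSH : S ≤ H) (hS : IsPronormal S)
    (h : ∀ g ∈ normalizer (S : Set G), ConjIn H g) : IsPronormal H := by
  rw [isPronormal_iff] at hS ⊢
  intro g
  obtain ⟨x, hx, h1⟩ := hS g
  exact ConjIn.of_mul (sup_le_sup hSH (conj_smul_mono g hSH) hx) (h _ h1)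

variable [Finite G] {p : ℕ} [hp : Fact p.Prime]

theorem isPronormal_sylow (P : Sylow p G) : IsPronormal (P : Subgroup G) := by
  rw [isPronormal_iff]
  intro g
  obtain ⟨k, hk, h⟩ := H4.exists_mem_normalizer_sylow_of_le_normalizer P (g := g)
    (K := (P : Subgroup G) ⊔ MulAut.conj g • (P : Subgroup G)) le_sup_left le_sup_right
  exact ⟨k⁻¹, inv_mem hk, by simpa using h⟩

/-- Conjugacy of two `p`-subgroups of the order of a Sylow subgroup of `K`. -/
theorem exists_conj_eq_of_not_dvd_relIndex {K T : Subgroup G} (hT : IsPGroup p T)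
    (hi : ¬ p ∣ T.relIndex K) {a : G} (ha : MulAut.conj a • T ≤ K) :
    ∃ k ∈ K, k⁻¹ * a ∈ normalizer (T : Set G) := by
  obtain ⟨k, hk, h⟩ := H4.exists_conj_le_of_not_dvd_relIndex hT hi (H4.isPGroup_conj_smul hT a) ha
  refine ⟨k⁻¹, inv_mem hk, ?_⟩
  rw [inv_inv, H1.mem_normalizer_iff_conj_smul_eq]
  apply eq_of_le_of_card_ge _ (H1.card_conj_smul _ _).ge
  intro y hy
  rw [← H1.conj_smul_conj_smul, H1.mem_conj_smul_iff] at hy
  simpa [mul_assoc] using h _ hy

theorem pronormal_extension (A : Subgroup G) [A.Normal]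
    (hA : ∀ K : Subgroup A, (∃ P : Sylow p A, (P : Subgroup A) ≤ K) → IsPronormal K)
    (hQ : ∀ K : Subgroup (G ⧸ A), (∃ P : Sylow p (G ⧸ A), (P : Subgroup (G ⧸ A)) ≤ K) →
      IsPronormal K)
    (T : Subgroup G) (hT : ∃ P : Sylow p A, (P : Subgroup A).map A.subtype = T)
    [(T.subgroupOf (normalizer (T : Set G))).Normal]
    (h1 : ∀ K : Subgroup (normalizer (T : Set G) ⧸ T.subgroupOf (normalizer (T : Set G))),
      (∃ P : Sylow p (normalizer (T : Set G) ⧸ T.subgroupOf (normalizer (T : Set G))),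
        (P : Subgroup _) ≤ K) → IsPronormal K)
    (h2 : ∀ K : Subgroup G, (∃ P : Sylow p G, (P : Subgroup G) ≤ K) →
      normalizer ((K.map (QuotientGroup.mk' A) : Subgroup (G ⧸ A)) : Set (G ⧸ A)) ≤
        (normalizer (K : Set G)).map (QuotientGroup.mk' A))
    (H : Subgroup G) (hH : ∃ P : Sylow p G, (P : Subgroup G) ≤ H) : IsPronormal H := by
  obtain ⟨T₀, hT₀⟩ := hT
  have hTA : T ≤ A := hT₀ ▸ map_subtype_le _
  have hTp : IsPGroup p T := hT₀ ▸ T₀.isPGroup'.map _
  have hTi : ¬ p ∣ T.relIndex A := by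
    rw [← hT₀, relIndex, ← comap_subtype, comap_map_eq_self_of_injective A.subtype_injective]
    exact T₀.not_dvd_index
  -- reduce to `T ≤ P ≤ H`
  obtain ⟨P', hP'⟩ := hH
  obtain ⟨c, hc⟩ := H4.exists_conj_smul_le_sylow P' hTp
  suffices hs : IsPronormal (MulAut.conj c⁻¹ • H) by
    simpa only [H1.conj_smul_conj_inv_smul] using isPronormal_conj hs c
  have hP : ((c⁻¹ • P' : Sylow p G) : Subgroup G) ≤ MulAut.conj c⁻¹ • H := conj_smul_mono _ hP'
  have hTP : T ≤ ((c⁻¹ • P' : Sylow p G) : Subgroup G) := by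
    have := conj_smul_mono c⁻¹ hc
    rwa [H1.conj_inv_smul_conj_smul] at this
  generalize MulAut.conj c⁻¹ • H = H at hP
  generalize c⁻¹ • P' = P at hP hTP
  clear hc hP' P' c
  have hPT : (P : Subgroup G) ⊓ A = T := by
    have h3 : ((P : Subgroup G).subgroupOf A) = T₀ := by
      apply T₀.is_maximal' (H4.isPGroup_subgroupOf P.isPGroup' A)
      intro x hx
      exact hTP (hT₀ ▸ mem_map_of_mem _ hx)
    rw [← hT₀, ← h3, subgroupOf_map_subtype]
  have hPN : (P : Subgroup G) ≤ normalizer (T : Set G) := by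
    rw [← hPT]
    exact le_trans (le_inf le_normalizer (by rw [normalizer_eq_top]; exact le_top))
      inf_normalizer_le_normalizer_inf
  set N := normalizer (T : Set G) with hN
  set H₀ := H ⊓ A with hH₀
  have hTH₀ : T ≤ H₀ := le_inf (hTP.trans hP) hTA
  have hTi₀ : ¬ p ∣ T.relIndex H₀ := by
    intro hd
    have : ¬ p ∣ (P : Subgroup G).relIndex H := H4.not_dvd_relIndex_sylow P hP
    apply this
    have h3 : T.relIndex H₀ = (P : Subgroup G).relIndex H₀ := by
      rw [← hPT, ← inf_relIndex_right, ← inf_relIndex_right (P : Subgroup G)]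
      congr 1
      rw [hH₀, inf_assoc, inf_comm A, inf_assoc H, inf_idem]
    rw [h3] at hd
    refine hd.trans ?_
    have h4 := H4.relIndex_dvd_index_of_normal_right ((P : Subgroup G).subgroupOf H)
      (A.subgroupOf H)
    rwa [← inf_subgroupOf_left A, relIndex_subgroupOf inf_le_left] at h4
  have hHH₀ : H ≤ normalizer (H₀ : Set G) :=
    le_trans (le_inf le_normalizer (by rw [normalizer_eq_top]; exact le_top))
      inf_normalizer_le_normalizer_inf
  -- step 4: elements of `N_A(T)` normalising `H₀`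
  have step4 : ∀ a ∈ N, a ∈ normalizer (H₀ : Set G) → ConjIn H a := by
    intro a ha haH
    set L := H ⊓ N with hL
    have h3 : ConjIn L a := by
      have h4 := h1 ((L.subgroupOf N).map (QuotientGroup.mk' _))
        ⟨(P.subtype hPN).mapSurjective (QuotientGroup.mk'_surjective _),
          map_mono (fun x hx => ⟨hP hx, x.2⟩)⟩
      rw [isPronormal_iff] at h4
      have h5 := ConjIn.of_map (by
        rw [QuotientGroup.ker_mk']
        exact fun x hx => ⟨(hTP.trans hP) hx, x.2⟩) (h4 (QuotientGroup.mk' _ ⟨a, ha⟩))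
      have := h5.map N.subtype
      rwa [map_subgroupOf_eq_of_le inf_le_right] at this
    obtain ⟨z, hz, h4⟩ := h3
    refine ⟨z, sup_le_sup inf_le_left (conj_smul_mono a inf_le_left) hz, ?_⟩
    have hz₀ : z ∈ normalizer (H₀ : Set G) :=
      (sup_le (inf_le_left.trans hHH₀) (conj_smul_le_of_mem haH (inf_le_left.trans hHH₀))) hz
    have h5 : H = H₀ ⊔ L := by
      apply le_antisymm _ (sup_le inf_le_left inf_le_left)
      intro h hh
      obtain ⟨k, hk, h6⟩ := exists_conj_eq_of_not_dvd_relIndex hTp hTi₀ (a := h)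
        ((conj_smul_mono h hTH₀).trans (H1.mem_normalizer_iff_conj_smul_eq.mp (hHH₀ hh)).le)
      have h7 : k⁻¹ * h ∈ L := mem_inf.mpr ⟨H.mul_mem (H.inv_mem hk.1) hh, h6⟩
      have := mul_mem_sup hk h7
      simpa using this
    rw [h5]
    exact normalizer_inf_normalizer_le_normalizer_sup _ _
      (mem_inf.mpr ⟨mul_mem (inv_mem hz₀) haH, h4⟩)
  have step3 : ∀ a, a ∈ normalizer (H₀ : Set G) → ConjIn H a := by
    intro a haH
    obtain ⟨k, hk, h6⟩ := exists_conj_eq_of_not_dvd_relIndex hTp hTi₀ (a := a)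
      ((conj_smul_mono a hTH₀).trans (H1.mem_normalizer_iff_conj_smul_eq.mp haH).le)
    exact ConjIn.of_mul (mem_sup_left hk.1)
      (step4 _ h6 (mul_mem (inv_mem (le_normalizer hk)) haH))
  have step2 : ∀ a ∈ A, ConjIn H a := by
    intro a ha
    have h3 := hA (H₀.subgroupOf A) ⟨T₀, fun x hx => hTH₀ (hT₀ ▸ mem_map_of_mem _ hx)⟩
    obtain ⟨y, hy, h4⟩ := (isPronormal_subgroupOf_iff inf_le_right).mp h3 a ha
    exact ConjIn.of_mul (sup_le_sup inf_le_left (conj_smul_mono a inf_le_left) hy) (step3 _ h4)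
  rw [isPronormal_iff]
  intro g
  have h3 := hQ (H.map (QuotientGroup.mk' A))
    ⟨P.mapSurjective (QuotientGroup.mk'_surjective _), map_mono hP⟩
  obtain ⟨x, hx, h4⟩ := (isPronormal_iff.mp h3 (QuotientGroup.mk' A g)).exists_lift
  obtain ⟨n, hn, h5⟩ := h2 H ⟨P, hP⟩ h4
  refine ConjIn.of_mul hx ?_
  have h6 : x⁻¹ * g * n⁻¹ ∈ A := by
    rw [← QuotientGroup.ker_mk' A, MonoidHom.mem_ker, map_mul, ← h5, map_inv, mul_inv_cancel]
  simpa using (step2 _ h6).mul_normalizer hn

theorem pronormal_normalizer_quotient (A : Subgroup G) [A.Normal]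
    (T : Subgroup G) (hT : ∃ P : Sylow p A, (P : Subgroup A).map A.subtype = T)
    [(T.subgroupOf (normalizer (T : Set G))).Normal]
    (h : ∀ K : Subgroup G, (∃ P : Sylow p G, (P : Subgroup G) ≤ K) → IsPronormal K)
    (K : Subgroup (normalizer (T : Set G) ⧸ T.subgroupOf (normalizer (T : Set G))))
    (hK : ∃ P : Sylow p (normalizer (T : Set G) ⧸ T.subgroupOf (normalizer (T : Set G))),
        (P : Subgroup _) ≤ K) : IsPronormal K := by
  obtain ⟨T₀, hT₀⟩ := hT
  obtain ⟨Q, hQ⟩ := hK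
  set N := normalizer (T : Set G) with hN
  have hTp : IsPGroup p T := hT₀ ▸ T₀.isPGroup'.map _
  have hsurj := QuotientGroup.mk'_surjective (T.subgroupOf N)
  have hNi : ¬ p ∣ N.index := by
    obtain ⟨P, hP⟩ := hTp.exists_le_sylow
    have hPT : (P : Subgroup G) ⊓ A = T := by
      have h3 : ((P : Subgroup G).subgroupOf A) = T₀ := by
        apply T₀.is_maximal' (H4.isPGroup_subgroupOf P.isPGroup' A)
        intro x hx
        exact hP (hT₀ ▸ mem_map_of_mem _ hx)
      rw [← hT₀, ← h3, subgroupOf_map_subtype]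
    have hPN : (P : Subgroup G) ≤ N := by
      rw [hN, ← hPT]
      exact le_trans (le_inf le_normalizer (by rw [normalizer_eq_top]; exact le_top))
        inf_normalizer_le_normalizer_inf
    exact fun hd => P.not_dvd_index (hd.trans (index_dvd_of_le hPN))
  let R : Subgroup N := (Q : Subgroup _).comap (QuotientGroup.mk' (T.subgroupOf N))
  have hRp : IsPGroup p R := Q.isPGroup'.comap_of_ker_isPGroup _ (by
    rw [QuotientGroup.ker_mk']; exact H4.isPGroup_subgroupOf hTp N)
  have hRi : ¬ p ∣ (R.map N.subtype).index := by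
    rw [index_map_of_injective _ N.subtype_injective, range_subtype, hp.out.dvd_mul,
      index_comap_of_surjective _ hsurj]
    rintro (h1 | h1)
    · exact Q.not_dvd_index h1
    · exact hNi h1
  have h1 := h ((K.comap (QuotientGroup.mk' (T.subgroupOf N))).map N.subtype)
    ⟨(hRp.map _).toSylow hRi, map_mono (comap_mono hQ)⟩
  rw [isPronormal_iff] at h1 ⊢
  intro g
  obtain ⟨g, rfl⟩ := hsurj g
  have h2 := (ConjIn.of_map (f := N.subtype) (by simp) (h1 g)).map
    (QuotientGroup.mk' (T.subgroupOf N))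
  rwa [map_comap_eq_self_of_surjective hsurj] at h2

omit [Finite G] in
theorem map_normalizer_eq_of_isPronormal (A : Subgroup G) [A.Normal] {K : Subgroup G}
    (hK : IsPronormal K) : (normalizer (K : Set G)).map (QuotientGroup.mk' A) =
      normalizer ((K.map (QuotientGroup.mk' A) : Subgroup (G ⧸ A)) : Set (G ⧸ A)) := by
  apply le_antisymm (le_normalizer_map _)
  intro g hg
  obtain ⟨g, rfl⟩ := QuotientGroup.mk'_surjective A g
  obtain ⟨x, hx, h⟩ := isPronormal_iff.mp hK g
  have h1 : QuotientGroup.mk' A x ∈ K.map (QuotientGroup.mk' A) := by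
    have := mem_map_of_mem (QuotientGroup.mk' A) hx
    rwa [Subgroup.map_sup, H1.map_conj_smul, H1.mem_normalizer_iff_conj_smul_eq.mp hg,
      sup_idem] at this
  have h2 := mul_mem (map_mono le_normalizer h1) (mem_map_of_mem (QuotientGroup.mk' A) h)
  rwa [← map_mul, mul_inv_cancel_left] at h2

end H77
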