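import Mathlib
import Cfsg.Agent.Base
import Cfsg.Agent.Lib.FGS.Real
import Cfsg.Agent.Lib.Core.Coprime

/-! Groups without real elements of odd order (helper79). -/

set_option autoImplicit false

namespace H79

open Subgroup Cfsg
open scoped Pointwise commutatorElement

variable {G : Type*} [Group G]

theorem mem_normalizer_zpowers_of_conj_mem [Finite G] {g x : G} (h : g * x * g⁻¹ ∈ zpowers x) :
    g ∈ normalizer ((zpowers x : Subgroup G) : Set G) := by
  apply Subgroup.mem_normalizer_fintype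
  rintro _ ⟨k, rfl⟩
  simp only [← conj_zpow]
  exact zpow_mem h k

/-- Reality of an element lifts over a normal subgroup of coprime order. -/
theorem exists_inverts_of_quotient [Finite G] (N : Subgroup G) [N.Normal] {x : G}
    (hcop : (orderOf x).Coprime (Nat.card N)) (h : IsConj (x : G ⧸ N) (x : G ⧸ N)⁻¹) :
    ∃ g : G, g * x * g⁻¹ = x⁻¹ := by
  obtain ⟨g, hg⟩ := isConj_iff.1 h
  have hc : (Nat.card (zpowers x)).Coprime (Nat.card N) := by rwa [Nat.card_zpowers]
  have h1 : g ∈ normalizer ((zpowers (x : G ⧸ N) : Subgroup (G ⧸ N)) : Set (G ⧸ N)) :=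
    mem_normalizer_zpowers_of_conj_mem (hg ▸ inv_mem (mem_zpowers _))
  have h2 := H2.map_mk'_normalizer hc (Or.inl (H2.isSolvable_zpowers x))
  rw [MonoidHom.map_zpowers, QuotientGroup.mk'_apply] at h2
  rw [← h2] at h1
  obtain ⟨a, ha, rfl⟩ := h1
  refine ⟨a, ?_⟩
  rw [eq_inv_iff_mul_eq_one]
  refine H2.eq_one_of_mem_of_coprime hc
    (mul_mem ((mem_normalizer_iff.1 ha x).1 (mem_zpowers x)) (mem_zpowers x)) ?_
  rw [← QuotientGroup.eq_one_iff]
  simp only [QuotientGroup.mk'_apply] at hg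
  simp [hg]

/-- If no nontrivial element of odd order is real then the Sylow `2`-subgroups are normal. -/
theorem sylow_two_normal_of_no_odd_real [Finite G]
    (h : ∀ x g : G, Odd (orderOf x) → g * x * g⁻¹ = x⁻¹ → x = 1) (P : Sylow 2 G) :
    (P : Subgroup G).Normal := by
  have hodd : ¬ 2 ∣ (pCore 2 G).index := by
    intro hd
    obtain ⟨t, ht⟩ := H9.exists_involution_of_even (G := G ⧸ pCore 2 G) (even_iff_two_dvd.2 hd)
    obtain ⟨y, hy1, hy, hty⟩ := H71.exists_inverted_of_not_mem_pCore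
      (H9.mul_self_of_orderOf_two ht) (by
        rw [H1.pCore_quotient_pCore, mem_bot]; exact H9.ne_one_of_orderOf_two ht)
    obtain ⟨x, hx, rfl⟩ := H35.exists_not_dvd_mk_eq 2 (pCore 2 G) (q := y)
      (by rwa [← even_iff_two_dvd, Nat.not_even_iff_odd])
    obtain ⟨k, hk⟩ := IsPGroup.iff_card.1 (H1.isPGroup_pCore (p := 2) (G := G))
    obtain ⟨g, hg⟩ := exists_inverts_of_quotient (pCore 2 G) (x := x)
      (hk ▸ Nat.Coprime.pow_right k ((Nat.Prime.coprime_iff_not_dvd Nat.prime_two).2 hx).symm)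
      (isConj_iff.2 ⟨t, hty⟩)
    rw [← even_iff_two_dvd, Nat.not_even_iff_odd] at hx
    exact hy1 (by rw [h x g hx hg]; rfl)
  have : (P : Subgroup G) = pCore 2 G := le_antisymm
    (fun x hx => (H35.isPElt_of_mem P.isPGroup' hx).mem_of_index hodd) (H1.pCore_le_sylow P)
  rw [this]; infer_instance

end H79
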