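import Cfsg.Agent.Base
import Cfsg.Agent.Lib.Core.PCore
import Cfsg.Agent.Lib.PGroup.Basic
import Cfsg.Agent.Lib.Invol.Dihedral
import Cfsg.Agent.Lib.Transfer.NormalComplement

/-! Real elements. -/

namespace H77

open Subgroup Cfsg
open scoped commutatorElement

variable {G : Type*} [Group G]

theorem pow_inverts_of_odd {g x : G} (h : g * x * g⁻¹ = x⁻¹) {m : ℕ} (hm : Odd m) :
    g ^ m * x * (g ^ m)⁻¹ = x⁻¹ := by
  have h2 : g ^ 2 * x * (g ^ 2)⁻¹ = x := by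
    have : g ^ 2 * x * (g ^ 2)⁻¹ = g * (g * x * g⁻¹) * g⁻¹ := by rw [sq]; group
    rw [this, h, ← conj_inv, h, inv_inv]
  obtain ⟨k, rfl⟩ := hm
  have h3 : Commute (g ^ 2) x := by
    rw [Commute, SemiconjBy]; exact mul_inv_eq_iff_eq_mul.mp h2
  have h4 := (h3.pow_left k).eq
  rw [← pow_mul] at h4
  calc g ^ (2 * k + 1) * x * (g ^ (2 * k + 1))⁻¹
      = g * (g ^ (2 * k) * x) * (g ^ (2 * k))⁻¹ * g⁻¹ := by group
    _ = x⁻¹ := by rw [h4, ← h]; group

theorem exists_two_elt_inverts [Finite G] {x : G} (hx : IsConj x x⁻¹) :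
    ∃ t : G, (∃ j : ℕ, orderOf t = 2 ^ j) ∧ t * x * t⁻¹ = x⁻¹ := by
  obtain ⟨g, hg⟩ := isConj_iff.mp hx
  obtain ⟨j, m, hm, hjm⟩ := Nat.exists_eq_two_pow_mul_odd (orderOf_pos g).ne'
  refine ⟨g ^ m, ⟨j, ?_⟩, pow_inverts_of_odd hg hm⟩
  rw [orderOf_pow' _ hm.pos.ne', hjm, Nat.gcd_eq_right (dvd_mul_left _ _),
    Nat.mul_div_cancel _ hm.pos]

theorem inv_sq_mem_of_inverts {N : Subgroup G} [hN : N.Normal] {t x : G} (ht : t ∈ N)
    (h : t * x * t⁻¹ = x⁻¹) : x ^ 2 ∈ N := by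
  have h1 : x * t * x⁻¹ * t⁻¹ = x ^ 2 := by
    have : t * x⁻¹ * t⁻¹ = x := by rw [← conj_inv, h, inv_inv]
    calc x * t * x⁻¹ * t⁻¹ = x * (t * x⁻¹ * t⁻¹) := by group
      _ = x ^ 2 := by rw [this, sq]
  rw [← h1]
  exact N.mul_mem (hN.conj_mem t ht x) (N.inv_mem ht)

/-- A real element of odd order modulo a normal `2`-subgroup lifts. -/
theorem exists_real_odd_of_quotient [Finite G] {O : Subgroup G} [O.Normal] (hO : IsPGroup 2 O)
    {y : G ⧸ O} (hy1 : y ≠ 1) (hodd : Odd (orderOf y)) (hr : IsConj y y⁻¹) :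
    ∃ x : G, x ≠ 1 ∧ Odd (orderOf x) ∧ IsConj x x⁻¹ := by
  obtain ⟨t, ht⟩ := isConj_iff.mp hr
  obtain ⟨t, rfl⟩ := QuotientGroup.mk'_surjective O t
  obtain ⟨r, hr, hry⟩ := Nat.exists_prime_and_dvd (mt orderOf_eq_one_iff.mp hy1)
  have : Fact r.Prime := ⟨hr⟩
  have hr2 : r ≠ 2 := by
    rintro rfl
    exact (Nat.not_even_iff_odd.mpr hodd) (even_iff_two_dvd.mpr hry)
  have h1 : orderOf (y ^ (orderOf y / r)) = r := orderOf_pow_orderOf_div (orderOf_pos y).ne' hry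
  have h2 := H9.conj_pow_of_inverts ht (orderOf y / r)
  generalize y ^ (orderOf y / r) = z at h1 h2
  obtain ⟨x₀, rfl⟩ := QuotientGroup.mk'_surjective O z
  obtain ⟨a, ha⟩ := IsPGroup.iff_card.mp hO
  have hra : Odd (r ^ 1) := by simpa using hr.odd_of_ne_two hr2
  -- replace `x₀` by an element of order `r`
  have h3 : x₀ ^ r ∈ O := by
    rw [← QuotientGroup.ker_mk' O, MonoidHom.mem_ker, map_pow, ← h1, pow_orderOf_eq_one]
  have h4 : (x₀ ^ 2 ^ a) ^ r = 1 := by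
    rw [← pow_mul, mul_comm, pow_mul, ← ha]
    exact orderOf_dvd_iff_pow_eq_one.mp (H1.orderOf_dvd_card_of_mem h3)
  have h5 := H9.conj_pow_of_inverts h2 (2 ^ a)
  have h6 : orderOf (QuotientGroup.mk' O x₀ ^ 2 ^ a) = r := by
    rw [Nat.Coprime.orderOf_pow, h1]
    rw [h1]
    exact ((Nat.coprime_primes hr Nat.prime_two).mpr hr2).pow_right a
  rw [← map_pow] at h5 h6
  generalize x₀ ^ 2 ^ a = x at h4 h5 h6
  have hx1 : x ≠ 1 := by
    rintro rfl
    rw [map_one, orderOf_one] at h6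
    exact hr.one_lt.ne h6
  have hox : orderOf x = r := orderOf_eq_prime h4 hx1
  refine ⟨x, hx1, hox ▸ hr.odd_of_ne_two hr2, ?_⟩
  have hP : IsPGroup r (zpowers (t * x * t⁻¹) : Subgroup G) :=
    H9.isPGroup_zpowers_of_pow (a := 1) (by rw [pow_one, conj_pow, h4]; simp)
  have hle : zpowers (t * x * t⁻¹) ≤ zpowers x ⊔ O := by
    rw [zpowers_le]
    have : x * (t * x * t⁻¹) ∈ O := by
      rw [← QuotientGroup.ker_mk' O, MonoidHom.mem_ker]
      simp only [map_mul, map_inv, h5, mul_inv_cancel]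
    simpa using mul_mem_sup (inv_mem (mem_zpowers x)) this
  have hi : ¬ r ∣ (zpowers x).relIndex (zpowers x ⊔ O) := by
    rw [← H4.relIndex_eq_relIndex_sup]
    intro hd
    have := hd.trans (relIndex_dvd_card _ _)
    rw [ha] at this
    exact hr2 ((Nat.prime_dvd_prime_iff_eq hr Nat.prime_two).mp (hr.dvd_of_dvd_pow this))
  obtain ⟨k, hk, h7⟩ := H4.exists_conj_le_of_not_dvd_relIndex
    (H9.isPGroup_zpowers_of_pow (a := 1) (by rw [pow_one, h4])) hi hP hle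
  have h8 := h7 _ (mem_zpowers _)
  have h9 : QuotientGroup.mk' O k ∈ zpowers (QuotientGroup.mk' O x) := by
    have := mem_map_of_mem (QuotientGroup.mk' O) hk
    rwa [Subgroup.map_sup, MonoidHom.map_zpowers, (map_eq_bot_iff O).mpr (by simp),
      sup_bot_eq] at this
  obtain ⟨i, hi⟩ := mem_zpowers_iff.mp h9
  have h10 : k * (t * x * t⁻¹) * k⁻¹ * x ∈ O := by
    rw [← QuotientGroup.ker_mk' O, MonoidHom.mem_ker]
    simp only [map_mul, map_inv, h5, ← hi]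
    group
  have h11 : k * (t * x * t⁻¹) * k⁻¹ * x ∈ zpowers x ⊓ O := ⟨mul_mem h8 (mem_zpowers x), h10⟩
  rw [(disjoint_of_coprime_natCard (by
    rw [Nat.card_zpowers, hox, ha]
    exact ((Nat.coprime_primes hr Nat.prime_two).mpr hr2).pow_right a)).eq_bot, mem_bot] at h11
  exact isConj_iff.mpr ⟨k * t, by rw [← eq_inv_of_mul_eq_one_left h11]; group⟩

end H77
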