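import Mathlib
import Cfsg.Agent.Base
import Cfsg.Agent.Lib.Suz.FieldLem

/-! Arithmetic of large subgroups of the multiplicative group of a field of order `2 ^ n`. -/

set_option autoImplicit false
set_option linter.style.haveILetI false

namespace H76.Shaw

open H13.Suz

theorem bin_unique {a b c e : ℕ} (h : 2 ^ a + 2 ^ b = 2 ^ c + 2 ^ e) :
    (a = c ∧ b = e) ∨ (a = e ∧ b = c) := by
  have key : ∀ {a b c e : ℕ}, a ≤ b → 2 ^ a + 2 ^ b = 2 ^ c + 2 ^ e → e ≤ b := fun {a b c e} h1 h => by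
    by_contra hn
    have h2 : 2 ^ a ≤ 2 ^ b := Nat.pow_le_pow_right two_pos h1
    have h3 : 2 ^ (b + 1) ≤ 2 ^ e := Nat.pow_le_pow_right two_pos (by omega)
    have h4 : 0 < 2 ^ c := by positivity
    omega
  have inj : ∀ {a b : ℕ}, 2 ^ a = 2 ^ b → a = b := fun h => Nat.pow_right_injective le_rfl h
  rcases le_total a b with h1 | h1 <;> rcases le_total c e with h2 | h2
  · obtain rfl := le_antisymm (key h1 h) (key h2 h.symm)
    exact .inl ⟨inj (by omega), rfl⟩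
  · obtain rfl := le_antisymm (key (c := e) (e := c) h1 (by omega))
      (key (a := e) (b := c) (c := a) (e := b) h2 (by omega))
    exact .inr ⟨inj (by omega), rfl⟩
  · obtain rfl := le_antisymm (key (a := b) (b := a) (c := c) (e := e) h1 (by omega))
      (key (c := b) (e := a) h2 (by omega))
    exact .inr ⟨rfl, inj (by omega)⟩
  · obtain rfl := le_antisymm (key (a := b) (b := a) (c := e) (e := c) h1 (by omega))
      (key (a := e) (b := c) (c := b) (e := a) h2 (by omega))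
    exact .inl ⟨rfl, inj (by omega)⟩

theorem exists_shift {n : ℕ} (hn : 0 < n) (a b c e : ℕ) : ∃ s, ∀ x ∈ ({a, b, c, e} : Finset ℕ),
    (x + s) % n + (n - 1) / 4 < n := by
  by_contra hne
  push Not at hne
  have h1 : Finset.range n ⊆ ({a, b, c, e} : Finset ℕ).biUnion
      fun x => (Finset.range n).filter fun s => n ≤ (x + s) % n + (n - 1) / 4 := fun s hs => by
    obtain ⟨x, hx, h⟩ := hne s
    exact Finset.mem_biUnion.2 ⟨x, hx, Finset.mem_filter.2 ⟨hs, h⟩⟩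
  have h2 := (Finset.card_le_card h1).trans (Finset.card_biUnion_le_card_mul _ _ ((n - 1) / 4)
    fun x _ => by
      refine (Finset.card_le_card_of_injOn (t := Finset.Ico (n - (n - 1) / 4) n) (fun s => (x + s) % n)
        (fun s hs => ?_) fun s hs s' hs' e => ?_).trans (by simp; omega)
      · have := Nat.mod_lt (x + s) hn
        simp only [Finset.coe_filter, Set.mem_ofPred_eq] at hs
        simp only [Finset.coe_Ico, Set.mem_Ico]
        omega
      · simp only [Finset.coe_filter, Finset.mem_range, Set.mem_ofPred_eq] at hs hs'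
        exact Nat.ModEq.eq_of_lt_of_lt (Nat.ModEq.add_left_cancel' x e) hs.1 hs'.1)
  have h3 : ({a, b, c, e} : Finset ℕ).card ≤ 4 := Finset.card_le_four
  rw [Finset.card_range] at h2
  have := Nat.mul_le_mul_right ((n - 1) / 4) h3
  omega

/-- `N` has index dividing `n` in `2 ^ n - 1`. -/
structure Ar (n N : ℕ) : Prop where
  two : 2 ≤ n
  ex : ∃ d, d ∣ n ∧ N * d + 1 = 2 ^ n

namespace Ar
variable {n N : ℕ} (h : Ar n N)
include h

theorem modEq : 2 ^ n ≡ 1 [MOD N] := by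
  obtain ⟨d, -, e⟩ := h.ex
  rw [← e]
  exact (Nat.modEq_iff_dvd' (by omega)).2 (by simp) |>.symm

theorem dvd : N ∣ 2 ^ n - 1 := (Nat.modEq_iff_dvd' Nat.one_le_two_pow).1 h.modEq.symm

theorem pow_mod (x : ℕ) : 2 ^ (x % n) ≡ 2 ^ x [MOD N] := by
  conv_rhs => rw [← Nat.mod_add_div x n, pow_add, pow_mul]
  simpa using ((h.modEq.pow (x / n)).mul_left (2 ^ (x % n))).symm

theorem dvd_of_dvd {k : ℕ} (hk : N ∣ 2 ^ k - 1) : n ∣ k := by
  have h1 : N ∣ 2 ^ n.gcd k - 1 := by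
    rw [← Nat.pow_sub_one_gcd_pow_sub_one]; exact Nat.dvd_gcd h.dvd hk
  by_contra hn
  obtain ⟨j, hj⟩ := Nat.gcd_dvd_left n k
  have h2 := h.two
  set g := n.gcd k
  have j2 : 2 ≤ j := by
    rcases j with _ | _ | j
    · omega
    · exact (hn (by rw [hj, zero_add, mul_one]; exact Nat.gcd_dvd_right n k)).elim
    · omega
  have g0 : 0 < g := Nat.pos_of_ne_zero fun e => by rw [e] at hj; omega
  obtain ⟨d, hd, e⟩ := h.ex
  obtain ⟨w, hw⟩ : ∃ w, n = g + w := ⟨n - g, by have : g * 2 ≤ g * j := Nat.mul_le_mul_left g j2; omega⟩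
  have w1 : g ≤ w := by have : g * 2 ≤ g * j := Nat.mul_le_mul_left g j2; omega
  have h3 : 2 * w ≤ 2 ^ w := Nat.mul_le_pow (by norm_num) w
  have h4 : N ≤ 2 ^ g - 1 := Nat.le_of_dvd (by have := Nat.one_lt_two_pow g0.ne'; omega) h1
  have h5 : d ≤ 2 ^ w := (Nat.le_of_dvd (by omega) hd).trans (by omega)
  have h6 := Nat.mul_le_mul h4 h5
  have h7 : 1 < 2 ^ w := Nat.one_lt_two_pow (by omega)
  rw [Nat.sub_mul, ← pow_add, ← hw] at h6
  have : 2 ^ w ≤ 2 ^ n := Nat.pow_le_pow_right two_pos (by omega)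
  omega

theorem not_dvd_one : ¬ N ∣ 1 := fun e => by
  have := Nat.le_of_dvd one_pos (h.dvd_of_dvd (k := 1) e)
  have := h.two
  omega

theorem prime_dvd {r : ℕ} (hr : r.Prime) (hd : r ∣ 2 ^ n - 1) : r ∣ N := by
  by_contra hn
  obtain ⟨d, ⟨j, hj⟩, e⟩ := h.ex
  have h2 := h.two
  have d0 : d ≠ 0 := by rintro rfl; omega
  obtain ⟨v, d', hd', rfl⟩ := Nat.exists_eq_pow_mul_and_not_dvd d0 r hr.ne_one
  haveI := Fact.mk hr
  have h1 : ((2 ^ (d' * j) : ℕ) : ZMod r) = 1 := by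
    have := (ZMod.natCast_eq_natCast_iff _ _ _).2 ((Nat.modEq_iff_dvd' Nat.one_le_two_pow).2 hd)
    rw [hj, mul_assoc, mul_comm, pow_mul, Nat.cast_pow, ZMod.pow_card_pow] at this
    rw [← this, Nat.cast_one]
  have h3 : (r : ℤ) ∣ 2 ^ (d' * j) - 1 := by
    rw [← ZMod.intCast_zmod_eq_zero_iff_dvd]
    push_cast at h1 ⊢
    rw [h1, sub_self]
  have h4 := dvd_sub_pow_of_dvd_sub h3 v
  rw [one_pow, ← pow_mul, mul_comm, ← mul_assoc, ← hj] at h4
  have h5 : r ^ (v + 1) ∣ N * (r ^ v * d') := by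
    have : ((N * (r ^ v * d') : ℕ) : ℤ) = 2 ^ n - 1 := by
      rw [eq_sub_iff_add_eq]; exact_mod_cast e
    rw [← Int.natCast_dvd_natCast, this]
    exact_mod_cast h4
  rw [mul_left_comm, pow_succ, Nat.mul_dvd_mul_iff_left (pow_pos hr.pos v)] at h5
  exact (hr.dvd_mul.1 h5).elim hn hd'

theorem pair {a b c e : ℕ} (ha : a < n) (hb : b < n) (hc : c < n) (he : e < n)
    (hm : 2 ^ a + 2 ^ b ≡ 2 ^ c + 2 ^ e [MOD N]) : (a = c ∧ b = e) ∨ (a = e ∧ b = c) ∨
      (c ≠ e ∧ ∃ i, ¬ N ∣ i ∧ 2 ^ a * i ≡ 2 ^ e * i [MOD N]) := by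
  obtain ⟨d, hd, e1⟩ := h.ex
  have h2 := h.two
  have small : ∀ n d : Fin 21, 2 ≤ n.1 → d.1 ∣ n.1 → d.1 ∣ 2 ^ n.1 - 1 →
      d.1 ≤ 2 ^ ((n.1 - 1) / 4) ∨ (n.1 = 6 ∧ d.1 = 3) := by decide +kernel
  have big : ∀ k, 5 ≤ k → 4 * k + 4 ≤ 2 ^ k := fun k hk => by
    induction k, hk using Nat.le_induction with
    | base => norm_num
    | succ k _ ih => omega
  have dn := Nat.le_of_dvd (by omega) hd
  have : d ≤ 2 ^ ((n - 1) / 4) ∨ (n = 6 ∧ d = 3) := by
    by_cases h21 : n < 21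
    · exact small ⟨n, h21⟩ ⟨d, by omega⟩ h2 hd ⟨N, by rw [← e1, mul_comm]; rfl⟩
    · exact .inl (le_trans (by omega) (big _ (by omega)))
  rcases this with h3 | ⟨rfl, rfl⟩
  · obtain ⟨s, hs⟩ := exists_shift (by omega : 0 < n) a b c e
    obtain ⟨w, hw⟩ : ∃ w, n = w + 1 + (n - 1) / 4 := ⟨n - 1 - (n - 1) / 4, by omega⟩
    have bd : ∀ x ∈ ({a, b, c, e} : Finset ℕ), 2 ^ ((x + s) % n) ≤ 2 ^ w := fun x hx =>
      Nat.pow_le_pow_right two_pos (by have := hs x hx; omega)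
    have hN : 2 ^ (w + 1) ≤ N + 1 := by
      by_contra hlt
      have h4 := Nat.mul_le_mul (show N + 2 ≤ 2 ^ (w + 1) by omega) h3
      rw [← pow_add, ← hw, add_mul] at h4
      have : d ≠ 0 := by rintro rfl; omega
      omega
    have m : 2 ^ ((a + s) % n) + 2 ^ ((b + s) % n) ≡ 2 ^ ((c + s) % n) + 2 ^ ((e + s) % n) [MOD N] := by
      refine ((h.pow_mod _).add (h.pow_mod _)).trans (.trans ?_ ((h.pow_mod _).add (h.pow_mod _)).symm)
      simp only [pow_add, ← add_mul]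
      exact hm.mul_right _
    have b1 := bd a (by simp)
    have b2 := bd b (by simp)
    have b3 := bd c (by simp)
    have b4 := bd e (by simp)
    have p : ∀ x, 0 < 2 ^ x := fun x => by positivity
    have := m.eq_of_abs_lt (by
      have := p ((a + s) % n); have := p ((b + s) % n); have := p ((c + s) % n); have := p ((e + s) % n)
      rw [abs_lt]; constructor <;> omega)
    have inj : ∀ {x y}, x < n → y < n → (x + s) % n = (y + s) % n → x = y := fun hx hy e =>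
      Nat.ModEq.eq_of_lt_of_lt (Nat.ModEq.add_right_cancel' s e) hx hy
    rcases bin_unique this with ⟨e2, e3⟩ | ⟨e2, e3⟩
    · exact .inl ⟨inj ha hc e2, inj hb he e3⟩
    · exact .inr (.inl ⟨inj ha he e2, inj hb hc e3⟩)
  · obtain rfl : N = 21 := by omega
    have six : ∀ a b c e : Fin 6, (2 ^ a.1 + 2 ^ b.1) % 21 = (2 ^ c.1 + 2 ^ e.1) % 21 →
        (a.1 = c.1 ∧ b.1 = e.1) ∨ (a.1 = e.1 ∧ b.1 = c.1) ∨ (c.1 ≠ e.1 ∧
          ((2 ^ a.1 * 3) % 21 = (2 ^ e.1 * 3) % 21 ∨ (2 ^ a.1 * 7) % 21 = (2 ^ e.1 * 7) % 21)) := by decide +kernel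
    refine (six ⟨a, ha⟩ ⟨b, hb⟩ ⟨c, hc⟩ ⟨e, he⟩ hm).imp_right (Or.imp_right fun ⟨e2, e3⟩ => ⟨e2, ?_⟩)
    exact e3.elim (fun e => ⟨3, by norm_num, e⟩) fun e => ⟨7, by norm_num, e⟩

end Ar

theorem dvd_card_of_perm {α : Type*} [Finite α] (f : Equiv.Perm α) {N : ℕ}
    (h : ∀ x i, (f ^ i) x = x → N ∣ i) : N ∣ Nat.card α := by
  classical
  letI := Fintype.ofFinite α
  rw [Nat.card_congr (MulAction.selfEquivSigmaOrbits (Subgroup.zpowers f) α), Nat.card_sigma]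
  refine Finset.dvd_sum fun ω _ => ?_
  rw [Nat.card_eq_fintype_card, ← MulAction.minimalPeriod_eq_card]
  refine h ω.out _ ?_
  have := Function.iterate_minimalPeriod (f := (f • ·)) (x := ω.out)
  rwa [smul_iterate] at this

theorem dvd_card_of_perm' {α : Type*} [Finite α] (f : Equiv.Perm α) {N : ℕ} {p : α → Prop}
    (hp : ∀ x, p (f x) ↔ p x) (h : ∀ x, p x → ∀ i, (f ^ i) x = x → N ∣ i) :
    N ∣ Nat.card {x // p x} :=
  dvd_card_of_perm (f.subtypePerm hp) fun x i e => h x x.2 i (by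
    rw [Equiv.Perm.subtypePerm_pow] at e
    exact congrArg Subtype.val e)

end H76.Shaw
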