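import Mathlib
import Cfsg.Agent.Base
import Cfsg.Agent.Lib.FGS.Shaw1

/-! Biadditive maps of a field of order `2 ^ n` that are equivariant for a large subgroup. -/

set_option autoImplicit false
set_option linter.style.haveILetI false
set_option linter.unusedSectionVars false

namespace H76.Shaw

open H13.Suz hiding Gen biadd_equivariant alt_eq_zero

variable {F : Type*} [Field F] [Fintype F] {n N : ℕ}

/-- The order of `μ` is a multiple of `N`. -/
def Gen (N : ℕ) (μ : F) : Prop := μ ≠ 0 ∧ ∀ i, μ ^ i = 1 → N ∣ i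

omit [Fintype F] in
theorem Gen.map {μ : F} (h : Gen N μ) (σ : F ≃+* F) : Gen N (σ μ) :=
  ⟨(map_ne_zero σ).2 h.1, fun i e => h.2 i (σ.injective (by rw [map_pow, e, map_one]))⟩

omit [Fintype F] in
theorem Gen.ne_one (ha : Ar n N) {μ : F} (h : Gen N μ) : μ ≠ 1 := fun e =>
  ha.not_dvd_one (h.2 1 (by rw [e, one_pow]))

omit [Fintype F] in
theorem Gen.modEq {μ : F} (h : Gen N μ) {i j : ℕ} (e : μ ^ i = μ ^ j) : i ≡ j [MOD N] := by
  wlog hij : i ≤ j generalizing i j
  · exact (this e.symm (by omega)).symm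
  obtain ⟨k, rfl⟩ := Nat.exists_eq_add_of_le hij
  rw [pow_add, eq_comm, mul_eq_left₀ (pow_ne_zero i h.1)] at e
  exact (Nat.modEq_iff_dvd' hij).2 (by simpa using h.2 k e)

variable (ha : Ar n N) (hF : Fintype.card F = 2 ^ n)
include ha hF

theorem four : 4 ≤ Fintype.card F := hF ▸ Nat.pow_le_pow_right two_pos ha.two

theorem Gen.eq_top {μ : F} (h : Gen N μ) (S : AddSubgroup F) (hS : ∀ x ∈ S, μ * x ∈ S) {x₀ : F}
    (h1 : x₀ ∈ S) (h0 : x₀ ≠ 0) : S = ⊤ := by
  have hp : ∀ i : ℕ, ∀ x ∈ S, μ ^ i * x ∈ S := fun i => by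
    induction i with
    | zero => simp
    | succ i ih => exact fun x hx => by rw [pow_succ', mul_assoc]; exact hS _ (ih x hx)
  have h4 := four ha hF
  have hd := dvd_card_of_perm' (Equiv.mulLeft₀ μ h.1) (N := N) (p := fun x => x ∈ S ∧ x ≠ 0)
    (fun x => ⟨fun ⟨a, b⟩ => ⟨by
      have := hp (Fintype.card F - 2) _ a
      rwa [Equiv.mulLeft₀_apply, ← mul_assoc, ← pow_succ,
        show Fintype.card F - 2 + 1 = Fintype.card F - 1 by omega,
        FiniteField.pow_card_sub_one_eq_one μ h.1, one_mul] at this, right_ne_zero_of_mul b⟩,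
      fun ⟨a, b⟩ => ⟨hS x a, mul_ne_zero h.1 b⟩⟩)
    fun x hx i e => h.2 i (by
      have : ∀ i : ℕ, (Equiv.mulLeft₀ μ h.1 ^ i) x = μ ^ i * x := fun i => by
        induction i with
        | zero => simp
        | succ i ih => rw [pow_succ', Equiv.Perm.mul_apply, ih, pow_succ', mul_assoc]; rfl
      rwa [this, mul_eq_right₀ hx.2] at e)
  have hc : Nat.card {x // x ∈ S ∧ x ≠ 0} + 1 = Nat.card S := by
    rw [← Finite.card_option]
    refine Nat.card_eq_of_bijective (fun o => o.elim 0 fun x => ⟨x.1, x.2.1⟩) ⟨?_, fun z => ?_⟩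
    · rintro (_ | x) (_ | y) e
      · rfl
      · exact absurd (congrArg Subtype.val e).symm y.2.2
      · exact absurd (congrArg Subtype.val e) x.2.2
      · have := congrArg Subtype.val e
        exact congrArg some (Subtype.ext this)
    · by_cases hz : (z : F) = 0
      · exact ⟨none, Subtype.ext hz.symm⟩
      · exact ⟨some ⟨z, z.2, hz⟩, rfl⟩
  have h2 := S.card_addSubgroup_dvd_card
  rw [Nat.card_eq_fintype_card (α := F), hF] at h2
  obtain ⟨k, -, hk⟩ := (Nat.dvd_prime_pow Nat.prime_two).1 h2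
  have k0 : k ≠ 0 := by
    rintro rfl
    rw [AddSubgroup.card_eq_one.1 hk] at h1
    exact h0 h1
  refine AddSubgroup.eq_top_of_le_card _ ?_
  rw [Nat.card_eq_fintype_card, hF, hk]
  exact Nat.pow_le_pow_right two_pos (Nat.le_of_dvd (Nat.pos_of_ne_zero k0)
    (ha.dvd_of_dvd (by rwa [← hk, ← hc, Nat.add_sub_cancel])))

variable [CharP F 2]

omit ha in
theorem exists_frob (σ : F ≃+* F) : ∃ a < n, ∀ x, σ x = x ^ 2 ^ a := by
  let : Algebra (ZMod 2) F := ZMod.algebra F 2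
  have hr : Module.finrank (ZMod 2) F = n := by
    have h2 := Module.card_eq_pow_finrank (K := ZMod 2) (V := F)
    rw [ZMod.card, hF] at h2
    exact (Nat.pow_right_injective le_rfl h2).symm
  obtain ⟨a, e⟩ := (FiniteField.bijective_frobeniusAlgEquivOfAlgebraic_pow (ZMod 2) F).2
    (AlgEquiv.ofRingEquiv (f := σ) fun x => RingHom.congr_fun (RingHom.ext_zmod
      ((σ : F →+* F).comp (algebraMap (ZMod 2) F)) (algebraMap (ZMod 2) F)) x)
  refine ⟨a, hr ▸ a.2, fun x => ?_⟩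
  have := DFunLike.congr_fun e x
  rw [AlgEquiv.coe_pow, FiniteField.coe_frobeniusAlgEquivOfAlgebraic_iterate, ZMod.card] at this
  exact this.symm

theorem aut_pair {l : F} (hl : Gen N l) (hN : l ^ N = 1) {α β γ δ : F ≃+* F}
    (e : α l * β l = γ l * δ l) : (α = γ ∧ β = δ) ∨ (α = δ ∧ β = γ) ∨
      (γ ≠ δ ∧ ∃ i : ℕ, l ^ i ≠ 1 ∧ α (l ^ i) = δ (l ^ i)) := by
  choose f h1 h2 using exists_frob hF
  have inj : ∀ {σ τ}, f σ = f τ → σ = τ := fun e => RingEquiv.ext fun x => by rw [h2, h2, e]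
  rw [h2, h2, h2, h2, ← pow_add, ← pow_add] at e
  refine (ha.pair (h1 α) (h1 β) (h1 γ) (h1 δ) (hl.modEq e)).imp (And.imp inj inj)
    (Or.imp (And.imp inj inj) fun ⟨a, i, b, c⟩ => ⟨fun e => a (by rw [e]), i, fun e => b (hl.2 i e), ?_⟩)
  rw [h2, h2, ← pow_mul, ← pow_mul, mul_comm i, mul_comm i]
  exact pow_eq_pow_of_modEq c hN

/-- An equivariant biadditive map is zero or a monomial. -/
theorem biadd_equivariant (η : F →+ F →+ F) {μ l : F} (hμ : Gen N μ)
    (hl : Gen N l) (hN : l ^ N = 1) (h : ∀ x y, η (μ * x) (l * y) = l * η x y) :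
    (∀ x y, η x y = 0) ∨ ∃ (c : F) (σ τ : F ≃+* F), c ≠ 0 ∧ τ ≠ RingEquiv.refl F ∧
      (∀ x y, η x y = c * (σ x * τ y)) ∧
      ∀ y y' : F, y ≠ 0 → y' ≠ 0 → τ y * y' = τ y' * y → y = y' := by
  classical
  have := H40.FieldAut.finite_aut (F := F)
  letI := Fintype.ofFinite (F ≃+* F)
  obtain ⟨c, hc⟩ := H40.FieldAut.biadd_eq_sum' η
  have key : ∀ p, c p ≠ 0 → p.1 μ * p.2 l = l := fun p hp => by
    have := sum_aut2_eq_zero (c := fun p => c p * (p.1 μ * p.2 l - l)) (fun x y => by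
      have e := h x y
      rw [hc, hc, Finset.mul_sum, ← sub_eq_zero, ← Finset.sum_sub_distrib] at e
      rw [← e]
      exact Finset.sum_congr rfl fun p _ => by simp only [map_mul]; ring) p
    exact sub_eq_zero.1 ((mul_eq_zero.1 this).resolve_left hp)
  have hne : ∀ p, c p ≠ 0 → p.2 ≠ RingEquiv.refl F := fun p hp e => by
    have h1 := key p hp
    rw [e, RingEquiv.refl_apply] at h1
    exact (hμ.map p.1).ne_one ha (mul_right_cancel₀ hl.1 (by rw [h1, one_mul]))
  by_cases h0 : ∀ p, c p = 0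
  · exact Or.inl fun x y => by simp [hc, h0]
  push Not at h0
  obtain ⟨⟨σ, τ⟩, hp⟩ := h0
  have e1 : σ μ * τ l = l := key _ hp
  have fx : ∀ i : ℕ, τ (l ^ i) = l ^ i → l ^ i = 1 := fun i e => by
    have e2 := congrArg (· ^ i) e1
    simp only [mul_pow] at e2
    rw [← map_pow τ, e, mul_eq_right₀ (pow_ne_zero i hl.1)] at e2
    obtain ⟨j, rfl⟩ := (hμ.map σ).2 i e2
    rw [pow_mul, hN, one_pow]
  refine Or.inr ⟨c (σ, τ), σ, τ, hp, hne _ hp, fun x y => ?_, fun y y' hy hy' e => ?_⟩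
  · rw [hc, Finset.sum_eq_single (σ, τ) _ (fun h => absurd (Finset.mem_univ _) h)]
    rintro ⟨σ', τ'⟩ - hne'
    by_contra h'
    have hp' : c (σ', τ') ≠ 0 := left_ne_zero_of_mul h'
    have e2 : σ' μ * τ' l = l := key _ hp'
    have e3 : σ' l * (τ'.trans σ) l = σ l * (τ.trans σ') l := by
      have f1 := congrArg σ' e1
      have f2 := congrArg σ e2
      rw [map_mul] at f1 f2
      rw [RingEquiv.trans_apply, RingEquiv.trans_apply, ← f1, ← f2, aut_comm σ σ' μ]
      ring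
    rcases aut_pair ha hF hl hN e3 with ⟨rfl, h2⟩ | ⟨h1, -⟩ | ⟨-, i, h1, h2⟩
    · apply hne'
      congr 1
      ext z
      exact σ'.injective (DFunLike.congr_fun h2 z)
    · apply hne _ hp
      ext z
      exact (σ'.injective (DFunLike.congr_fun h1 z)).symm
    · exact h1 (fx i (σ'.injective h2).symm)
  · by_contra hn
    have z1 : y / y' ≠ 1 := fun e => hn ((div_eq_one_iff_eq hy').1 e)
    have z2 : τ (y / y') = y / y' := by
      rw [map_div₀, div_eq_div_iff ((map_ne_zero τ).2 hy') hy', e, mul_comm]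
    have z3 : (y / y') ^ (2 ^ n - 1) = 1 := hF ▸ FiniteField.pow_card_sub_one_eq_one _ (div_ne_zero hy hy')
    generalize y / y' = z at *
    obtain ⟨r, hr, j, hj⟩ := Nat.exists_prime_and_dvd (mt orderOf_eq_one_iff.1 z1)
    have n0 : 2 ^ n - 1 ≠ 0 := by have := four ha hF; omega
    have o0 : orderOf z ≠ 0 := ne_zero_of_dvd_ne_zero n0 (orderOf_dvd_of_pow_eq_one z3)
    obtain ⟨k, hk⟩ := ha.prime_dvd hr ((Dvd.intro _ hj.symm).trans (orderOf_dvd_of_pow_eq_one z3))
    haveI : NeZero N := ⟨ne_zero_of_dvd_ne_zero n0 ha.dvd⟩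
    obtain ⟨i, -, hi⟩ := (⟨hN, hl.2⟩ : IsPrimitiveRoot l N).eq_pow_of_pow_eq_one (ξ := z ^ j) (by
      rw [hk, pow_mul, ← pow_mul z, mul_comm j, ← hj, pow_orderOf_eq_one, one_pow])
    have := fx i (by rw [hi, map_pow, z2])
    rw [hi, ← orderOf_dvd_iff_pow_eq_one, hj] at this
    have j0 : 0 < j := Nat.pos_of_ne_zero fun e => o0 (by rw [hj, e, mul_zero])
    have := Nat.le_of_dvd j0 this
    nlinarith [hr.two_le]

/-- An alternating biadditive map that is homogeneous of degree one vanishes. -/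
theorem alt_eq_zero (B : F →+ F →+ F) {l : F} (hl : Gen N l) (hN : l ^ N = 1)
    (h : ∀ x y, B (l * x) (l * y) = l * B x y) (h0 : ∀ x, B x x = 0) (x y : F) : B x y = 0 := by
  classical
  have := H40.FieldAut.finite_aut (F := F)
  letI := Fintype.ofFinite (F ≃+* F)
  obtain ⟨c, hc⟩ := H40.FieldAut.biadd_eq_sum' B
  have key : ∀ p, c p ≠ 0 → p.1 l * p.2 l = l := fun p hp => by
    have := sum_aut2_eq_zero (c := fun p => c p * (p.1 l * p.2 l - l)) (fun x y => by
      have e := h x y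
      rw [hc, hc, Finset.mul_sum, ← sub_eq_zero, ← Finset.sum_sub_distrib] at e
      rw [← e]
      exact Finset.sum_congr rfl fun p _ => by simp only [map_mul]; ring) p
    exact sub_eq_zero.1 ((mul_eq_zero.1 this).resolve_left hp)
  let ρ : F ≃+* F := (frobeniusEquiv F 2).symm
  have hρ : ρ l * ρ l = l := by rw [← sq, ← frobenius_def]; exact (frobeniusEquiv F 2).apply_symm_apply l
  have key2 : ∀ p, p ≠ (ρ, ρ) → c p = 0 := fun p hp => by
    by_contra h'
    rcases aut_pair ha hF hl hN ((key p h').trans hρ.symm) with ⟨h1, h2⟩ | ⟨h1, h2⟩ | ⟨h1, -⟩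
    · exact hp (Prod.ext h1 h2)
    · exact hp (Prod.ext h1 h2)
    · exact h1 rfl
  have hB : ∀ x y, B x y = c (ρ, ρ) * (ρ x * ρ y) := fun x y => by
    rw [hc, Finset.sum_eq_single (ρ, ρ) (fun p _ hp => by rw [key2 p hp, zero_mul])
      (fun h => absurd (Finset.mem_univ _) h)]
  have := h0 1
  rw [hB, map_one, mul_one, mul_one] at this
  rw [hB, this, zero_mul]

end H76.Shaw
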