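import Mathlib
import Cfsg.Agent.Base
import Cfsg.Agent.Lib.Suz.HigOrder
import Cfsg.Agent.Lib.FGS.Shaw2

/-! Field coordinates on invariant sections of a 2-group (after Lib/Suz/HigCoord). -/

set_option autoImplicit false
set_option linter.style.haveILetI false
set_option linter.unusedSectionVars false

namespace H76.Shaw

open H13.Suz hiding Gen biadd_equivariant alt_eq_zero
open H13.Hig hiding Hig Coord surj_of_gen descend
open scoped commutatorElement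

variable {P : Type*} [Group P] {F : Type*} [Field F] [Fintype F] {n N : ℕ}

/-- A 2-group with an automorphism acting on the involutions as a large multiplicative group. -/
structure Hig (ξ : MulAut P) (F : Type*) [Field F] [Fintype F] (n N : ℕ) : Prop where
  two : IsPGroup 2 P
  ar : Ar n N
  cF : Fintype.card F = 2 ^ n
  ord : ξ ^ (Fintype.card F - 1) = 1
  fpf : ∀ i : ℕ, ¬ (N ∣ i) → ∀ x, (ξ ^ i) x = x → x = 1
  fix : ∀ x, x * x = 1 → (ξ ^ N) x = x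
  cen : ∀ x : P, x * x = 1 → ∀ g, x * g = g * x
  cO : Nat.card (Om P) = 2 ^ n

/-- A coordinate on the section `X / S`. -/
structure Coord (N : ℕ) (ξ : MulAut P) (S X : Subgroup P) (μ : F) (e : P → F) : Prop where
  add : ∀ x ∈ X, ∀ y ∈ X, e (x * y) = e x + e y
  eqv : ∀ x ∈ X, e (ξ x) = μ * e x
  ker : ∀ x ∈ X, (e x = 0 ↔ x ∈ S)
  surj : ∀ c, ∃ x ∈ X, e x = c
  gen : Gen N μ

variable {ξ : MulAut P} {A B S X : Subgroup P}

theorem Hig.four (h : Hig ξ F n N) : 4 ≤ Fintype.card F := Shaw.four h.ar h.cF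

theorem Hig.surj_of_gen (H : Hig ξ F n N) {e : P → F} {μ : F} (hX : Inv ξ X)
    (hadd : ∀ x ∈ X, ∀ y ∈ X, e (x * y) = e x + e y)
    (h : ∀ x ∈ X, e (ξ x) = μ * e x) (hμ : Gen N μ) {x₀ : P} (hx₀ : x₀ ∈ X) (h0 : e x₀ ≠ 0) (c : F) :
    ∃ x ∈ X, e x = c := by
  let T : AddSubgroup F :=
    { carrier := {c | ∃ x ∈ X, e x = c}
      zero_mem' := ⟨1, X.one_mem, add_one' hadd⟩
      add_mem' := by
        rintro _ _ ⟨x, hx, rfl⟩ ⟨y, hy, rfl⟩
        exact ⟨x * y, X.mul_mem hx hy, hadd x hx y hy⟩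
      neg_mem' := by
        rintro _ ⟨x, hx, rfl⟩
        exact ⟨x⁻¹, X.inv_mem hx, add_inv' hadd hx⟩ }
  exact (hμ.eq_top H.ar H.cF T (by
    rintro _ ⟨x, hx, rfl⟩
    exact ⟨ξ x, hX x hx, h x hx⟩) ⟨x₀, hx₀, rfl⟩ h0).ge trivial

theorem Inv.iff [Finite P] (hB : Inv ξ B) (x : P) : ξ x ∈ B ↔ x ∈ B :=
  ⟨fun h => by
    obtain ⟨y, hy, e⟩ := hB.surj h
    rwa [← ξ.injective e], hB x⟩

theorem dvd_card_sub_one [Finite P] (fpf : ∀ i : ℕ, ¬ (N ∣ i) → ∀ x, (ξ ^ i) x = x → x = 1)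
    (hB : Inv ξ B) : N ∣ Nat.card B - 1 := by
  have hd := dvd_card_of_perm' (MulAut.toPerm P ξ) (N := N) (p := fun x => x ∈ B ∧ x ≠ 1)
    (fun x => and_congr (Inv.iff hB x) (map_ne_one_iff ξ ξ.injective))
    fun x hx i e => by_contra fun hi => hx.2 (fpf i hi x (by rwa [← map_pow] at e))
  have hc : Nat.card {x // x ∈ B ∧ x ≠ 1} + 1 = Nat.card B := by
    rw [← Finite.card_option]
    refine Nat.card_eq_of_bijective (fun o => o.elim 1 fun x => ⟨x.1, x.2.1⟩) ⟨?_, fun z => ?_⟩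
    · rintro (_ | x) (_ | y) e
      · rfl
      · exact absurd (congrArg Subtype.val e).symm y.2.2
      · exact absurd (congrArg Subtype.val e) x.2.2
      · have := congrArg Subtype.val e
        exact congrArg some (Subtype.ext this)
    · by_cases hz : (z : P) = 1
      · exact ⟨none, Subtype.ext hz.symm⟩
      · exact ⟨some ⟨z, z.2, hz⟩, rfl⟩
  rwa [← hc, Nat.add_sub_cancel]

theorem exists_inv_mem (h2 : IsPGroup 2 P) {x : P} (hx1 : x ≠ 1) :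
    ∃ j : ℕ, x ^ 2 ^ j ≠ 1 ∧ x ^ 2 ^ j * x ^ 2 ^ j = 1 := by
  obtain ⟨k, hk⟩ := h2 x
  obtain ⟨j, hj1, hj2⟩ := H5.exists_pow_not_mem_pow_mem (p := 2) (K := ⊥) (x := x) (by simpa using hx1)
    (k := k) (by simpa using hk)
  exact ⟨j, by simpa using hj1, by simpa [sq] using hj2⟩

namespace Coord
variable {μ : F} {e : P → F} (c : Coord N ξ S X μ e)
include c

omit [Fintype F]

theorem one : e 1 = 0 := add_one' c.add

theorem inv {x : P} (hx : x ∈ X) : e x⁻¹ = -e x := add_inv' c.add hx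

theorem mem_of_eq {x y : P} (hx : x ∈ X) (hy : y ∈ X) (h : e x = e y) : x⁻¹ * y ∈ S := by
  rw [← c.ker _ (X.mul_mem (X.inv_mem hx) hy), c.add _ (X.inv_mem hx) _ hy, c.inv hx, h, neg_add_cancel]

theorem exists_not_mem : ∃ x ∈ X, x ∉ S := by
  obtain ⟨x, hx, h⟩ := c.surj 1
  exact ⟨x, hx, fun h' => one_ne_zero (h.symm.trans ((c.ker x hx).2 h'))⟩

end Coord

section hig
variable [Finite P] (h : Hig ξ F n N)
include h

theorem Hig.mem_of_fpf (hS : Inv ξ S) {i : ℕ} (hi : ¬ (N ∣ i)) {x : P}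
    (hx : x⁻¹ * (ξ ^ i) x ∈ S) : x ∈ S := by
  have key : ∀ a b : P, a⁻¹ * (ξ ^ i) a = b⁻¹ * (ξ ^ i) b → a = b := fun a b e => by
    have := h.fpf i hi (a * b⁻¹) (by
      rw [map_mul, map_inv, mul_inv_eq_iff_eq_mul, mul_assoc, ← e, mul_inv_cancel_left])
    exact mul_inv_eq_one.1 this
  let f : S → S := fun s => ⟨s⁻¹ * (ξ ^ i) s, S.mul_mem (S.inv_mem s.2) (hS.pow i _ s.2)⟩
  have hf : Function.Injective f := fun a b e => Subtype.ext (key _ _ (congrArg Subtype.val e))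
  obtain ⟨s, hs⟩ := Finite.injective_iff_surjective.1 hf ⟨_, hx⟩
  rw [← key _ _ (congrArg Subtype.val hs)]
  exact s.2

theorem Hig.gen_of (hX : Inv ξ X) {e : P → F} {μ : F} (hμ : μ ≠ 0)
    (hadd : ∀ x ∈ X, ∀ y ∈ X, e (x * y) = e x + e y) (heqv : ∀ x ∈ X, e (ξ x) = μ * e x)
    {x₀ : P} (hx₀ : x₀ ∈ X) (h0 : e x₀ ≠ 0) : Gen N μ := by
  classical
  have hK : Inv ξ (addKer X e hadd) := fun x hx => ⟨hX x hx.1, by rw [heqv x hx.1, hx.2, mul_zero]⟩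
  refine ⟨hμ, fun i this => by_contra fun hi => ?_⟩
  refine h0 (h.mem_of_fpf hK hi (x := x₀) ⟨X.mul_mem (X.inv_mem hx₀) (hX.pow _ _ hx₀), ?_⟩).2
  rw [hadd _ (X.inv_mem hx₀) _ (hX.pow _ _ hx₀), add_inv' hadd hx₀, eqv_pow hX heqv _ _ hx₀, this,
    one_mul, neg_add_cancel]

variable [CharP F 2]

/-- Eigenfunctionals separate the points of an invariant elementary abelian section. -/
theorem Hig.exists_eigen (hS : Inv ξ S) (hX : Inv ξ X) (hSX : S ≤ X) (hsq : ∀ x ∈ X, x * x ∈ S)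
    {x₀ : P} (hx₀ : x₀ ∈ X) (hx₀S : x₀ ∉ S) : ∃ (e : P → F) (μ : F), Gen N μ ∧
      (∀ x ∈ X, ∀ y ∈ X, e (x * y) = e x + e y) ∧ (∀ x ∈ X, e (ξ x) = μ * e x) ∧
      (∀ x ∈ S, e x = 0) ∧ e x₀ ≠ 0 := by
  classical
  obtain ⟨M, hSM, hMX, hM0, hM⟩ := exists_index_two hSX hsq hx₀ hx₀S
  let e₀ : P → F := fun x => if x ∈ M then 0 else 1
  have he₀ : ∀ x ∈ X, ∀ y ∈ X, e₀ (x * y) = e₀ x + e₀ y := fun x hx y hy => by
    by_cases h1 : x ∈ M <;> by_cases h2 : y ∈ M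
    · simp [e₀, h1, h2, M.mul_mem h1 h2]
    · simp [e₀, h1, h2, M.mul_mem_cancel_left h1]
    · simp [e₀, h1, h2, M.mul_mem_cancel_right h2]
    · simp [e₀, h1, h2, hM x hx y hy h1 h2, CharTwo.add_self_eq_zero]
  set K := Fintype.card F - 1 with hN
  have hN0 : 0 < K := by have := h.four; omega
  let E : Fˣ → P → F := fun ν x => ∑ i ∈ Finset.range K, (ν : F) ^ i * e₀ ((ξ ^ i) x)
  have hsum : ∑ ν : Fˣ, E ν x₀ = -1 := by
    simp only [E]
    rw [Finset.sum_comm]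
    simp only [← Finset.sum_mul, FiniteField.sum_pow_units]
    rw [Finset.sum_eq_single 0]
    · simp [e₀, hM0]
    · intro i hi hi0
      rw [if_neg, zero_mul]
      exact fun hd => absurd (Nat.le_of_dvd (Nat.pos_of_ne_zero hi0) hd)
        (not_le.2 (Finset.mem_range.1 hi))
    · exact fun h' => absurd (Finset.mem_range.2 hN0) h'
  obtain ⟨ν, -, hν⟩ := Finset.exists_ne_zero_of_sum_ne_zero (s := Finset.univ) (f := fun ν => E ν x₀)
    (by rw [hsum]; simp)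
  have hadd : ∀ x ∈ X, ∀ y ∈ X, E ν (x * y) = E ν x + E ν y := fun x hx y hy => by
    simp only [E, ← Finset.sum_add_distrib]
    refine Finset.sum_congr rfl fun i _ => ?_
    rw [map_mul, he₀ _ (hX.pow i x hx) _ (hX.pow i y hy), mul_add]
  have heqv : ∀ x ∈ X, E ν (ξ x) = (ν : F)⁻¹ * E ν x := fun x _ => by
    rw [eq_inv_mul_iff_mul_eq₀ ν.ne_zero]
    have h1 := Finset.sum_range_succ' (fun i => (ν : F) ^ i * e₀ ((ξ ^ i) x)) K
    rw [Finset.sum_range_succ, h.ord, FiniteField.pow_card_sub_one_eq_one _ ν.ne_zero, pow_zero,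
      pow_zero, add_left_inj] at h1
    simp only [E]
    rw [h1, Finset.mul_sum]
    refine Finset.sum_congr rfl fun i _ => ?_
    rw [pow_succ ξ, MulAut.mul_apply]; ring
  refine ⟨E ν, (ν : F)⁻¹, h.gen_of hX (inv_ne_zero ν.ne_zero) hadd heqv hx₀ hν, hadd, heqv,
    fun x hx => Finset.sum_eq_zero fun i _ => ?_, hν⟩
  simp [e₀, hSM (hS.pow i x hx)]

/-- A minimal invariant elementary abelian section has a coordinate. -/
theorem Hig.exists_coord (hS : Inv ξ S) (hX : Inv ξ X) (hSX : S < X) (hsq : ∀ x ∈ X, x * x ∈ S)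
    (hmin : ∀ Y, Inv ξ Y → S ≤ Y → Y < X → Y ≤ S) : ∃ (μ : F) (e : P → F), Coord N ξ S X μ e := by
  obtain ⟨x₀, hx₀, hx₀S⟩ := SetLike.exists_of_lt hSX
  obtain ⟨e, μ, hμ, hadd, heqv, h0, h1⟩ := h.exists_eigen hS hX hSX.le hsq hx₀ hx₀S
  refine ⟨μ, e, hadd, heqv, fun x hx => ⟨fun hx0 => ?_, h0 x⟩, h.surj_of_gen hX hadd heqv hμ hx₀ h1, hμ⟩
  refine hmin (addKer X e hadd) (fun y hy => ⟨hX y hy.1, by rw [heqv y hy.1, hy.2, mul_zero]⟩)
    (fun y hy => ⟨hSX.le hy, h0 y hy⟩) (lt_of_le_of_ne (fun y hy => hy.1) fun e' => h1 ?_) ⟨hx, hx0⟩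
  exact (show x₀ ∈ addKer X e hadd from e'.ge hx₀).2

/-- Every invariant elementary abelian section contains a minimal one. -/
theorem Hig.exists_cover (hS : Inv ξ S) (hX : Inv ξ X) (hSX : S < X) (hsq : ∀ x ∈ X, x * x ∈ S) :
    ∃ C, Inv ξ C ∧ S ≤ C ∧ C ≤ X ∧ ∃ (μ : F) (e : P → F), Coord N ξ S C μ e := by
  obtain ⟨C, ⟨hC, hSC, hCX⟩, hmin⟩ := Set.Finite.exists_minimal
    (s := {C : Subgroup P | Inv ξ C ∧ S < C ∧ C ≤ X}) (Set.toFinite _) ⟨X, hX, hSX, le_rfl⟩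
  refine ⟨C, hC, hSC.le, hCX, h.exists_coord hS hC hSC (fun x hx => hsq x (hCX hx))
    fun Y hY hSY hYC => ?_⟩
  by_contra hne
  exact not_le_of_gt hYC (hmin (y := Y) ⟨hY, lt_of_le_of_ne hSY (fun e => hne e.ge), hYC.le.trans hCX⟩ hYC.le)

/-- An invariant elementary abelian section is generated by its minimal sections. -/
theorem Hig.le_of_covers {T : Subgroup P} (hS : Inv ξ S) (hX : Inv ξ X) (hT : Inv ξ T) (hSX : S ≤ X)
    (hST : S ≤ T) (hsq : ∀ x ∈ X, x * x ∈ S)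
    (hcov : ∀ C (μ : F) (e : P → F), Inv ξ C → S ≤ C → C ≤ X → Coord N ξ S C μ e → C ≤ T) : X ≤ T := by
  by_contra hne
  obtain ⟨C, ⟨hC, hSC, hCX, hCT⟩, hmin⟩ := Set.Finite.exists_minimal
    (s := {C : Subgroup P | Inv ξ C ∧ S ≤ C ∧ C ≤ X ∧ ¬ C ≤ T}) (Set.toFinite _) ⟨X, hX, hSX, le_rfl, hne⟩
  have hlt : ∀ Y, Inv ξ Y → S ≤ Y → Y < C → Y ≤ T := fun Y hY hSY hYC => by
    by_contra hYT
    exact not_le_of_gt hYC (hmin (y := Y) ⟨hY, hSY, hYC.le.trans hCX, hYT⟩ hYC.le)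
  have hCS : C ⊓ T ≤ S := fun x₁ hx₁ => by
    by_contra hx₁S
    obtain ⟨e, μ, hμ, hadd, heqv, h0, h1⟩ :=
      h.exists_eigen hS hC hSC (fun x hx => hsq x (hCX hx)) hx₁.1 hx₁S
    have hK := hlt (addKer C e hadd) (fun y hy => ⟨hC y hy.1, by rw [heqv y hy.1, hy.2, mul_zero]⟩)
      (fun y hy => ⟨hSC hy, h0 y hy⟩) (lt_of_le_of_ne (fun y hy => hy.1) fun e' =>
        h1 (show x₁ ∈ addKer C e hadd from e'.ge hx₁.1).2)
    refine hCT fun x hx => ?_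
    obtain ⟨y, hy, hyx⟩ := h.surj_of_gen (hC.inf hT) (fun a ha b hb => hadd a ha.1 b hb.1)
      (fun a ha => heqv a ha.1) hμ hx₁ h1 (e x)
    have : y⁻¹ * x ∈ T := hK ⟨C.mul_mem (C.inv_mem hy.1) hx, by
      rw [hadd _ (C.inv_mem hy.1) _ hx, add_inv' hadd hy.1, hyx, neg_add_cancel]⟩
    simpa using T.mul_mem hy.2 this
  obtain ⟨μ, e, hc⟩ := h.exists_coord hS hC (lt_of_le_of_ne hSC fun e => hCT (e ▸ hST))
    (fun x hx => hsq x (hCX hx)) fun Y hY hSY hYC => (le_inf hYC.le (hlt Y hY hSY hYC)).trans hCS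
  exact hCT (hcov C μ e hC hSC hCX hc)

omit [CharP F 2] in
theorem Hig.central {x : P} (hx : x * x = 1) (g : P) : x * g = g * x := h.cen x hx g

omit [CharP F 2] in
theorem Hig.mem_Om {x : P} : x ∈ Om P ↔ x * x = 1 := by
  refine ⟨fun hx => ?_, fun hx => Subgroup.subset_closure hx⟩
  induction hx using Subgroup.closure_induction with
  | mem x hx => exact hx
  | one => exact mul_one 1
  | mul x y _ _ hx hy =>
    calc x * y * (x * y) = x * (y * x) * y := by group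
      _ = (x * x) * (y * y) := by rw [← h.central hx y]; group
      _ = 1 := by rw [hx, hy, one_mul]
  | inv x _ hx => rw [← mul_inv_rev, hx, inv_one]

omit [CharP F 2] in
theorem Hig.Om_comm {z : P} (hz : z ∈ Om P) (g : P) : z * g = g * z := h.central (h.mem_Om.1 hz) g

omit [CharP F 2] in
theorem Hig.Om_normal : (Om P).Normal := ⟨fun z hz g => by
  rwa [← h.Om_comm hz g, mul_inv_cancel_right]⟩

omit [CharP F 2] in
theorem Hig.Om_le (hB : Inv ξ B) (h1 : B ≠ ⊥) : Om P ≤ B := by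
  obtain ⟨x, hx, hx1⟩ := (Subgroup.bot_or_exists_ne_one B).resolve_left h1
  obtain ⟨j, hj1, hj2⟩ := exists_inv_mem h.two hx1
  obtain ⟨k, hk⟩ := IsPGroup.iff_card.1 (h.two.to_subgroup (B ⊓ Om P))
  have k0 : k ≠ 0 := by
    rintro rfl
    exact hj1 (Subgroup.mem_bot.1 (Subgroup.card_eq_one.1 hk ▸
      Subgroup.mem_inf.2 ⟨B.pow_mem hx _, h.mem_Om.2 hj2⟩))
  have hd := h.ar.dvd_of_dvd (hk ▸ dvd_card_sub_one h.fpf (hB.inf inv_Om))
  refine inf_eq_right.1 (Subgroup.eq_of_le_of_card_ge inf_le_right ?_)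
  rw [h.cO, hk]
  exact Nat.pow_le_pow_right two_pos (Nat.le_of_dvd (Nat.pos_of_ne_zero k0) hd)

omit [CharP F 2] in
theorem Hig.pow_eq_one {l : F} {ζ : P → F} (hz : Coord N ξ ⊥ (Om P) l ζ) : l ^ N = 1 := by
  obtain ⟨x, hx, e⟩ := hz.surj 1
  have := eqv_pow inv_Om hz.eqv N x hx
  rwa [h.fix x (h.mem_Om.1 hx), e, mul_one, eq_comm] at this

theorem Hig.exists_coord_Om [Nontrivial P] : ∃ (l : F) (ζ : P → F), Coord N ξ ⊥ (Om P) l ζ := by
  refine h.exists_coord inv_bot inv_Om ?_ (fun x hx => h.mem_Om.1 hx) fun Y hY _ hlt => ?_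
  · obtain ⟨z, -, -, ho⟩ := H5.exists_mem_center_orderOf_eq h.two ⊤ top_ne_bot
    refine bot_lt_iff_ne_bot.2 fun e => ?_
    have : z ∈ Om P := h.mem_Om.2 (by rw [← sq, ← ho, pow_orderOf_eq_one])
    rw [e, Subgroup.mem_bot] at this
    simp [this] at ho
  · by_contra hne
    exact not_le_of_gt hlt (h.Om_le hY fun e => hne e.le)

end hig

section ab
variable [Finite P] (h : Hig ξ F n N) {l : F} {ζ : P → F} (hz : Coord N ξ ⊥ (Om P) l ζ)
include h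

theorem Hig.mem_Sq_of_pow (hA : Inv ξ A) (hc : Comm A) {k : ℕ} (hk : Ex A k) (j : ℕ) (hj : j ≤ k) :
    ∀ a ∈ A, a ^ 2 ^ j = 1 → a ∈ Sq A := by
  induction j with
  | zero => exact fun a _ e => by rw [pow_zero, pow_one] at e; rw [e]; exact Subgroup.one_mem _
  | succ j ih =>
    intro a ha e
    by_cases h1 : a ^ 2 ^ j = 1
    · exact ih (by omega) a ha h1
    obtain ⟨a₀, ha₀, h0⟩ := hk.2
    let T : Subgroup P :=
      { carrier := {x | ∃ b ∈ A, b ^ 2 ^ k = x}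
        one_mem' := ⟨1, A.one_mem, one_pow _⟩
        mul_mem' := by
          rintro _ _ ⟨x, hx, rfl⟩ ⟨y, hy, rfl⟩
          exact ⟨x * y, A.mul_mem hx hy, Commute.mul_pow (hc x hx y hy) _⟩
        inv_mem' := by
          rintro _ ⟨x, hx, rfl⟩
          exact ⟨x⁻¹, A.inv_mem hx, inv_pow _ _⟩ }
    obtain ⟨b, hb, hi⟩ := h.Om_le (B := T) (by
      rintro _ ⟨x, hx, rfl⟩
      exact ⟨ξ x, hA x hx, (map_pow ξ _ _).symm⟩) (fun e => h0 (Subgroup.mem_bot.1 (e ▸ ⟨a₀, ha₀, rfl⟩)))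
      (h.mem_Om.2 (show a ^ 2 ^ j * a ^ 2 ^ j = 1 by
        rw [← _root_.sq, ← pow_mul, ← pow_succ]; exact e))
    obtain ⟨d, rfl⟩ := Nat.exists_eq_add_of_le hj
    have hb2 := A.pow_mem hb (2 ^ d)
    have h2 := ih (by omega) ((b ^ 2 ^ d * b ^ 2 ^ d)⁻¹ * a)
      (A.mul_mem (A.inv_mem (A.mul_mem hb2 hb2)) ha) (by
        rw [Commute.mul_pow (hc _ (A.inv_mem (A.mul_mem hb2 hb2)) _ ha), ← hi, inv_pow,
          ← _root_.sq, ← pow_mul, ← pow_mul, inv_mul_eq_one]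
        congr 1
        ring)
    have := (Sq A).mul_mem (mul_self_mem_Sq hb2) h2
    rwa [mul_inv_cancel_left] at this

include hz in
/-- An abelian invariant subgroup is homocyclic; its Frattini quotient has a coordinate. -/
theorem Hig.coord_ab (hA : Inv ξ A) (hc : Comm A) {k : ℕ} (hk : Ex A k) :
    Coord N ξ (Sq A) A l fun a => ζ (a ^ 2 ^ k) := by
  have hm : ∀ a ∈ A, a ^ 2 ^ k ∈ Om P := fun a ha => h.mem_Om.2 (hk.pow_mul_self ha)
  have hadd : ∀ x ∈ A, ∀ y ∈ A, ζ ((x * y) ^ 2 ^ k) = ζ (x ^ 2 ^ k) + ζ (y ^ 2 ^ k) :=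
    fun x hx y hy => by rw [Commute.mul_pow (hc x hx y hy), hz.add _ (hm x hx) _ (hm y hy)]
  have heqv : ∀ x ∈ A, ζ ((ξ x) ^ 2 ^ k) = l * ζ (x ^ 2 ^ k) := fun x hx => by
    rw [← map_pow, hz.eqv _ (hm x hx)]
  obtain ⟨a₀, ha₀, h0⟩ := hk.2
  refine ⟨hadd, heqv, fun x hx => ?_, h.surj_of_gen hA hadd heqv hz.gen ha₀
    (fun e => h0 (Subgroup.mem_bot.1 ((hz.ker _ (hm _ ha₀)).1 e))), hz.gen⟩
  rw [hz.ker _ (hm x hx), Subgroup.mem_bot]
  refine ⟨h.mem_Sq_of_pow hA hc hk k le_rfl x hx, fun hx2 => ?_⟩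
  obtain ⟨a, ha, rfl⟩ := hc.mem_Sq.1 hx2
  rw [← _root_.sq, ← pow_mul, ← pow_succ']
  exact hk.1 a ha

include hz in
/-- A proper invariant subgroup of an abelian invariant subgroup consists of squares. -/
theorem Hig.le_Sq (hA : Inv ξ A) (hc : Comm A) (hS : Inv ξ S) (hlt : S < A) : S ≤ Sq A := by
  obtain ⟨k, hk⟩ := exists_Ex h.two (A := A) (ne_bot_of_gt hlt)
  have c := h.coord_ab hz hA hc hk
  intro s hs
  by_contra hne
  refine not_le_of_gt hlt (hc.le_of_sq h.two hlt.le fun a ha => ?_)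
  obtain ⟨y, hy, e⟩ := h.surj_of_gen (e := fun a => ζ (a ^ 2 ^ k)) hS
    (fun a ha b hb => c.add a (hlt.le ha) b (hlt.le hb))
    (fun a ha => c.eqv a (hlt.le ha)) c.gen hs (fun e => hne ((c.ker s (hlt.le hs)).1 e)) (ζ (a ^ 2 ^ k))
  obtain ⟨b, hb, e'⟩ := hc.mem_Sq.1 (c.mem_of_eq (hlt.le hy) ha e)
  exact ⟨y, hy, b, hb, by rw [e', mul_inv_cancel_left]⟩

theorem Hig.mem_Sq_of_sq (hA : Inv ξ A) (hc : Comm A) (h1 : Sq A ≠ ⊥) {a : P} (ha : a ∈ A)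
    (h2 : a * a ∈ Sq (Sq A)) : a ∈ Sq A := by
  obtain ⟨b, hb, e⟩ := hc.sq.mem_Sq.1 h2
  have : b⁻¹ * a ∈ Om P := h.mem_Om.2 (by
    calc b⁻¹ * a * (b⁻¹ * a) = b⁻¹ * (a * b⁻¹) * a := by group
      _ = (b * b)⁻¹ * (a * a) := by rw [hc a ha _ (A.inv_mem (Sq_le A hb))]; group
      _ = 1 := by rw [e, inv_mul_cancel])
  simpa using (Sq A).mul_mem hb (h.Om_le hA.sq h1 this)

end ab

omit [Fintype F] in
/-- A function on pairs that is additive in each variable descends to the coordinates. -/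
theorem descend {S' X' : Subgroup P} {μ μ' : F} {e e' : P → F} (c : Coord N ξ S X μ e)
    (c' : Coord N ξ S' X' μ' e') (f : P → P → F)
    (h1 : ∀ x ∈ X, ∀ x' ∈ X, ∀ y ∈ X', f (x * x') y = f x y + f x' y)
    (h2 : ∀ x ∈ X, ∀ y ∈ X', ∀ y' ∈ X', f x (y * y') = f x y + f x y')
    (h3 : ∀ x ∈ X, x ∈ S → ∀ y ∈ X', f x y = 0) (h4 : ∀ x ∈ X, ∀ y ∈ X', y ∈ S' → f x y = 0) :
    ∃ η : F →+ F →+ F, ∀ x ∈ X, ∀ y ∈ X', η (e x) (e' y) = f x y := by
  choose s hs hs' using c.surj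
  choose r hr hr' using c'.surj
  have k1 : ∀ x ∈ X, ∀ y ∈ X', f (s (e x)) y = f x y := fun x hx y hy => by
    have hm := X.mul_mem (X.inv_mem hx) (hs (e x))
    have := h1 x hx _ hm y hy
    rwa [mul_inv_cancel_left, h3 _ hm (c.mem_of_eq hx (hs _) (hs' _).symm) y hy, add_zero] at this
  have k2 : ∀ x ∈ X, ∀ y ∈ X', f x (r (e' y)) = f x y := fun x hx y hy => by
    have hm := X'.mul_mem (X'.inv_mem hy) (hr (e' y))
    have := h2 x hx y hy _ hm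
    rwa [mul_inv_cancel_left, h4 x hx _ hm (c'.mem_of_eq hy (hr _) (hr' _).symm), add_zero] at this
  refine ⟨AddMonoidHom.mk' (fun a => AddMonoidHom.mk' (fun b => f (s a) (r b)) fun b b' => ?_)
    fun a a' => ?_, fun x hx y hy => ?_⟩
  · rw [← h2 _ (hs a) _ (hr b) _ (hr b'), ← k2 _ (hs a) _ (X'.mul_mem (hr b) (hr b')),
      c'.add _ (hr b) _ (hr b'), hr', hr']
  · ext b
    simp only [AddMonoidHom.mk'_apply, AddMonoidHom.add_apply]
    rw [← h1 _ (hs a) _ (hs a') _ (hr b), ← k1 _ (X.mul_mem (hs a) (hs a')) _ (hr b),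
      c.add _ (hs a) _ (hs a'), hs', hs']
  · simp only [AddMonoidHom.mk'_apply]
    rw [k1 x hx _ (hr _), k2 x hx y hy]

end H76.Shaw
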