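import Mathlib
import Cfsg.Agent.Base
import Cfsg.Agent.Lib.FGS.Shaw3

/-! Higman's argument for a large cyclic group (after Lib/Suz/HigMain). -/

set_option autoImplicit false
set_option linter.style.haveILetI false
set_option linter.unusedSectionVars false

namespace H76.Shaw

open H13.Suz hiding Gen biadd_equivariant alt_eq_zero
open H13.Hig hiding Hig Coord surj_of_gen descend
open scoped commutatorElement

variable {P : Type*} [Group P] {F : Type*} [Field F] [Fintype F] {n N : ℕ}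
variable {ξ : MulAut P} {A C : Subgroup P}

theorem Coord.sq_mem [CharP F 2] {μ : F} {π : P → F} (c : Coord N ξ A C μ π) {u : P} (hu : u ∈ C) :
    u * u ∈ A := by
  rw [← c.ker _ (C.mul_mem hu hu), c.add u hu u hu, CharTwo.add_self_eq_zero]

omit [Fintype F] in
theorem Coord.cm_mem {μ : F} {π : P → F} (c : Coord N ξ A C μ π) {u v : P} (hu : u ∈ C) (hv : v ∈ C) :
    ⁅u, v⁆ ∈ A := by
  have h1 := C.mul_mem hu hv
  have h2 := C.mul_mem h1 (C.inv_mem hu)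
  rw [commutatorElement_def, ← c.ker _ (C.mul_mem h2 (C.inv_mem hv)), c.add _ h2 _ (C.inv_mem hv),
    c.add _ h1 _ (C.inv_mem hu), c.add u hu v hv, c.inv hu, c.inv hv]
  ring

variable [Finite P] (h : Hig ξ F n N) {l : F} {ζ : P → F} (hz : Coord N ξ ⊥ (Om P) l ζ)
include h

theorem Hig.mem_of_sq [hn : A.Normal] (hc : Comm A) (hO : Om P ≤ A) {u : P}
    (hu : ∀ b ∈ A, ⁅u, b⁆ ∈ Sq (Sq A)) (h2 : u * u ∈ Sq A) : u ∈ A := by
  let S : Subgroup P :=
    { carrier := {x | ∃ b ∈ A, b * b * ⁅u, b⁆ = x}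
      one_mem' := ⟨1, A.one_mem, by simp⟩
      mul_mem' := by
        rintro _ _ ⟨a, ha, rfl⟩ ⟨b, hb, rfl⟩
        refine ⟨a * b, A.mul_mem ha hb, ?_⟩
        rw [hc.cm_mul u ha hb, mul_mul_self, hc.cm (A.inv_mem ha) hb, mul_one, mul_assoc,
          ← mul_assoc (b * b), hc _ (A.mul_mem hb hb) _ (cm_mem u ha)]
        group
      inv_mem' := by
        rintro _ ⟨a, ha, rfl⟩
        refine ⟨a⁻¹, A.inv_mem ha, ?_⟩
        have := hc.cm_mul u ha (A.inv_mem ha)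
        rw [mul_inv_cancel, commutatorElement_one_right, eq_comm, mul_eq_one_iff_inv_eq] at this
        rw [← this, hc _ (A.mul_mem ha ha) _ (cm_mem u ha)]
        group }
  have hS : Sq A ≤ S := by
    refine hc.sq.le_of_sq h.two ?_ fun x hx => ?_
    · rintro _ ⟨b, hb, rfl⟩
      exact (Sq A).mul_mem (mul_self_mem_Sq hb) (Sq_le _ (hu b hb))
    · obtain ⟨a, ha, rfl⟩ := hc.mem_Sq.1 hx
      obtain ⟨c, hc', e⟩ := hc.sq.mem_Sq.1 ((Sq (Sq A)).inv_mem (hu a ha))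
      exact ⟨_, ⟨a, ha, rfl⟩, c, hc', by rw [e, mul_inv_cancel_right]⟩
  obtain ⟨b, hb, e⟩ := hS ((Sq A).inv_mem h2)
  have : b * u ∈ Om P := h.mem_Om.2 (by
    calc b * u * (b * u) = b * (⁅u, b⁆ * b) * (u * u) := by simp only [commutatorElement_def]; group
      _ = (b * b * ⁅u, b⁆) * (u * u) := by rw [← hc b hb _ (cm_mem u hb)]; group
      _ = 1 := by rw [e, inv_mul_cancel])
  exact (A.mul_mem_cancel_left hb).1 (hO this)

include hz

theorem Hig.cm_mem_Sq [A.Normal] (hA : Inv ξ A) (hc : Comm A) (g : P) {a : P} (ha : a ∈ A) :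
    ⁅g, a⁆ ∈ Sq A := by
  by_cases h1 : A = ⊥
  · subst h1
    rw [Subgroup.mem_bot.1 ha, commutatorElement_one_right]
    exact Subgroup.one_mem _
  haveI := h.two.isNilpotent
  exact cm_mem_swap (h.le_Sq hz hA hc (hA.commutator inv_top) (H5.commutator_top_lt_of_nilpotent A h1)
    (Subgroup.commutator_mem_commutator ha trivial))

variable [CharP F 2]

/-- The action of a cover on `A / A⁴`. -/
theorem Hig.eta [A.Normal] (hA : Inv ξ A) (hc : Comm A) {k : ℕ} (hk : Ex A (k + 1))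
    {μ : F} {π : P → F} (hC : Inv ξ C) (c : Coord N ξ A C μ π) :
    (∀ u ∈ C, ∀ a ∈ A, ⁅u, a⁆ ∈ Sq (Sq A)) ∨ ∃ (d : F) (σ τ : F ≃+* F), d ≠ 0 ∧ τ ≠ RingEquiv.refl F ∧
      (∀ u ∈ C, ∀ a ∈ A, ζ (⁅u, a⁆ ^ 2 ^ k) = d * (σ (π u) * τ (ζ (a ^ 2 ^ (k + 1))))) ∧
      ∀ y y' : F, y ≠ 0 → y' ≠ 0 → τ y * y' = τ y' * y → y = y' := by
  haveI := Sq_normal (A := A)
  have cA := h.coord_ab hz hA hc hk
  have cS := h.coord_ab hz hA.sq hc.sq (hk.sq hc)
  have m1 : ∀ g, ∀ a ∈ A, ⁅g, a⁆ ∈ Sq A := fun g a ha => h.cm_mem_Sq hz hA hc g ha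
  have m2 : ∀ g, ∀ a ∈ Sq A, ⁅g, a⁆ ∈ Sq (Sq A) := fun g a ha => h.cm_mem_Sq hz hA.sq hc.sq g ha
  obtain ⟨η, hη⟩ := descend c cA (fun u a => ζ (⁅u, a⁆ ^ 2 ^ k))
    (fun u _ v _ a ha => by
      have e1 := m2 u _ (m1 v a ha)
      rw [cm_mul_left, cS.add _ ((Sq A).mul_mem (Sq_le _ e1) (m1 v a ha)) _ (m1 u a ha),
        cS.add _ (Sq_le _ e1) _ (m1 v a ha), (cS.ker _ (Sq_le _ e1)).2 e1]
      ring)
    (fun u _ a ha b hb => by rw [hc.cm_mul u ha hb, cS.add _ (m1 u a ha) _ (m1 u b hb)])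
    (fun u _ hu a ha => by rw [hc.cm hu ha]; exact cS.one)
    (fun u _ a ha ha' => (cS.ker _ (m1 u a ha)).2 (m2 u a ha'))
  have heq : ∀ x y, η (μ * x) (l * y) = l * η x y := fun x y => by
    obtain ⟨u, hu, rfl⟩ := c.surj x
    obtain ⟨a, ha, rfl⟩ := cA.surj y
    rw [← c.eqv u hu, ← cA.eqv a ha, hη _ (hC u hu) _ (hA a ha), hη u hu a ha, ← map_commutatorElement,
      cS.eqv _ (m1 u a ha)]
  rcases biadd_equivariant h.ar h.cF η c.gen hz.gen (h.pow_eq_one hz) heq with h0 | ⟨d, σ, τ, h1, h2, h3, h4⟩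
  · exact Or.inl fun u hu a ha => (cS.ker _ (m1 u a ha)).1 (by rw [← hη u hu a ha, h0])
  · exact Or.inr ⟨d, σ, τ, h1, h2, fun u hu a ha => by rw [← hη u hu a ha, h3], h4⟩

theorem Hig.comm_of_eta [A.Normal] [C.Normal] (hA : Inv ξ A) (hc : Comm A) {k : ℕ} (hk : Ex A (k + 1))
    {μ : F} {π : P → F} (hC : Inv ξ C) (hAC : A ≤ C) (c : Coord N ξ A C μ π)
    (h0 : ∀ u ∈ C, ∀ a ∈ A, ⁅u, a⁆ ∈ Sq (Sq A)) : Comm C := by
  have cA := h.coord_ab hz hA hc hk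
  have hO : Om P ≤ A := h.Om_le hA hk.ne_bot
  have hD2 : ∀ u ∈ C, ∀ v ∈ C, ⁅u, v⁆ ∈ Sq A := fun u hu v hv => by
    refine h.mem_Sq_of_sq hA hc (hk.sq hc).ne_bot (c.cm_mem hu hv) ?_
    have e1 := cm_mem_swap (h0 v hv _ (c.sq_mem hu))
    rw [cm_mul_left, mul_assoc] at e1
    exact ((Sq (Sq A)).mul_mem_cancel_left (h0 u hu _ (c.cm_mem hu hv))).1 e1
  have hadd : ∀ u ∈ C, ∀ v ∈ C, ζ ((u * v * (u * v)) ^ 2 ^ (k + 1)) =
      ζ ((u * u) ^ 2 ^ (k + 1)) + ζ ((v * v) ^ 2 ^ (k + 1)) := fun u hu v hv => by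
    have e1 := hD2 _ (C.inv_mem hu) v hv
    rw [mul_mul_self, cA.add _ (A.mul_mem (c.sq_mem hu) (Sq_le _ e1)) _ (c.sq_mem hv),
      cA.add _ (c.sq_mem hu) _ (Sq_le _ e1), (cA.ker _ (Sq_le _ e1)).2 e1, add_zero]
  have heqv : ∀ u ∈ C, ζ ((ξ u * ξ u) ^ 2 ^ (k + 1)) = l * ζ ((u * u) ^ 2 ^ (k + 1)) := fun u hu => by
    rw [← map_mul, cA.eqv _ (c.sq_mem hu)]
  have hker : ∀ u ∈ C, (ζ ((u * u) ^ 2 ^ (k + 1)) = 0 ↔ u ∈ A) := fun u hu => by
    rw [cA.ker _ (c.sq_mem hu)]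
    exact ⟨h.mem_of_sq hc hO (h0 u hu), mul_self_mem_Sq⟩
  have c' : Coord N ξ A C l fun u => ζ ((u * u) ^ 2 ^ (k + 1)) := by
    obtain ⟨u, hu, huA⟩ := c.exists_not_mem
    exact ⟨hadd, heqv, hker, h.surj_of_gen (e := fun u => ζ ((u * u) ^ 2 ^ (k + 1))) hC hadd heqv hz.gen hu
      fun e => huA ((hker u hu).1 e), hz.gen⟩
  have hDA : ⁅C, C⁆ ≤ A := Subgroup.commutator_le.2 fun u hu v hv => c.cm_mem hu hv
  have hDi : Inv ξ ⁅C, C⁆ := hC.commutator hC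
  have hDc : Comm ⁅C, C⁆ := hc.mono hDA
  have mD : ∀ u ∈ C, ∀ v ∈ C, ⁅u, v⁆ ∈ ⁅C, C⁆ := fun u hu v hv =>
    Subgroup.commutator_mem_commutator hu hv
  by_cases hD : ⁅C, C⁆ = ⊥
  · intro u hu v hv
    exact commutatorElement_eq_one_iff_mul_comm.1 (Subgroup.mem_bot.1 (hD ▸ mD u hu v hv))
  exfalso
  obtain ⟨j, hj⟩ := exists_Ex h.two hD
  have cD := h.coord_ab hz hDi hDc hj
  have m1 : ∀ g, ∀ a ∈ ⁅C, C⁆, ⁅g, a⁆ ∈ Sq ⁅C, C⁆ := fun g a ha => h.cm_mem_Sq hz hDi hDc g ha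
  have m2 : ∀ v ∈ C, ∀ a ∈ A, ⁅v, a⁆ ∈ Sq ⁅C, C⁆ := fun v hv a ha => by
    obtain ⟨u, hu, e⟩ := c'.surj (ζ (a ^ 2 ^ (k + 1)))
    obtain ⟨b, hb, e'⟩ := hc.mem_Sq.1 (cA.mem_of_eq (c.sq_mem hu) ha e)
    have : a = u * u * (b * b) := by rw [e', mul_inv_cancel_left]
    rw [this, hc.cm_mul v (c.sq_mem hu) (A.mul_mem hb hb), hc.cm_mul v hb hb]
    refine Subgroup.mul_mem _ (cm_mem_swap ?_) (mul_self_mem_Sq (mD v hv b (hAC hb)))
    rw [cm_mul_left, mul_assoc]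
    exact Subgroup.mul_mem _ (m1 u _ (mD u hu v hv)) (mul_self_mem_Sq (mD u hu v hv))
  obtain ⟨B, hB⟩ := descend c' c' (fun u v => ζ (⁅u, v⁆ ^ 2 ^ j))
    (fun u hu v hv w hw => by
      have e1 := m1 u _ (mD v hv w hw)
      rw [cm_mul_left, cD.add _ (Subgroup.mul_mem _ (Sq_le _ e1) (mD v hv w hw)) _ (mD u hu w hw),
        cD.add _ (Sq_le _ e1) _ (mD v hv w hw), (cD.ker _ (Sq_le _ e1)).2 e1]
      ring)
    (fun u hu v hv w hw => by
      have e1 := m1 v _ (mD u hu w hw)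
      rw [cm_mul_right, cD.add _ (Subgroup.mul_mem _ (mD u hu v hv) (Sq_le _ e1)) _ (mD u hu w hw),
        cD.add _ (mD u hu v hv) _ (Sq_le _ e1), (cD.ker _ (Sq_le _ e1)).2 e1, add_zero])
    (fun u hu hu' v hv => (cD.ker _ (mD u hu v hv)).2 (cm_mem_swap (m2 v hv u hu')))
    (fun u hu v hv hv' => (cD.ker _ (mD u hu v hv)).2 (m2 u hu v hv'))
  have hB0 := alt_eq_zero h.ar h.cF B hz.gen (h.pow_eq_one hz) (fun x y => by
      obtain ⟨u, hu, rfl⟩ := c'.surj x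
      obtain ⟨v, hv, rfl⟩ := c'.surj y
      rw [← c'.eqv u hu, ← c'.eqv v hv, hB _ (hC u hu) _ (hC v hv), hB u hu v hv,
        ← map_commutatorElement, cD.eqv _ (mD u hu v hv)])
    (fun x => by
      obtain ⟨u, hu, rfl⟩ := c'.surj x
      rw [hB u hu u hu, commutatorElement_self]
      exact cD.one)
  obtain ⟨x, hx, hx'⟩ := cD.exists_not_mem
  refine hx' (Subgroup.commutator_le.2 (fun u hu v hv => (cD.ker _ (mD u hu v hv)).1 ?_) hx)
  rw [← hB u hu v hv, hB0]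

theorem Hig.eq_zero_of_eta [A.Normal] (hA : Inv ξ A) (hc : Comm A) {k : ℕ} (hk : Ex A (k + 1))
    {μ : F} {π : P → F} (c : Coord N ξ A C μ π) {d : F} {σ τ : F ≃+* F} (hd : d ≠ 0)
    (hτ : τ ≠ RingEquiv.refl F)
    (h1 : ∀ u ∈ C, ∀ a ∈ A, ζ (⁅u, a⁆ ^ 2 ^ k) = d * (σ (π u) * τ (ζ (a ^ 2 ^ (k + 1))))) : k = 0 := by
  by_contra hk0
  obtain ⟨j, rfl⟩ := Nat.exists_eq_succ_of_ne_zero hk0
  have cA := h.coord_ab hz hA hc hk
  have cS := h.coord_ab hz hA.sq hc.sq (hk.sq hc)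
  have m1 : ∀ g, ∀ a ∈ A, ⁅g, a⁆ ∈ Sq A := fun g a ha => h.cm_mem_Sq hz hA hc g ha
  obtain ⟨u, hu, hu1⟩ := c.surj 1
  have key : ∀ t, d * τ t = t := fun t => by
    obtain ⟨a, ha, rfl⟩ := cA.surj t
    obtain ⟨b, hb, e⟩ := hc.mem_Sq.1 (m1 u a ha)
    have e1 := hc.cm (c.sq_mem hu) ha
    rw [cm_mul_left, ← e, hc.cm_mul u hb hb, e] at e1
    have e2 : (⁅u, b⁆ * ⁅u, a⁆) ^ 2 ^ (j + 1) = 1 := by
      rw [pow_succ', pow_mul, sq, mul_mul_self, hc.cm (A.inv_mem (cm_mem u hb)) (cm_mem u ha), mul_one,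
        ← mul_assoc, e1, one_pow]
    have e3 := cS.add _ (m1 u b hb) _ (m1 u a ha)
    simp only [Nat.succ_eq_add_one] at e3 h1 ⊢
    rw [e2, hz.one, h1 u hu a ha, h1 u hu b hb, hu1, map_one, one_mul, one_mul, ← mul_add, eq_comm,
      mul_eq_zero, ← map_add, map_eq_zero_iff _ τ.injective, CharTwo.add_eq_zero] at e3
    have e4 := h1 u hu a ha
    rw [hu1, map_one, one_mul, ← e, ← sq, ← pow_mul, ← pow_succ', e3.resolve_left hd] at e4
    exact e4.symm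
  have hd1 : d = 1 := by simpa using key 1
  exact hτ (RingEquiv.ext fun t => by simpa [hd1] using key t)

omit hz in
theorem Hig.exists_normal_cover {M : Subgroup P} [hn : A.Normal] [M.Normal] (hA : Inv ξ A) (hN : Inv ξ M)
    (hAN : A ≤ M) (hne : ¬ M ≤ A) : ∃ C : Subgroup P, C.Normal ∧ Inv ξ C ∧ A ≤ C ∧ C ≤ M ∧
      (∀ u ∈ C, ∀ g, ⁅u, g⁆ ∈ A) ∧ ∃ (μ : F) (π : P → F), Coord N ξ A C μ π := by
  let B : Subgroup P :=
    { carrier := {x | x ∈ M ∧ x * x ∈ A ∧ ∀ g, ⁅x, g⁆ ∈ A}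
      one_mem' := ⟨M.one_mem, by simp, fun g => by simp⟩
      mul_mem' := fun {x y} hx hy => ⟨M.mul_mem hx.1 hy.1, by
        rw [mul_mul_self]
        exact A.mul_mem (A.mul_mem hx.2.1 (cm_mem_swap (hy.2.2 _))) hy.2.1, fun g => by
        rw [cm_mul_left]
        exact A.mul_mem (A.mul_mem (hx.2.2 _) (hy.2.2 _)) (hx.2.2 _)⟩
      inv_mem' := fun {x} hx => ⟨M.inv_mem hx.1, by rw [← mul_inv_rev]; exact A.inv_mem hx.2.1, fun g => by
        have := hn.conj_mem _ (A.inv_mem (hx.2.2 g)) x⁻¹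
        convert this using 1
        simp only [commutatorElement_def]; group⟩ }
  have hB : Inv ξ B := fun x hx => ⟨hN x hx.1, by rw [← map_mul]; exact hA _ hx.2.1, fun g => by
    obtain ⟨g, rfl⟩ := ξ.surjective g
    rw [← map_commutatorElement]
    exact hA _ (hx.2.2 g)⟩
  obtain ⟨x, hx, hxA, hx2, hx3⟩ := H5.exists_step h.two A M hne
  have hAB : A ≤ B := fun a ha => ⟨hAN ha, A.mul_mem ha ha, fun g => cm_mem_swap (cm_mem g ha)⟩
  obtain ⟨C, hC, hAC, hCB, hco⟩ := h.exists_cover hA hB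
    (lt_of_le_of_ne hAB fun e => hxA (e.ge ⟨hx, by rwa [← sq], hx3⟩)) fun x hx => hx.2.1
  refine ⟨C, ⟨fun u hu g => ?_⟩, hC, hAC, fun u hu => (hCB hu).1, fun u hu => (hCB hu).2.2, hco⟩
  have := C.mul_mem (hAC (cm_mem_swap ((hCB hu).2.2 g))) hu
  rwa [commutatorElement_def, inv_mul_cancel_right] at this

omit hz [CharP F 2] in
theorem Hig.inv_cm (T : Subgroup P) (hT : Inv ξ T) : ∃ S : Subgroup P, Inv ξ S ∧
    ∀ x, x ∈ S ↔ ∀ y ∈ T, ⁅x, y⁆ ∈ Om P := by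
  haveI := h.Om_normal
  refine ⟨{ carrier := {x | ∀ y ∈ T, ⁅x, y⁆ ∈ Om P}
            one_mem' := fun y _ => by simp
            mul_mem' := fun {x x'} hx hx' y hy => ?_
            inv_mem' := fun {x} hx y hy => ?_ }, fun x hx y hy => ?_, fun x => Iff.rfl⟩
  · rw [cm_mul_left]
    exact Subgroup.mul_mem _ (Subgroup.mul_mem _ (cm_mem _ (hx' y hy)) (hx' y hy)) (hx y hy)
  · have := h.Om_normal.conj_mem _ (Subgroup.inv_mem _ (hx y hy)) x⁻¹
    convert this using 1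
    simp only [commutatorElement_def]; group
  · obtain ⟨y, hy', rfl⟩ := hT.surj hy
    rw [← map_commutatorElement]
    exact inv_Om _ (hx y hy')

omit hz [CharP F 2] in
theorem Hig.cm_sq_left {x y : P} (hm : ⁅x, y⁆ ∈ Om P) : ⁅x * x, y⁆ = 1 := by
  rw [cm_mul_left, mul_assoc, h.mem_Om.1 hm, mul_one]
  exact commutatorElement_eq_one_iff_mul_comm.2 (h.Om_comm hm x).symm

omit hz in
/-- **Higman**: in a non-abelian Suzuki 2-group all squares are central involutions or trivial. -/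
theorem Hig.sq_mem_Om (hna : ∃ x y : P, x * y ≠ y * x) (x : P) : x * x ∈ Om P := by
  haveI : Nontrivial P := by
    obtain ⟨x, y, e⟩ := hna
    exact ⟨_, _, e⟩
  obtain ⟨l, ζ, hz⟩ := h.exists_coord_Om
  haveI := h.Om_normal
  obtain ⟨A, hO, ⟨hn, hA, hc⟩, hmax⟩ := Set.Finite.exists_le_maximal
    (s := {A : Subgroup P | A.Normal ∧ Inv ξ A ∧ Comm A}) (Set.toFinite _)
    (a := Om P) ⟨h.Om_normal, inv_Om, fun x hx y _ => h.Om_comm hx y⟩
  have hnc : ∀ (C : Subgroup P) (μ : F) (π : P → F), C.Normal → Inv ξ C → A ≤ C → Coord N ξ A C μ π →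
      ¬ Comm C := fun C μ π h1 h2 h3 c h4 => by
    obtain ⟨u, hu, huA⟩ := c.exists_not_mem
    exact huA (hmax (y := C) ⟨h1, h2, h4⟩ h3 hu)
  have hO1 : Om P ≠ ⊥ := fun e => by
    obtain ⟨u, hu, hu1⟩ := hz.exists_not_mem
    exact hu1 (e ▸ hu)
  obtain ⟨k, hk⟩ := exists_Ex h.two (A := A) fun e => hO1 (le_bot_iff.1 (e ▸ hO))
  rcases k with _ | k
  · have hAO : A ≤ Om P := fun a ha => h.mem_Om.2 (by simpa using hk.pow_mul_self ha)
    by_contra hx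
    haveI := Sq_normal (A := (⊤ : Subgroup P))
    have hxS : x * x ∈ Sq (⊤ : Subgroup P) := mul_self_mem_Sq trivial
    obtain ⟨C, h1, h2, h3, h4, h5, μ, π, c⟩ := h.exists_normal_cover (M := Sq ⊤) hA inv_top.sq
      (hAO.trans (h.Om_le inv_top.sq fun e => hx (by
        rw [e, Subgroup.mem_bot] at hxS; rw [hxS]; exact Subgroup.one_mem _))) fun e => hx (hAO (e hxS))
    refine hnc C μ π h1 h2 h3 c fun u hu v hv => ?_
    have : Sq ⊤ ≤ Subgroup.centralizer {v} := (Subgroup.closure_le _).2 (by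
      rintro _ ⟨g, -, rfl⟩
      rw [SetLike.mem_coe, Subgroup.mem_centralizer_singleton_iff]
      exact commutatorElement_eq_one_iff_mul_comm.1 (h.cm_sq_left (cm_mem_swap (hAO (h5 v hv g)))))
    exact Subgroup.mem_centralizer_singleton_iff.1 (this (h4 hu))
  have hη := fun (C : Subgroup P) (μ : F) (π : P → F) (h1 : C.Normal) (h2 : Inv ξ C) (h3 : A ≤ C)
    (c : Coord N ξ A C μ π) => (h.eta hz hA hc hk h2 c).resolve_left fun h0 =>
      hnc C μ π h1 h2 h3 c (h.comm_of_eta hz hA hc hk h2 h3 c h0)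
  obtain rfl : k = 0 := by
    obtain ⟨C, h1, h2, h3, -, -, μ, π, c⟩ := h.exists_normal_cover (M := ⊤) hA inv_top le_top fun e => by
      obtain ⟨x, y, e'⟩ := hna
      exact e' (hc x (e trivial) y (e trivial))
    obtain ⟨d, σ, τ, hd, hτ, h4, -⟩ := hη C μ π h1 h2 h3 c
    exact h.eq_zero_of_eta hz hA hc hk c hd hτ h4
  simp only [pow_zero, pow_one, zero_add] at hη
  have cA := h.coord_ab hz hA hc hk
  simp only [pow_one, zero_add] at cA
  have hSO : Sq A ≤ Om P := fun a ha => h.mem_Om.2 (by simpa using (hk.sq hc).pow_mul_self ha)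
  have hOS : Om P ≤ Sq A := h.Om_le hA.sq (hk.sq hc).ne_bot
  have m1 : ∀ g, ∀ a ∈ A, ⁅g, a⁆ ∈ Om P := fun g a ha => hSO (h.cm_mem_Sq hz hA hc g ha)
  have hcent : Subgroup.centralizer (A : Set P) ≤ A := by
    by_contra hne
    obtain ⟨C, h1, h2, h3, h4, -, μ, π, c⟩ := h.exists_normal_cover (M := Subgroup.centralizer (A : Set P))
      hA (fun g hg => Subgroup.mem_centralizer_iff.2 fun a ha => by
        obtain ⟨a, ha', rfl⟩ := hA.surj ha
        rw [← map_mul, ← map_mul, Subgroup.mem_centralizer_iff.1 hg a ha'])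
      (fun a ha => Subgroup.mem_centralizer_iff.2 fun b hb => hc b hb a ha) hne
    obtain ⟨d, σ, τ, hd, -, h5, -⟩ := hη C μ π h1 h2 h3 c
    obtain ⟨u, hu, hu1⟩ := c.surj 1
    obtain ⟨a, ha, ha1⟩ := cA.surj 1
    have := h5 u hu a ha
    rw [hu1, ha1, commutatorElement_eq_one_iff_mul_comm.2
      (Subgroup.mem_centralizer_iff.1 (h4 hu) a ha).symm, hz.one] at this
    exact hd (by simpa using this.symm)
  have hsq : ∀ g : P, g * g ∈ A := fun g => hcent (Subgroup.mem_centralizer_iff.2 fun a ha =>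
    (commutatorElement_eq_one_iff_mul_comm.1 (h.cm_sq_left (m1 g a ha))).symm)
  have hcm : ∀ g u : P, ⁅g, u⁆ ∈ A := fun g u => by
    have := A.mul_mem (A.mul_mem (hsq (g * u)) (hsq (u⁻¹ * g⁻¹ * u))) (hsq u⁻¹)
    convert this using 1
    simp only [commutatorElement_def]; group
  have hnorm : ∀ C : Subgroup P, A ≤ C → C.Normal := fun C hC => ⟨fun u hu g => by
    have := C.mul_mem (hC (hcm g u)) hu
    rwa [commutatorElement_def, inv_mul_cancel_right] at this⟩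
  have hsqC : ∀ (C : Subgroup P) (μ : F) (π : P → F), Inv ξ C → A ≤ C → Coord N ξ A C μ π →
      ∀ u ∈ C, u * u ∈ Om P := fun C μ π h2 h3 c u hu => by
    obtain ⟨d, σ, τ, hd, -, h5, -⟩ := hη C μ π (hnorm C h3) h2 h3 c
    have := h5 u hu _ (hsq u)
    rw [commutatorElement_eq_one_iff_mul_comm.2 (mul_assoc u u u).symm, hz.one, eq_comm, mul_eq_zero,
      mul_eq_zero, map_eq_zero_iff _ σ.injective, map_eq_zero_iff _ τ.injective] at this
    rcases this.resolve_left hd with e | e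
    · exact hSO (mul_self_mem_Sq ((c.ker u hu).1 e))
    · exact hSO ((cA.ker _ (hsq u)).1 e)
  have hinv : ∀ g w : P, w ∈ A → g * w * g⁻¹ = w⁻¹ → ζ ⁅g, w⁆ = ζ (w ^ 2) := fun g w hw e => by
    rw [commutatorElement_def, e, ← mul_inv_rev, hz.inv (hSO (mul_self_mem_Sq hw)), CharTwo.neg_eq, sq]
  have hcov : ∀ (X : Subgroup P) (μ : F) (π : P → F), Inv ξ X → A ≤ X → Coord N ξ A X μ π →
      ∀ (Y : Subgroup P) (μ' : F) (π' : P → F), Inv ξ Y → A ≤ Y → Coord N ξ A Y μ' π' →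
      ∀ x ∈ X, ∀ y ∈ Y, ⁅x, y⁆ ∈ Om P := fun X μ π hX hAX c Y μ' π' hY hAY c' x hx => by
    obtain ⟨d, σ, τ, -, -, h5, h6⟩ := hη X μ π (hnorm X hAX) hX hAX c
    obtain ⟨d', σ', τ', hd', -, h5', -⟩ := hη Y μ' π' (hnorm Y hAY) hY hAY c'
    have k1 : ∀ y ∈ Y, ⁅x, y⁆ ∉ Om P → ∃ t, t ≠ 0 ∧ t = d * (σ (π x) * τ t) ∧
        t = d' * (σ' (π' y) * τ' t) := fun y hy hb => by
      refine ⟨ζ (⁅x, y⁆ ^ 2), fun e => hb (hSO ((cA.ker _ (hcm x y)).1 e)), ?_, ?_⟩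
      · rw [← h5 x hx _ (hcm x y), hinv x _ (hcm x y)]
        have := commutatorElement_eq_one_iff_mul_comm.2 (h.Om_comm (hsqC X μ π hX hAX c x hx) y)
        rw [cm_mul_left, mul_eq_one_iff_eq_inv] at this
        rw [← this, commutatorElement_def x ⁅x, y⁆, inv_mul_cancel_right]
      · rw [← h5' y hy _ (hcm x y), hinv y _ (hcm x y)]
        have := commutatorElement_eq_one_iff_mul_comm.2 (h.Om_comm (hsqC Y μ' π' hY hAY c' y hy) x).symm
        rw [cm_mul_right, mul_assoc, mul_eq_one_iff_inv_eq] at this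
        rw [this, commutatorElement_def y ⁅x, y⁆, inv_mul_cancel_right]
    have k2 : ∀ y ∈ Y, ∀ y' ∈ Y, ⁅x, y⁆ ∉ Om P → π' y' ≠ π' y → ⁅x, y'⁆ ∈ Om P :=
      fun y hy y' hy' hb hne => by
        by_contra hb'
        obtain ⟨t, ht, e1, e2⟩ := k1 y hy hb
        obtain ⟨t', ht', e1', e2'⟩ := k1 y' hy' hb'
        have hd0 : d * σ (π x) ≠ 0 := fun e => ht (by rw [e1, ← mul_assoc, e, zero_mul])
        obtain rfl : t = t' := h6 t t' ht ht' (mul_left_cancel₀ hd0 (by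
          linear_combination t * e1' - t' * e1))
        exact hne (σ'.injective (mul_right_cancel₀ ((map_ne_zero τ').2 ht)
          (mul_left_cancel₀ hd' (e2'.symm.trans e2))))
    intro y hy
    by_contra hb
    obtain ⟨s, hs0, -, hs⟩ := exists_ne_zero_one h.four (π' y)
    obtain ⟨y', hy', rfl⟩ := c'.surj s
    have e1 := k2 y hy y' hy' hb hs
    have e2 := k2 y hy _ (Y.mul_mem hy hy') hb (by rw [c'.add y hy y' hy']; simpa using hs0)
    rw [cm_mul_right, mul_assoc] at e2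
    exact hb ((Subgroup.mul_mem_cancel_right _ (Subgroup.mul_mem _ (cm_mem y e1) e1)).1 e2)
  have hall : ∀ g y : P, ⁅g, y⁆ ∈ Om P := by
    obtain ⟨T, hT, hT'⟩ := h.inv_cm ⊤ inv_top
    have := h.le_of_covers hA inv_top hT le_top
      (fun a ha => (hT' a).2 fun y _ => cm_mem_swap (m1 y a ha)) (fun g _ => hsq g)
      fun Y μ' π' hY hAY _ c' y hy => (hT' y).2 fun g _ => by
        obtain ⟨T₁, hT₁, hT₁'⟩ := h.inv_cm Y hY
        have := h.le_of_covers hA inv_top hT₁ le_top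
          (fun a ha => (hT₁' a).2 fun y _ => cm_mem_swap (m1 y a ha)) (fun g _ => hsq g)
          fun X μ π hX hAX _ c x hx => (hT₁' x).2 (hcov X μ π hX hAX c Y μ' π' hY hAY c' x hx)
        exact cm_mem_swap ((hT₁' g).1 (this trivial) y hy)
    exact fun g y => (hT' g).1 (this trivial) y trivial
  let T : Subgroup P :=
    { carrier := {g | g * g ∈ Om P}
      one_mem' := by simp
      mul_mem' := fun {g y} hg hy => by
        change _ ∈ Om P
        rw [mul_mul_self]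
        exact Subgroup.mul_mem _ (Subgroup.mul_mem _ hg (hall _ _)) hy
      inv_mem' := fun {g} hg => by
        change _ ∈ Om P
        rw [← mul_inv_rev]; exact Subgroup.inv_mem _ hg }
  exact h.le_of_covers (T := T) hA inv_top (fun g hg => by
      change _ ∈ Om P
      rw [← map_mul]; exact inv_Om _ hg) le_top (fun a ha => hSO (mul_self_mem_Sq ha)) (fun g _ => hsq g)
    (fun X μ π hX hAX _ c => hsqC X μ π hX hAX c) trivial

omit hz in
theorem Hig.center_eq (hna : ∃ x y : P, x * y ≠ y * x) : Subgroup.center P = Om P := by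
  refine le_antisymm ?_ fun z hz => Subgroup.mem_center_iff.2 fun g => (h.Om_comm hz g).symm
  by_contra hne
  obtain ⟨z, hz, hzO⟩ := SetLike.not_le_iff_exists.1 hne
  have hZ : Inv ξ (Subgroup.center P) := fun z hz => Subgroup.mem_center_iff.2 fun g => by
    obtain ⟨g, rfl⟩ := ξ.surjective g
    rw [← map_mul, ← map_mul, Subgroup.mem_center_iff.1 hz g]
  have hc : Comm (Subgroup.center P) := fun x _ y hy => Subgroup.mem_center_iff.1 hy x
  have hO := h.Om_le hZ.sq fun e => hzO (h.mem_Om.2 (Subgroup.mem_bot.1 (e ▸ mul_self_mem_Sq hz)))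
  obtain ⟨x, y, e⟩ := hna
  obtain ⟨w, hw, e'⟩ := hc.mem_Sq.1 (hO (h.sq_mem_Om ⟨x, y, e⟩ x))
  have : w⁻¹ * x ∈ Om P := h.mem_Om.2 (by
    calc w⁻¹ * x * (w⁻¹ * x) = w⁻¹ * (x * w⁻¹) * x := by group
      _ = (w * w)⁻¹ * (x * x) := by
        rw [Subgroup.mem_center_iff.1 ((Subgroup.center P).inv_mem hw) x]; group
      _ = 1 := by rw [e', inv_mul_cancel])
  have h1 := h.Om_comm this y
  apply e
  calc x * y = w * (w⁻¹ * x * y) := by group
    _ = y * x := by rw [h1, ← mul_assoc, ← Subgroup.mem_center_iff.1 hw y]; group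

end H76.Shaw
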