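import Mathlib
import Cfsg.Agent.Base
import Cfsg.Agent.Lib.FGS.Shaw4
import Cfsg.Agent.Lib.PGroup.Frattini
import Cfsg.Agent.Lib.Core.CoprimeNorm

/-! 2-groups with a group of automorphisms that is transitive on the involutions. -/

set_option autoImplicit false
set_option linter.style.haveILetI false
set_option linter.unusedSectionVars false

namespace H76.Shaw

open H13.Hig hiding Hig Coord surj_of_gen descend
open Subgroup
open scoped commutatorElement

variable {P : Type*} [Group P] [Finite P] {Y : Subgroup (MulAut P)}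

structure Tr (Y : Subgroup (MulAut P)) : Prop where
  two : IsPGroup 2 P
  trans : ∀ x y : P, x ≠ 1 → x * x = 1 → y ≠ 1 → y * y = 1 → ∃ a ∈ Y, a x = y

variable (h : Tr Y)
include h

theorem Tr.cen (x : P) (hx : x * x = 1) (g : P) : x * g = g * x := by
  by_cases h1 : x = 1
  · rw [h1, one_mul, mul_one]
  obtain ⟨z, -, hz, ho⟩ := H5.exists_mem_center_orderOf_eq h.two ⊤
    (fun e => h1 (mem_bot.1 (e.le trivial)))
  obtain ⟨a, -, rfl⟩ := h.trans z x (fun e => by simp [e] at ho)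
    (by rw [← sq, ← ho, pow_orderOf_eq_one]) h1 hx
  obtain ⟨g, rfl⟩ := a.surjective g
  rw [← map_mul, ← map_mul, mem_center_iff.1 hz g]

theorem Tr.mem_Om {x : P} : x ∈ Om P ↔ x * x = 1 := by
  refine ⟨fun hx => ?_, fun hx => subset_closure hx⟩
  induction hx using closure_induction with
  | mem x hx => exact hx
  | one => exact mul_one 1
  | mul x y _ _ hx hy =>
    calc x * y * (x * y) = x * (y * x) * y := by group
      _ = (x * x) * (y * y) := by rw [← h.cen x hx y]; group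
      _ = 1 := by rw [hx, hy, one_mul]
  | inv x _ hx => rw [← mul_inv_rev, hx, inv_one]

theorem Tr.small {α : MulAut P} (hα : α ∈ Y) {r : ℕ} (hr : Odd r) (h1 : α ^ r = 1) (h2 : α ≠ 1) :
    ∃ X : Subgroup P, (∀ y ∈ Y, Inv y X) ∧ (¬ ∀ x ∈ X, α x = x) ∧
      Om P ≤ X ∧ Nat.card X ∣ Nat.card (Om P) ^ 3 := by
  obtain ⟨X, ⟨hX, hn⟩, hmin⟩ := Set.Finite.exists_minimal
    (s := {X : Subgroup P | (∀ y ∈ Y, Inv y X) ∧ ¬ ∀ x ∈ X, α x = x}) (Set.toFinite _)
    ⟨⊤, fun _ _ => inv_top, fun e => h2 (MulEquiv.ext fun x => e x trivial)⟩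
  have lt : ∀ T, (∀ y ∈ Y, Inv y T) → T ≤ X → ¬ X ≤ T → ∀ x ∈ T, α x = x := fun T a b c =>
    by_contra fun d => c (hmin (y := T) ⟨a, d⟩ b)
  have key : ∀ T, (∀ y ∈ Y, Inv y T) → T ≤ X → (∀ x ∈ X, x⁻¹ * α x ∈ T) → X ≤ T := fun T a b c => by
    by_contra d
    refine hn fun x hx => ?_
    have e := lt T a b d _ (c x hx)
    have : ∀ i : ℕ, (α ^ i) x = x * (x⁻¹ * α x) ^ i := fun i => by
      induction i with
      | zero => simp
      | succ i ih =>
        rw [pow_succ', MulAut.mul_apply, ih, map_mul, map_pow, e, pow_succ', ← mul_assoc,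
          mul_inv_cancel_left]
    have e2 := this r
    rw [h1, MulAut.one_apply, left_eq_mul] at e2
    obtain ⟨k, hk⟩ := h.two (x⁻¹ * α x)
    have := Nat.eq_one_of_dvd_coprimes (hr.coprime_two_right.pow_right k)
      (orderOf_dvd_of_pow_eq_one e2) (orderOf_dvd_of_pow_eq_one hk)
    exact (inv_mul_eq_one.1 (orderOf_eq_one_iff.1 this)).symm
  have X1 : X ≠ ⊥ := by
    rintro rfl
    exact hn fun x hx => by rw [mem_bot.1 hx, map_one]
  have hD : ∀ d ∈ Sq X, α d = d := lt _ (fun y hy => (hX y hy).sq) (Sq_le X) fun e => by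
    haveI := (nontrivial_iff_ne_bot X).2 X1
    refine H5.frattini_ne_top (G := X) (eq_top_iff.2 fun x _ => ?_)
    have : Sq X ≤ (frattini X).map X.subtype := (closure_le _).2 (by
      rintro _ ⟨a, ha, rfl⟩
      exact sq a ▸ H5.pow_mem_map_frattini (h.two.to_subgroup X) ha)
    obtain ⟨y, hy, e'⟩ := this (e x.2)
    rwa [← Subtype.ext e']
  have cm : ∀ g ∈ X, ∀ u ∈ X, ⁅g, u⁆ ∈ Sq X := fun g hg u hu => by
    have := mul_mem (mul_mem (mul_self_mem_Sq (mul_mem hg hu))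
      (mul_self_mem_Sq (mul_mem (mul_mem (inv_mem hu) (inv_mem hg)) hu))) (mul_self_mem_Sq (inv_mem hu))
    convert this using 1
    simp only [commutatorElement_def]; group
  have hc : X ≤ X ⊓ centralizer (Sq X : Set P) := key _
    (fun y hy x hx => ⟨hX y hy x hx.1, fun d hd => by
      obtain ⟨d, hd', rfl⟩ := (hX y hy).sq.surj hd
      rw [← map_mul, ← map_mul, hx.2 d hd']⟩) inf_le_left fun x hx =>
    ⟨X.mul_mem (X.inv_mem hx) (hX α hα x hx), fun d hd => by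
      have := hD _ (mul_mem (cm x hx d (Sq_le X hd)) hd)
      rw [commutatorElement_def, inv_mul_cancel_right, map_mul, map_mul, map_inv, hD d hd] at this
      calc d * (x⁻¹ * α x) = x⁻¹ * (x * d * x⁻¹) * α x := by group
        _ = _ := by rw [← this]; group⟩
  have c : ∀ d ∈ Sq X, ∀ x ∈ X, Commute d x := fun d hd x hx => (hc hx).2 d hd
  have q : ∀ u ∈ X, ∀ v ∈ X, (u * v) ^ 4 = u ^ 4 * v ^ 4 := fun u hu v hv => by
    have m := cm _ (inv_mem hu) v hv
    have e1 := commutatorElement_eq_one_iff_commute.2 (c _ (mul_self_mem_Sq (inv_mem hu)) v hv)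
    rw [cm_mul_left, commutatorElement_eq_one_iff_commute.2 (c _ m _ (inv_mem hu)).symm, one_mul] at e1
    have e : ∀ x : P, x ^ 4 = (x * x) ^ 2 := fun x => by rw [← sq, ← pow_mul]
    rw [e, e, e, mul_mul_self, (c _ (mul_mem (mul_self_mem_Sq hu) m) _ (mul_mem hv hv)).mul_pow,
      (c _ (mul_self_mem_Sq hu) _ (Sq_le X m)).mul_pow, sq ⁅u⁻¹, v⁆, e1, mul_one]
  let T : Subgroup P :=
    { carrier := {x | x ∈ X ∧ x ^ 4 = 1}
      one_mem' := ⟨one_mem X, one_pow _⟩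
      mul_mem' := fun {u v} hu hv => ⟨mul_mem hu.1 hv.1, by rw [q u hu.1 v hv.1, hu.2, hv.2, one_mul]⟩
      inv_mem' := fun {u} hu => ⟨inv_mem hu.1, by rw [inv_pow, hu.2, inv_one]⟩ }
  have h4 : X ≤ T := key T (fun y hy x hx => ⟨hX y hy x hx.1, by rw [← map_pow, hx.2, map_one]⟩)
    (fun x hx => hx.1) fun x hx => ⟨mul_mem (inv_mem hx) (hX α hα x hx), by
      rw [q _ (inv_mem hx) _ (hX α hα x hx), ← map_pow, hD, inv_pow, inv_mul_cancel]
      rw [show x ^ 4 = x ^ 2 * x ^ 2 by group]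
      exact mul_self_mem_Sq (pow_mem hx 2)⟩
  obtain ⟨x, hx, x1⟩ := (bot_or_exists_ne_one X).resolve_left X1
  obtain ⟨j, j1, j2⟩ := exists_inv_mem h.two x1
  have hO : Om P ≤ X := fun z hz => by
    by_cases z1 : z = 1
    · rw [z1]; exact one_mem X
    obtain ⟨a, ha, rfl⟩ := h.trans _ z j1 j2 z1 (h.mem_Om.1 hz)
    exact hX a ha _ (pow_mem hx _)
  refine ⟨X, hX, hn, hO, ?_⟩
  have := card_of_sq ((Om P).subgroupOf X) (fun x => h.mem_Om.trans (by simp [Subtype.ext_iff]))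
    (fun z hz g => Subtype.ext (h.cen _ (h.mem_Om.1 hz) _))
    (fun x => h.mem_Om.2 (by rw [← (h4 x.2).2]; simp only [coe_subtype, coe_mul, pow_succ, pow_zero, one_mul, mul_assoc]))
    (fun e => j1 (congrArg Subtype.val (mem_bot.1 (e.le (x := ⟨_, pow_mem hx _⟩) (h.mem_Om.2 j2)))))
    fun z hz z' hz' a b => by
      obtain ⟨y, hy, e⟩ := h.trans z z' (by simpa using a) (h.mem_Om.1 hz) (by simpa using b)
        (h.mem_Om.1 hz')
      exact ⟨H2.subAut Y.subtype X (fun y => hX y y.2) ⟨y, hy⟩, Subtype.ext e⟩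
  rw [Nat.card_congr (subgroupOfEquivOfLe hO).toEquiv] at this
  rcases this with e | e | e <;> rw [e]
  · exact dvd_pow_self _ three_ne_zero
  · exact pow_dvd_pow _ (by norm_num)

theorem Tr.ord {n N k : ℕ} (ha : Ar n N) (cO : Nat.card (Om P) = 2 ^ n) {ξ : MulAut P} (hξ : ξ ∈ Y)
    (fpf : ∀ i : ℕ, ¬ (N ∣ i) → ∀ x, (ξ ^ i) x = x → x = 1) (fix : ∀ x, x * x = 1 → (ξ ^ N) x = x)
    (hk : ξ ^ N ^ k = 1) : ξ ^ (2 ^ n - 1) = 1 := by
  rw [← orderOf_dvd_iff_pow_eq_one]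
  refine (Nat.dvd_iff_prime_pow_dvd_dvd _ _).2 fun r t hr ⟨m, hm⟩ => by_contra fun hn => ?_
  obtain ⟨t, rfl⟩ := Nat.exists_eq_succ_of_ne_zero (show t ≠ 0 by rintro rfl; simp at hn)
  have rN : r ∣ N := hr.dvd_of_dvd_pow (((dvd_pow_self r t.succ_ne_zero).trans ⟨m, hm⟩).trans
    (orderOf_dvd_of_pow_eq_one hk))
  have rq := rN.trans ha.dvd
  have n2 := ha.two
  have q1 : 1 ≤ 2 ^ n := Nat.one_le_two_pow
  have r2 : r.Coprime 2 := (Nat.coprime_primes hr Nat.prime_two).2 (by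
    rintro rfl
    have : 2 ∣ 2 ^ n := dvd_pow_self 2 (by omega)
    omega)
  have o0 := orderOf_pos ξ
  have m0 : 0 < m := Nat.pos_of_ne_zero (by rintro rfl; omega)
  have hN : N ∣ orderOf ξ := by_contra fun e => by
    have : Om P = ⊥ := eq_bot_iff.2 fun x _ => fpf _ e x (by rw [pow_orderOf_eq_one]; rfl)
    rw [this, card_bot] at cO
    exact absurd (Nat.one_lt_two_pow (by omega : n ≠ 0)) (by omega)
  have hN' : N ∣ m * r ^ t := by
    obtain ⟨e, N', h1, rfl⟩ := Nat.exists_eq_pow_mul_and_not_dvd (n := N)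
      (by rintro rfl; omega) r hr.ne_one
    have e1 : e ≤ t := by_contra fun h2 => hn (((pow_dvd_pow r (by omega)).mul_right _).trans ha.dvd)
    rw [mul_comm]
    refine mul_dvd_mul ?_ (pow_dvd_pow r e1)
    exact (((Nat.Prime.coprime_iff_not_dvd hr).2 h1).symm.pow_right _).dvd_of_dvd_mul_left
      (hm ▸ (Dvd.intro_left _ rfl).trans hN)
  obtain ⟨X, hX, hne, hO, hc⟩ := h.small (pow_mem hξ (m * r ^ t)) (Nat.coprime_two_right.1 r2)
    (by rw [← pow_mul, mul_assoc, ← pow_succ, mul_comm, ← hm, pow_orderOf_eq_one])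
    (fun e => by
      have := Nat.le_of_dvd (by have := hr.pos; positivity) (orderOf_dvd_of_pow_eq_one e)
      rw [hm, pow_succ] at this
      have : 0 < m * r ^ t := by have := hr.pos; positivity
      nlinarith [hr.two_le])
  set α := ξ ^ (m * r ^ t) with hα
  have cmt : ∀ (i : ℕ) x, α ((ξ ^ i) x) = (ξ ^ i) (α x) := fun i x =>
    DFunLike.congr_fun (Commute.pow_pow_self ξ _ i).eq x
  let C := X ⊓ (α : P →* P).eqLocus (MonoidHom.id P)
  have iC : Inv ξ C := fun x hx => ⟨hX ξ hξ x hx.1, by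
    have := cmt 1 x
    rw [pow_one, show α x = x from hx.2] at this
    exact this⟩
  have hd := dvd_card_of_perm' (MulAut.toPerm P (ξ ^ m)) (N := r ^ (t + 1))
    (p := fun x => x ∈ X ∧ x ∉ C)
    (fun x => and_congr (Inv.iff ((hX ξ hξ).pow m) x) (Inv.iff (iC.pow m) x).not)
    fun x hx i e => by_contra fun hi => hx.2 ⟨hx.1, by
      rw [← map_pow] at e
      have d1 := MulAction.pow_smul_eq_iff_period_dvd.1 (show (ξ ^ m) ^ i • x = x from e)
      have d2 := MulAction.pow_smul_eq_iff_period_dvd.1 (show (ξ ^ m) ^ r ^ (t + 1) • x = x by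
        rw [← pow_mul, mul_comm, ← hm, pow_orderOf_eq_one, one_smul])
      obtain ⟨s, hs, e2⟩ := (Nat.dvd_prime_pow hr).1 d2
      have : s ≠ t + 1 := fun e3 => hi (by rwa [e2, e3] at d1)
      have := MulAction.pow_smul_eq_iff_period_dvd.2 (e2 ▸ pow_dvd_pow r (by omega : s ≤ t))
      rwa [← pow_mul] at this⟩
  have hcard : Nat.card {x // x ∈ X ∧ x ∉ C} = Nat.card X - Nat.card C :=
    Set.ncard_sdiff (s := (C : Set P)) (t := (X : Set P)) inf_le_left
  obtain ⟨a, ea⟩ := IsPGroup.iff_card.1 (h.two.to_subgroup X)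
  obtain ⟨c, ec⟩ := IsPGroup.iff_card.1 (h.two.to_subgroup C)
  obtain ⟨a, rfl⟩ := ha.dvd_of_dvd (ea ▸ dvd_card_sub_one fpf (hX ξ hξ))
  obtain ⟨c, rfl⟩ := ha.dvd_of_dvd (ec ▸ dvd_card_sub_one fpf iC)
  have l1 : n * c < n * a := (Nat.pow_lt_pow_iff_right one_lt_two).1 (by
    rw [← ea, ← ec]
    refine lt_of_le_of_ne (card_le_of_le inf_le_left) fun e => hne fun x hx => ?_
    exact ((eq_of_le_of_card_ge inf_le_left e.ge).ge hx).2)
  have l2 : n * a ≤ n * 3 := (Nat.pow_dvd_pow_iff_le_right one_lt_two).1 (by rwa [ea, cO, ← pow_mul] at hc)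
  have l3 : n * 1 ≤ n * c := (Nat.pow_le_pow_iff_right one_lt_two).1 (by
    rw [mul_one, ← cO, ← ec]
    refine card_le_of_le fun x hx => ⟨hO hx, ?_⟩
    obtain ⟨j, hj⟩ := hN'
    show α x = x
    rw [hα, hj, pow_mul]
    exact MulAction.pow_smul_eq_iff_period_dvd.2 ((MulAction.pow_smul_eq_iff_period_dvd.1
      (show (ξ ^ N) ^ 1 • x = x by simpa using fix x (h.mem_Om.1 hx))).trans (one_dvd _)))
  have n0 : 0 < n := by omega
  rw [Nat.mul_lt_mul_left n0] at l1
  rw [Nat.mul_le_mul_left_iff n0] at l2 l3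
  obtain ⟨w, rfl⟩ := Nat.exists_eq_add_of_lt l1
  rw [hcard, ea, ec, add_assoc, mul_add, pow_add 2, ← Nat.mul_sub_one] at hd
  have hd' := ((r2.pow_right _).pow_left _).dvd_of_dvd_mul_left hd
  obtain rfl | rfl : w = 0 ∨ w = 1 := by omega
  · exact hn (by simpa using hd')
  · rw [show 2 ^ (n * (1 + 1)) - 1 = (2 ^ n + 1) * (2 ^ n - 1) by
      rw [← Nat.sq_sub_sq, pow_mul, one_pow]] at hd'
    refine hn (Nat.Coprime.dvd_of_dvd_mul_left (Nat.Coprime.pow_left _ ?_) hd')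
    refine (Nat.Prime.coprime_iff_not_dvd hr).2 fun d => (Nat.Prime.coprime_iff_not_dvd hr).1 r2 ?_
    have := Nat.dvd_sub d rq
    rwa [show 2 ^ n + 1 - (2 ^ n - 1) = 2 by omega] at this

end H76.Shaw
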