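import Mathlib
import Cfsg.Agent.Base
import Cfsg.Agent.Lib.FGS.Shaw5
import Cfsg.Agent.S3360

/-! A solvable group transitive on the involutions of a 2-group contains a large cyclic group. -/

set_option autoImplicit false
set_option linter.style.haveILetI false
set_option linter.unusedSectionVars false

namespace H76.Shaw

open H13.Hig hiding Hig Coord surj_of_gen descend
open Subgroup

theorem exists_coprime_part {N : ℕ} (o : ℕ) (ho : o ≠ 0) : ∃ j k : ℕ, N.Coprime j ∧ o ∣ j * N ^ k := by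
  induction o using Nat.strong_induction_on with
  | _ o ih =>
    by_cases c : N.Coprime o
    · exact ⟨o, 0, c, by simp⟩
    obtain ⟨m, hm⟩ := Nat.gcd_dvd_right N o
    have g0 := Nat.gcd_pos_of_pos_right N (Nat.pos_of_ne_zero ho)
    have m0 : m ≠ 0 := by rintro rfl; omega
    obtain ⟨j, k, h1, h2⟩ := ih m (by
      have : 2 ≤ N.gcd o := by unfold Nat.Coprime at c; omega
      nlinarith [Nat.pos_of_ne_zero m0]) m0
    refine ⟨j, k + 1, h1, ?_⟩
    rw [hm, pow_succ, ← mul_assoc, mul_comm]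
    exact mul_dvd_mul h2 (Nat.gcd_dvd_left _ _)

variable {P : Type*} [Group P] [Finite P] {Y : Subgroup (MulAut P)} (h : Tr Y)
include h

theorem Tr.semi [Group.IsSolvable Y] [Nontrivial (Om P)] :
    ∃ (F : Type) (_ : Field F) (_ : Fintype F) (e : Om P ≃ F), (∀ x y, e (x * y) = e x + e y) ∧
      ∀ g : Y, ∃ (a : F) (σ : F ≃+* F), ∀ v : Om P,
        e (H2.subAut Y.subtype (Om P) (fun _ => inv_Om) g v) = a * σ (e v) := by
  letI : CommGroup (Om P) := { (inferInstance : Group (Om P)) with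
    mul_comm := fun x y => Subtype.ext (h.cen _ (h.mem_Om.1 x.2) _) }
  letI : Module (ZMod 2) (Additive (Om P)) := AddCommGroup.zmodModule fun x => by
    rw [two_nsmul]; exact Subtype.ext (h.mem_Om.1 x.2)
  let φ := H2.subAut Y.subtype (Om P) (fun _ => inv_Om)
  let ρ : Y →* (Additive (Om P) ≃ₗ[ZMod 2] Additive (Om P)) :=
    { toFun := fun g => (MulEquiv.toAdditive (φ g)).toLinearEquiv (ZMod.map_smul _)
      map_one' := by ext; simp
      map_mul' := fun _ _ => by ext; simp }
  haveI : Finite ρ.range := Finite.of_surjective _ ρ.rangeRestrict_surjective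
  rcases Cfsg.Agent.S3360.result 2 (Group.isSolvable_of_surjective ρ.rangeRestrict_surjective)
    ρ.range.subtype ρ.range.subtype_injective (fun v w hv hw => by
      obtain ⟨a, ha, e⟩ := h.trans v.toMul w.toMul (fun e => hv (Subtype.ext e)) (h.mem_Om.1 v.2)
        (fun e => hw (Subtype.ext e)) (h.mem_Om.1 w.2)
      exact ⟨⟨_, ⟨a, ha⟩, rfl⟩, Subtype.ext e⟩) with ⟨F, _, _, e, he⟩ | hc
  · exact ⟨F, ‹_›, ‹_›, Additive.ofMul.trans e.toEquiv, fun x y => map_add e _ _,
      fun g => he ⟨_, g, rfl⟩⟩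
  · obtain ⟨k, hk⟩ := IsPGroup.iff_card.1 (h.two.to_subgroup (Om P))
    have h1 : 1 < Nat.card (Om P) := Finite.one_lt_card
    change Nat.card (Om P) ∈ _ at hc
    have : 2 ∣ Nat.card (Om P) := hk ▸ dvd_pow_self 2 (by rintro rfl; omega)
    simp only [Set.mem_insert_iff, Set.mem_singleton_iff] at hc
    omega

theorem Tr.exists_hig [Group.IsSolvable Y] (h3 : 2 < Nat.card (Om P)) :
    ∃ (F : Type) (_ : Field F) (_ : Fintype F) (_ : CharP F 2) (ξ : MulAut P) (n N : ℕ),
      Hig ξ F n N := by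
  haveI : Nontrivial (Om P) := Finite.one_lt_card_iff_nontrivial.1 (by omega)
  obtain ⟨F, _, _, e, add, hs⟩ := h.semi
  set φ := H2.subAut Y.subtype (Om P) (fun _ => inv_Om)
  choose a σ hs using hs
  have e1 : e 1 = 0 := left_eq_add.1 (by rw [← add, one_mul])
  obtain ⟨v, hv⟩ := e.surjective 1
  haveI : CharP F 2 := CharTwo.of_one_ne_zero_of_two_eq_zero one_ne_zero (by
    rw [← one_add_one_eq_two, ← hv, ← add, ← e1]
    exact congrArg e (Subtype.ext (h.mem_Om.1 v.2)))
  have ha : ∀ g, e (φ g v) = a g := fun g => by rw [hs, hv, map_one, mul_one]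
  have v1 : v ≠ 1 := fun e' => one_ne_zero (hv.symm.trans (e' ▸ e1))
  have a0 : ∀ g, a g ≠ 0 := fun g e' => v1 ((map_eq_one_iff _ (φ g).injective).1
    (e.injective (by rw [ha, e', e1])))
  have am : ∀ g g', a (g * g') = a g * σ g (a g') := fun g g' => by
    rw [← ha, map_mul, MulAut.mul_apply, hs, ha]
  let s : Y →* RingAut F := MonoidHom.mk' σ fun g g' => RingEquiv.ext fun x => by
    obtain ⟨w, rfl⟩ := e.surjective x
    refine mul_left_cancel₀ (a0 (g * g')) ?_
    rw [← hs, map_mul, MulAut.mul_apply, hs, hs, am, map_mul, mul_assoc]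
    rfl
  let aK : s.ker →* Fˣ := MonoidHom.mk' (fun g => Units.mk0 (a g) (a0 g)) fun g g' => Units.ext (by
    simp only [coe_mul, Units.val_mk0, Units.val_mul, am]
    rw [show σ g = 1 from g.2]; rfl)
  obtain ⟨n, cF, cA⟩ := H40.FieldAut.card_aut (F := F)
  have cO : Nat.card (Om P) = 2 ^ n := by rw [Nat.card_congr e, Nat.card_eq_fintype_card, cF]
  have n2 : 2 ≤ n := by
    by_contra hn
    rw [cO] at h3
    interval_cases n <;> omega
  have i1 : (MulAction.stabilizer Y (v : P)).index = 2 ^ n - 1 := by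
    rw [MulAction.index_stabilizer, ← cO, show MulAction.orbit Y (v : P) = (Om P : Set P) \ {1} from ?_]
    · exact Set.ncard_sdiff_singleton_of_mem (one_mem (Om P))
    ext x
    constructor
    · rintro ⟨g, rfl⟩
      exact ⟨inv_Om _ v.2, (map_ne_one_iff _ (g : MulAut P).injective).2 fun e => v1 (Subtype.ext e)⟩
    · rintro ⟨h1, h2⟩
      obtain ⟨g, hg, e⟩ := h.trans v x (fun e => v1 (Subtype.ext e)) (h.mem_Om.1 v.2) h2 (h.mem_Om.1 h1)
      exact ⟨⟨g, hg⟩, e⟩
  have i2 : (MulAction.stabilizer Y (v : P)).relIndex s.ker = Nat.card aK.range := by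
    rw [← index_ker, relIndex]
    congr 1
    ext g
    rw [MonoidHom.mem_ker, Units.ext_iff]
    change _ ↔ a g = 1
    rw [← ha, ← hv, e.apply_eq_iff_eq, Subtype.ext_iff]
    rfl
  have i3 : s.ker.index ∣ n := by rw [index_ker, ← cA]; exact card_subgroup_dvd_card _
  have i4 := aK.range.card_mul_index
  rw [Nat.card_units, Nat.card_eq_fintype_card (α := F), cF] at i4
  set N := Nat.card aK.range with hN
  have ar : Ar n N := by
    refine ⟨n2, aK.range.index, .trans ?_ i3, by have := Nat.one_le_two_pow (n := n); omega⟩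
    have j1 := relIndex_mul_index (inf_le_left : s.ker ⊓ MulAction.stabilizer Y (v : P) ≤ _)
    have j2 := relIndex_mul_index (inf_le_right : s.ker ⊓ MulAction.stabilizer Y (v : P) ≤ _)
    rw [inf_relIndex_left, i2, ← j2, i1, ← i4, mul_left_comm, Nat.mul_right_inj Nat.card_pos.ne'] at j1
    exact Dvd.intro_left _ j1.symm
  obtain ⟨⟨_, g, rfl⟩, hg⟩ := IsCyclic.exists_generator (α := aK.range)
  have o : orderOf (aK g) = N := 
    (orderOf_coe (⟨_, g, rfl⟩ : aK.range)).trans (orderOf_eq_card_of_forall_mem_zpowers hg)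
  obtain ⟨j, k, c, d⟩ := exists_coprime_part (N := N) (orderOf g) (orderOf_pos g).ne'
  have act : ∀ (i : ℕ) (w : Om P), e (φ ((g : Y) ^ i) w) = (aK g ^ i : Fˣ) * e w := fun i w => by
    rw [hs, ← coe_pow, show σ (g ^ i : s.ker) = 1 from (g ^ i).2, ← map_pow]
    rfl
  have fpf : ∀ i : ℕ, ¬ (N ∣ i) → ∀ x, ((((g : Y) : MulAut P) ^ j) ^ i) x = x → x = 1 :=
    fun i hi x hx => by_contra fun x1 => hi (by
      obtain ⟨t, t1, t2⟩ := exists_inv_mem h.two x1
      have := act (j * i) ⟨_, h.mem_Om.2 t2⟩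
      rw [show φ ((g : Y) ^ (j * i)) ⟨_, h.mem_Om.2 t2⟩ = ⟨_, h.mem_Om.2 t2⟩ from Subtype.ext (by
        rw [← pow_mul] at hx
        exact (map_pow _ x _).trans (congrArg (· ^ 2 ^ t) hx)), eq_comm, mul_eq_right₀ (fun e' =>
        t1 (congrArg Subtype.val (e.injective (e'.trans e1.symm)))), Units.val_eq_one,
        ← orderOf_dvd_iff_pow_eq_one, o] at this
      exact c.dvd_of_dvd_mul_left this)
  have fix : ∀ x, x * x = 1 → ((((g : Y) : MulAut P) ^ j) ^ N) x = x := fun x hx => by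
    have := act (j * N) ⟨x, h.mem_Om.2 hx⟩
    rw [mul_comm, pow_mul (aK g), ← o, pow_orderOf_eq_one, one_pow, Units.val_one, one_mul, o] at this
    rw [← pow_mul, mul_comm]
    exact congrArg Subtype.val (e.injective this)
  refine ⟨F, _, _, inferInstance, ((g : Y) : MulAut P) ^ j, n, N, h.two, ar, cF, ?_, fpf, fix, h.cen, cO⟩
  rw [cF]
  refine h.ord (k := k) ar cO (pow_mem (g : Y).2 j) fpf fix ?_
  rw [← pow_mul]
  exact congrArg (fun x : s.ker => ((x : Y) : MulAut P)) (orderOf_dvd_iff_pow_eq_one.1 d)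

end H76.Shaw
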