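import Mathlib
import Cfsg.Agent.Base
import Cfsg.Agent.Lib.Core.GrpBasic

/-! Trivial intersection Sylow subgroups (helper79). -/

set_option autoImplicit false

namespace H79

open Subgroup
open scoped Pointwise

variable {G : Type*} [Group G]

theorem sylow_ti_iff [Finite G] {p : ℕ} [Fact p.Prime] (P : Sylow p G) :
    (∀ g : G, g ∉ normalizer ((P : Subgroup G) : Set G) →
      (P : Subgroup G) ⊓ (MulAut.conj g • (P : Subgroup G)) = ⊥) ↔
    ∀ (A B : Sylow p G) (x : G), x ≠ 1 → x ∈ (A : Subgroup G) → x ∈ (B : Subgroup G) → A = B := by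
  constructor
  · intro h A B x hx hA hB
    obtain ⟨a, rfl⟩ := MulAction.exists_smul_eq G P A
    obtain ⟨b, rfl⟩ := MulAction.exists_smul_eq G P B
    rw [Sylow.coe_subgroup_smul, H1.mem_conj_smul_iff] at hA hB
    by_cases hn : a⁻¹ * b ∈ normalizer ((P : Subgroup G) : Set G)
    · have := Sylow.smul_eq_iff_mem_normalizer.2 hn
      rw [mul_smul, inv_smul_eq_iff] at this
      exact this.symm
    · have h1 := h _ hn
      have : a⁻¹ * x * a ∈ (P : Subgroup G) ⊓ (MulAut.conj (a⁻¹ * b) • (P : Subgroup G)) := by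
        refine ⟨hA, ?_⟩
        show a⁻¹ * x * a ∈ (MulAut.conj (a⁻¹ * b) • (P : Subgroup G))
        rw [H1.mem_conj_smul_iff]
        convert hB using 1
        group
      rw [h1, mem_bot] at this
      exact absurd (by
        calc x = a * (a⁻¹ * x * a) * a⁻¹ := by group
          _ = 1 := by rw [this]; group) hx
  · intro h g hg
    rw [eq_bot_iff]
    intro x hx
    by_contra hne
    exact hg (Sylow.smul_eq_iff_mem_normalizer.1 (h P (g • P) x hne hx.1 hx.2).symm)

end H79
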