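import Mathlib
import Cfsg.Agent.Base
import Cfsg.Agent.Lib.FGS.NormLem
import Cfsg.Agent.Lib.FrobC.Perfect
import Cfsg.Agent.Lib.PGroup.Basic
import Cfsg.Agent.S0033
import Cfsg.Agent.S0035
import Cfsg.Agent.S0042

/-!
Frobenius kernels described by centralisers; two-Frobenius groups (helper79).
-/

set_option autoImplicit false

namespace H79

open Subgroup Cfsg
open scoped IsMulCommutative

variable {G : Type*} [Group G]

/-- `N` contains the centraliser of each of its non-identity elements, and is proper non-trivial. -/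
def FK (N : Subgroup G) : Prop := N ≠ ⊥ ∧ N ≠ ⊤ ∧ ∀ n ∈ N, n ≠ 1 → centralizer {n} ≤ N

theorem FK.coprime [Finite G] {N : Subgroup G} [N.Normal] (h : FK N) :
    (Nat.card N).Coprime N.index := by
  refine Nat.coprime_of_dvd fun p hp h1 h2 => ?_
  haveI := Fact.mk hp
  obtain ⟨P⟩ : Nonempty (Sylow p G) := inferInstance
  have h3 := H4.not_dvd_relIndex_sylow_of_normal P N
  have h4 : (P : Subgroup G) ⊓ N ≠ ⊥ := by
    intro e
    have := H1.card_inf_mul_relIndex (P : Subgroup G) N
    rw [e, card_bot, one_mul] at this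
    exact h3 (this ▸ h1)
  have h5 : N.subgroupOf P ≠ ⊥ := by
    intro e
    apply h4
    rw [subgroupOf_eq_bot] at e
    rw [inf_comm]; exact e.eq_bot
  obtain ⟨z, hz, hz1⟩ : ∃ z : (P : Subgroup G), z ∈ N.subgroupOf P ⊓ center P ∧ z ≠ 1 :=
    (bot_or_exists_ne_one _).resolve_left (H5.inf_center_ne_bot P.isPGroup' _ h5)
  have hPN : (P : Subgroup G) ≤ N := by
    refine le_trans (fun x hx => ?_) (h.2.2 z hz.1 (fun e => hz1 (Subtype.ext e)))
    rw [mem_centralizer_singleton_iff]
    exact congrArg Subtype.val (mem_center_iff.mp hz.2 ⟨x, hx⟩)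
  exact P.not_dvd_index (h2.trans (index_dvd_of_le hPN))

theorem FK.semiregular {N C : Subgroup G} (h : FK N) (hc : Disjoint N C) :
    ∀ c ∈ C, c ≠ 1 → N ⊓ centralizer {c} = ⊥ := by
  intro c hcC h1
  rw [H2.inf_centralizer_singleton_eq_bot_iff]
  intro k hk e
  by_contra h2
  exact h1 (disjoint_def.mp hc (h.2.2 k hk h2 (mem_centralizer_singleton_iff.mpr e.symm)) hcC)

theorem fk_of_frob [Finite G] {N C : Subgroup G} (hC : IsFrobeniusComplement C)
    (hk : frobeniusKernel C = (N : Set G)) : N.Normal ∧ IsComplement' N C ∧ FK N := by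
  obtain ⟨N', h1, h2, h3⟩ := Cfsg.Agent.S0035.result C hC
  obtain rfl : N' = N := SetLike.coe_injective (h1.trans hk)
  have hb : N' ≠ ⊥ := by
    rintro rfl
    exact hC.2.1 (isComplement'_bot_left.mp h3)
  have ht : N' ≠ ⊤ := by
    rintro rfl
    exact hC.1 (isComplement'_top_left.mp h3)
  refine ⟨h2, h3, hb, ht, fun n hn h4 => ?_⟩
  have := H2.sup_inf_centralizer_le_of_semiregular le_normalizer_of_normal
    ((H2.isFrobeniusComplement_iff_semiregular h3 hb hC.1).mp hC) hn h4
  rwa [h3.sup_eq_top, top_inf_eq] at this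

theorem FK.exists_frob [Finite G] {N : Subgroup G} [N.Normal] (h : FK N) :
    ∃ C : Subgroup G, IsFrobeniusComplement C ∧ frobeniusKernel C = (N : Set G) := by
  obtain ⟨C, hC⟩ := exists_right_complement'_of_coprime h.coprime
  have hb : C ≠ ⊥ := by
    rintro rfl
    exact h.2.1 (isComplement'_bot_right.mp hC)
  have hF := (H2.isFrobeniusComplement_iff_semiregular hC h.1 hb).mpr (h.semiregular hC.disjoint)
  refine ⟨C, hF, ?_⟩
  obtain ⟨N', h1, h2, h3⟩ := Cfsg.Agent.S0035.result C hF
  have hi : N'.index = N.index := by rw [h3.symm.index_eq_card, hC.symm.index_eq_card]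
  have hc : Nat.card N' = Nat.card N := by rw [← h3.index_eq_card, ← hC.index_eq_card]
  rw [← h1, eq_of_le_of_card_ge (H1.le_of_coprime_index (H := N) (N := N') (hi ▸ h.coprime)) hc.le]

theorem fk_iff [Finite G] {N : Subgroup G} [N.Normal] :
    (∃ C : Subgroup G, IsFrobeniusComplement C ∧ frobeniusKernel C = (N : Set G)) ↔ FK N :=
  ⟨fun ⟨_, h1, h2⟩ => (fk_of_frob h1 h2).2.2, FK.exists_frob⟩

theorem FK.isNilpotent [Finite G] {N : Subgroup G} [N.Normal] (h : FK N) : Group.IsNilpotent N := by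
  obtain ⟨C, hC, hk⟩ := h.exists_frob
  obtain ⟨N', h1, -, h3⟩ := Cfsg.Agent.S0042.result C hC
  obtain rfl : N' = N := SetLike.coe_injective (h1.trans hk)
  exact h3

theorem FK.intFPF [Finite G] {N : Subgroup G} [N.Normal] (h : FK N) : H82.IntFPF (G ⧸ N) := by
  obtain ⟨C, hC, hk⟩ := h.exists_frob
  exact (H82.intFPF_of_isFrob hC).of_equiv (fk_of_frob hC hk).2.1.symm.QuotientMulEquiv.symm

theorem FK.inf_centralizer [Finite G] {N : Subgroup G} (h : FK N) {g : G} (hg : g ∉ N) :
    N ⊓ centralizer {g} = ⊥ := by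
  rw [H2.inf_centralizer_singleton_eq_bot_iff]
  intro k hk e
  by_contra h2
  exact hg (h.2.2 k hk h2 (mem_centralizer_singleton_iff.mpr e.symm))

theorem FK.exists_prime [Finite G] {N : Subgroup G} [N.Normal] (h : FK N) {q : ℕ} (hq : q.Prime)
    (hd : q ∣ N.index) : ∃ g : G, orderOf g = q ∧ g ∉ N := by
  haveI := Fact.mk hq
  obtain ⟨g, hg⟩ := exists_prime_orderOf_dvd_card' q (hd.trans (index_dvd_card N))
  refine ⟨g, hg, fun hN => hq.one_lt.ne' ?_⟩
  exact Nat.eq_one_of_dvd_coprimes h.coprime (hg ▸ H1.orderOf_dvd_card_of_mem hN) hd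

/-- a Frobenius complement with a fixed point free automorphism of prime order is cyclic of odd order -/
theorem isCyclic_of_intFPF_of_fpf [Finite G] {N : Subgroup G} [N.Normal] (hN : H82.IntFPF N) {g : G}
    (hg : (orderOf g).Prime) (hf : N ⊓ centralizer {g} = ⊥) : IsCyclic N ∧ Odd (Nat.card N) := by
  rw [H2.inf_centralizer_singleton_eq_bot_iff] at hf
  have hodd : Odd (Nat.card N) := by
    rw [← Nat.not_even_iff_odd]
    intro he
    obtain ⟨z, hz⟩ := exists_prime_orderOf_dvd_card' 2 he.two_dvd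
    have := congrArg Subtype.val
      (hN.invol_unique (((MulAut.conjNormal g : MulAut N).orderOf_eq z).trans hz) hz)
    rw [MulAut.conjNormal_apply] at this
    have h1 := hf z z.2 (mul_inv_eq_iff_eq_mul.mp this).symm
    rw [← orderOf_coe, h1] at hz
    simp at hz
  refine ⟨?_, hodd⟩
  haveI := hN.isZGroup_of_odd (Nat.coprime_two_right.mpr hodd)
  have hφ : MonoidHom.FixedPointFree ((MulAut.conjNormal g : MulAut N) : N →* N) := by
    intro x hx
    have := congrArg Subtype.val hx
    simp only [MonoidHom.coe_coe, MulAut.conjNormal_apply] at this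
    exact Subtype.ext (hf x x.2 (mul_inv_eq_iff_eq_mul.mp this).symm)
  by_cases h1 : (MulAut.conjNormal g : MulAut N) = 1
  · haveI : Subsingleton N := ⟨fun a b => by rw [hφ a (by simp [h1]), hφ b (by simp [h1])]⟩
    infer_instance
  haveI := Fact.mk hg
  haveI := Cfsg.Agent.S0033.result _ hφ _ hg
    (orderOf_eq_prime (by rw [← map_pow, pow_orderOf_eq_one, map_one]) h1)
  infer_instance

/-- `G / N` is abelian if `N` is cyclic, normal and self-centralising -/
theorem quotient_comm_of_isCyclic {N : Subgroup G} [N.Normal] [IsCyclic N]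
    (h : centralizer (N : Set G) ≤ N) (a b : G ⧸ N) : a * b = b * a := by
  obtain ⟨a, rfl⟩ := QuotientGroup.mk_surjective a
  obtain ⟨b, rfl⟩ := QuotientGroup.mk_surjective b
  refine QuotientGroup.eq.mpr (h fun f hf => ?_)
  haveI : IsMulCommutative (MulAut N) := ⟨⟨fun x y => (IsCyclic.mulAutMulEquiv N).injective (by
    rw [map_mul, map_mul, mul_comm])⟩⟩
  have e : (MulAut.conjNormal ((a * b)⁻¹ * (b * a)) : MulAut N) = 1 := by
    rw [map_mul, map_inv, map_mul, map_mul, mul_comm (MulAut.conjNormal b), inv_mul_cancel]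
  have := congrArg Subtype.val (congrArg (fun φ : MulAut N => φ ⟨f, hf⟩) e)
  simp only [MulAut.conjNormal_apply, MulAut.one_apply] at this
  exact (mul_inv_eq_iff_eq_mul.mp this).symm

theorem nonempty_quotient_equiv_map (H K : Subgroup G) [H.Normal] :
    Nonempty ((K ⧸ H.subgroupOf K) ≃* K.map (QuotientGroup.mk' H)) := by
  let f : K →* K.map (QuotientGroup.mk' H) := (QuotientGroup.mk' H).subgroupMap K
  have hf : Function.Surjective f := (QuotientGroup.mk' H).subgroupMap_surjective K
  have hk : H.subgroupOf K = f.ker := by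
    ext x
    rw [mem_subgroupOf, MonoidHom.mem_ker, Subtype.ext_iff]
    exact (QuotientGroup.eq_one_iff (x : G)).symm
  exact ⟨(QuotientGroup.quotientMulEquivOfEq hk).trans (QuotientGroup.quotientKerEquivOfSurjective f hf)⟩

end H79
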