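import Mathlib
import Cfsg.Agent.Lib.FGS.CyclicAux
import Cfsg.Agent.Lib.Core.CoprimeExt
import Cfsg.Agent.Lib.Core.GrpBasic
import Cfsg.Agent.Lib.Core.Fitting

/-! Coprime action on a group all of whose Sylow subgroups are cyclic. -/

set_option autoImplicit false

namespace H80

open Subgroup Cfsg H68
open scoped commutatorElement

variable {G : Type*} [Group G]

theorem commutator_le_centralizer_of_isCyclic {H A B : Subgroup G} (hH : IsCyclic H)
    (hA : A ≤ normalizer (H : Set G)) (hB : B ≤ normalizer (H : Set G)) :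
    ⁅A, B⁆ ≤ centralizer (H : Set G) := by
  rw [commutator_le]
  intro a ha b hb
  let _ := (hH.mulAutMulEquiv _).toMonoidHom.commGroupOfInjective (hH.mulAutMulEquiv _).injective
  have h : (⁅(⟨a, hA ha⟩ : normalizer (H : Set G)), ⟨b, hB hb⟩⁆ : normalizer (H : Set G)) ∈
      H.normalizerMonoidHom.ker := by
    rw [MonoidHom.mem_ker, map_commutatorElement, commutatorElement_eq_one_iff_mul_comm, mul_comm]
  rw [normalizerMonoidHom_ker] at h
  exact h

theorem isCyclic_inf_centralizer_commutator [Finite G] {K : Subgroup G} (hK : IsZGroup K) :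
    IsCyclic (K ⊓ centralizer ((⁅K, K⁆ : Subgroup G) : Set G) : Subgroup G) := by
  set D := K ⊓ centralizer ((⁅K, K⁆ : Subgroup G) : Set G)
  have : IsZGroup D := IsZGroup.of_injective (inclusion_injective (inf_le_left : D ≤ K))
  have : IsMulCommutative D := by
    refine (Abelianization.of.comp
      (inclusion (inf_le_left : D ≤ K))).isMulCommutative_of_isCyclic_of_ker_le_center ?_
    intro x hx
    have h1 : (x : G) ∈ ⁅K, K⁆ := by
      exact (map_subtype_commutator K).le
        ⟨inclusion inf_le_left x, (QuotientGroup.eq_one_iff _).1 hx, rfl⟩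
    exact mem_center_iff.2 fun y => Subtype.ext (y.2.2 x h1).symm
  have := H1.isNilpotent_of_isMulCommutative (H := D)
  infer_instance

theorem isCyclic_commutator_of_isZGroup [Finite G] {K : Subgroup G} (hK : IsZGroup K) :
    IsCyclic (⁅K, K⁆ : Subgroup G) := by
  rw [← map_subtype_commutator]
  have := IsZGroup.isCyclic_commutator (G := K)
  exact isCyclic_of_surjective _ (K.subtype.subgroupMap_surjective _)

theorem zact_isCyclic [Finite G] {A K : Subgroup G} (hK : IsZGroup K)
    (hAK : A ≤ normalizer (K : Set G)) : IsCyclic (⁅K, A⁆ : Subgroup G) := by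
  have := isCyclic_inf_centralizer_commutator hK
  exact isCyclic_of_le (le_inf (H2.commutator_le_of_le_normalizer hAK)
    (commutator_le_centralizer_of_isCyclic (isCyclic_commutator_of_isZGroup hK)
      (H2.le_normalizer_commutator le_normalizer le_normalizer)
      (H2.le_normalizer_commutator hAK hAK)))

theorem zact_inf_eq_bot [Finite G] {A K : Subgroup G} (hK : IsZGroup K)
    (hAK : A ≤ normalizer (K : Set G)) (hcop : (Nat.card A).Coprime (Nat.card K)) :
    ⁅K, A⁆ ⊓ centralizer (A : Set G) = ⊥ := by
  have := zact_isCyclic hK hAK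
  have h := H2.commutator_inf_centralizer_eq_bot (V := ⁅K, A⁆) IsCyclic.isMulCommutative
    (H2.le_normalizer_commutator hAK le_normalizer)
    (H2.coprime_of_le_right hcop (H2.commutator_le_of_le_normalizer hAK))
  rwa [H2.commutator_commutator_eq hAK hcop] at h

theorem zact_card [Finite G] {A K : Subgroup G} (hK : IsZGroup K)
    (hAK : A ≤ normalizer (K : Set G)) (hcop : (Nat.card A).Coprime (Nat.card K)) :
    Nat.card K = Nat.card (⁅K, A⁆ : Subgroup G) *
      Nat.card (K ⊓ centralizer (A : Set G) : Subgroup G) := by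
  conv_lhs => rw [← H2.commutator_sup_centralizer hAK hcop (Or.inr inferInstance)]
  apply H2.card_sup_of_le_normalizer (inf_le_left.trans (normalizer_commutator_ge_left _ _))
  rw [eq_bot_iff, ← zact_inf_eq_bot hK hAK hcop]
  exact le_inf inf_le_right (inf_le_left.trans inf_le_right)

theorem zact_coprime [Finite G] {A K : Subgroup G} (hK : IsZGroup K)
    (hAK : A ≤ normalizer (K : Set G)) (hcop : (Nat.card A).Coprime (Nat.card K)) :
    (Nat.card (K ⊓ centralizer (A : Set G) : Subgroup G)).Coprime
      (Nat.card (⁅K, A⁆ : Subgroup G)) := by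
  apply Nat.coprime_of_dvd
  intro p hp h1 h2
  have := Fact.mk hp
  obtain ⟨P, hP, hPA⟩ := H2.exists_invariant_sylowIn hAK hcop (Or.inr inferInstance) p
  have h3 := (H2.sylowIn_inf_centralizer hAK hcop (Or.inr inferInstance) hP hPA).ne_bot h1
  have h4 := (hP.inf_of_normal_le (normalizer_commutator_ge_left _ _)
    (H2.commutator_le_of_le_normalizer hAK)).ne_bot h2
  have hc : IsCyclic P := by
    have := (isPGroup_subgroupOf hP.isPGroup K).isCyclic_of_isZGroup
    exact isCyclic_of_surjective _ (subgroupOfEquivOfLe hP.le).surjective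
  have h5 := zact_inf_eq_bot hK hAK hcop
  rcases le_total_of_isCyclic_of_isPGroup hc hP.isPGroup (inf_le_left : P ⊓ ⁅K, A⁆ ≤ P)
    (inf_le_left : P ⊓ centralizer (A : Set G) ≤ P) with h | h
  · exact h4 (eq_bot_iff.2 (h5 ▸ le_inf inf_le_right (h.trans inf_le_right)))
  · exact h3 (eq_bot_iff.2 (h5 ▸ le_inf (h.trans inf_le_right) inf_le_right))

end H80
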